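import Mathlib
import Cfsg.Agent.Lib.Helper1.CharCoset
import Cfsg.Agent.Lib.Helper1.CharCyc
import Cfsg.Agent.Lib.Helper1.CharMore
import Cfsg.Agent.Lib.Helper1.CharSchur
import Cfsg.Agent.S0896

set_option autoImplicit false
open Cfsg
open scoped ComplexConjugate

namespace Cfsg.Agent.Lib.Helper10.Glaub

open Cfsg.Agent.Lib.Helper1

universe u v

/-- A non-constant integer family on `n` points has `n * Σ a² - (Σ a)² ≥ n - 1`. -/
theorem comb_bound {Λ : Type*} [Fintype Λ] (a : Λ → ℤ) (hne : ∃ l₁ l₂, a l₁ ≠ a l₂) :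
    (Fintype.card Λ : ℤ) - 1 ≤ (Fintype.card Λ : ℤ) * ∑ l, a l ^ 2 - (∑ l, a l) ^ 2 := by
  classical
  obtain ⟨l₁, l₂, h12⟩ := hne
  set c := a l₁ with hc
  set b : Λ → ℤ := fun l => a l - c with hb
  set P : ℤ := (Fintype.card Λ : ℤ) with hP
  have e1 : ∑ l, a l = ∑ l, b l + P * c := by
    simp only [hb, Finset.sum_sub_distrib, Finset.sum_const, Finset.card_univ, nsmul_eq_mul, hP]
    ring
  have e2 : ∑ l, a l ^ 2 = ∑ l, b l ^ 2 + 2 * c * ∑ l, b l + P * c ^ 2 := by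
    have : ∀ l, a l ^ 2 = b l ^ 2 + 2 * c * b l + c ^ 2 := by
      intro l; simp only [hb]; ring
    simp only [this, Finset.sum_add_distrib, ← Finset.mul_sum, Finset.sum_const, Finset.card_univ,
      nsmul_eq_mul, hP]
  have e3 : P * ∑ l, a l ^ 2 - (∑ l, a l) ^ 2 = P * ∑ l, b l ^ 2 - (∑ l, b l) ^ 2 := by
    rw [e1, e2]; ring
  rw [e3]
  set T : Finset Λ := Finset.univ.filter (fun l => b l ≠ 0) with hT
  have hs1 : ∑ l, b l = ∑ l ∈ T, b l := by
    rw [hT, Finset.sum_filter_ne_zero]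
  have hs2 : ∑ l, b l ^ 2 = ∑ l ∈ T, b l ^ 2 := by
    rw [hT]
    symm
    apply Finset.sum_filter_of_ne
    intro l _ hl h0
    exact hl (by rw [h0]; ring)
  have hcs : (∑ l ∈ T, b l) ^ 2 ≤ (T.card : ℤ) * ∑ l ∈ T, b l ^ 2 := sq_sum_le_card_mul_sum_sq
  have hge : (T.card : ℤ) ≤ ∑ l ∈ T, b l ^ 2 := by
    have h1 : ∑ l ∈ T, (1 : ℤ) ≤ ∑ l ∈ T, b l ^ 2 := by
      apply Finset.sum_le_sum
      intro l hl
      have hl0 : b l ≠ 0 := (Finset.mem_filter.mp hl).2
      have : 0 < b l ^ 2 := by positivity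
      omega
    simpa using h1
  have hn1 : 1 ≤ (T.card : ℤ) := by
    have : l₂ ∈ T := by
      rw [hT, Finset.mem_filter]
      refine ⟨Finset.mem_univ _, ?_⟩
      simp only [hb]
      intro h
      exact h12 (by linarith)
    have := Finset.card_pos.mpr ⟨l₂, this⟩
    exact_mod_cast this
  have hn2 : (T.card : ℤ) ≤ P - 1 := by
    have h1 : l₁ ∉ T := by
      rw [hT, Finset.mem_filter]
      simp [hb, hc]
    have h2 : T ⊆ Finset.univ.erase l₁ := by
      intro l hl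
      rw [Finset.mem_erase]
      exact ⟨fun h => h1 (h ▸ hl), Finset.mem_univ _⟩
    have h3 := Finset.card_le_card h2
    rw [Finset.card_erase_of_mem (Finset.mem_univ _), Finset.card_univ] at h3
    have h4 : 0 < Fintype.card Λ := Fintype.card_pos_iff.mpr ⟨l₁⟩
    rw [hP]
    omega
  rw [hs1, hs2]
  nlinarith [mul_nonneg (sub_nonneg.mpr hn1) (sub_nonneg.mpr hn2),
    mul_nonneg (sub_nonneg.mpr hn2) (sub_nonneg.mpr hge)]

/-- Fibre counting for a twisted conjugation map. -/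
theorem fibre_count {G : Type u} [Group G] [Fintype G] {C : Type v} [Group C] [Fintype C]
    (ι : C →* G) (hι : Function.Injective ι) (σ : G → G)
    (hkey : ∀ (y : G) (c c' : C), y * ι c * (σ y)⁻¹ = ι c' → ∃ u : C, y = ι u)
    (hσmul : ∀ x y : G, σ (x * y) = σ x * σ y)
    (Θ : G → ℂ) (hΘ : ∀ x g : G, Θ (x * g * (σ x)⁻¹) = Θ g) :
    (Nat.card C : ℂ) * ∑ g, Θ g = (Nat.card G : ℂ) * ∑ c, Θ (ι c) := by
  classical
  let Ψ : G × C → G := fun a => a.1 * ι a.2 * (σ a.1)⁻¹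
  have hσ1 : σ 1 = 1 := by
    have := hσmul 1 1
    rw [mul_one] at this
    exact (mul_eq_left.mp this.symm)
  have hσinv : ∀ x : G, σ x⁻¹ = (σ x)⁻¹ := by
    intro x
    have := hσmul x⁻¹ x
    rw [inv_mul_cancel, hσ1] at this
    exact eq_inv_of_mul_eq_one_left this.symm
  have hle : ∀ g : G, (Finset.univ.filter (fun a : G × C => Ψ a = g)).card ≤ Fintype.card C := by
    intro g
    by_cases hemp : (Finset.univ.filter (fun a : G × C => Ψ a = g)) = ∅
    · rw [hemp]; simp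
    obtain ⟨a₀, ha₀⟩ := Finset.nonempty_iff_ne_empty.mpr hemp
    have ha₀' : Ψ a₀ = g := (Finset.mem_filter.mp ha₀).2
    have hex : ∀ a : G × C, Ψ a = g → ∃ u : C, a₀.1⁻¹ * a.1 = ι u := by
      intro a ha
      apply hkey (a₀.1⁻¹ * a.1) a.2 a₀.2
      have h1 : a.1 * ι a.2 * (σ a.1)⁻¹ = a₀.1 * ι a₀.2 * (σ a₀.1)⁻¹ := ha.trans ha₀'.symm
      rw [hσmul, hσinv, mul_inv_rev, inv_inv]
      calc a₀.1⁻¹ * a.1 * ι a.2 * ((σ a.1)⁻¹ * σ a₀.1)
          = a₀.1⁻¹ * (a.1 * ι a.2 * (σ a.1)⁻¹) * σ a₀.1 := by group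
        _ = a₀.1⁻¹ * (a₀.1 * ι a₀.2 * (σ a₀.1)⁻¹) * σ a₀.1 := by rw [h1]
        _ = ι a₀.2 := by group
    let f : G × C → C := fun a => if h : Ψ a = g then (hex a h).choose else 1
    have hf : ∀ a : G × C, Ψ a = g → a₀.1⁻¹ * a.1 = ι (f a) := by
      intro a ha
      simp only [f, dif_pos ha]
      exact (hex a ha).choose_spec
    rw [← Finset.card_univ]
    apply Finset.card_le_card_of_injOn f (fun a _ => Finset.mem_univ _)
    intro a ha b hb hab
    have ha' : Ψ a = g := (Finset.mem_filter.mp ha).2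
    have hb' : Ψ b = g := (Finset.mem_filter.mp hb).2
    have h1 := hf a ha'
    have h2 := hf b hb'
    rw [hab] at h1
    have h3 : a.1 = b.1 := by
      have := h1.trans h2.symm
      exact mul_left_cancel this
    have h4 : ι a.2 = ι b.2 := by
      have h5 : a.1 * ι a.2 * (σ a.1)⁻¹ = b.1 * ι b.2 * (σ b.1)⁻¹ := ha'.trans hb'.symm
      rw [h3] at h5
      exact mul_left_cancel (mul_right_cancel h5)
    exact Prod.ext h3 (hι h4)
  have htot : ∑ g : G, (Finset.univ.filter (fun a : G × C => Ψ a = g)).card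
      = Fintype.card G * Fintype.card C := by
    rw [← Finset.card_eq_sum_card_fiberwise (f := Ψ) (s := Finset.univ) (t := Finset.univ)
      (fun a _ => Finset.mem_univ _)]
    rw [Finset.card_univ, Fintype.card_prod]
  have heq : ∀ g : G, (Finset.univ.filter (fun a : G × C => Ψ a = g)).card = Fintype.card C := by
    by_contra hcon
    push Not at hcon
    obtain ⟨g₀, hg₀⟩ := hcon
    have hlt : ∑ g : G, (Finset.univ.filter (fun a : G × C => Ψ a = g)).card
        < ∑ _g : G, Fintype.card C := by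
      apply Finset.sum_lt_sum (fun g _ => hle g)
      exact ⟨g₀, Finset.mem_univ _, lt_of_le_of_ne (hle g₀) hg₀⟩
    rw [htot, Finset.sum_const, Finset.card_univ, smul_eq_mul] at hlt
    exact lt_irrefl _ hlt
  have h1 : ∑ a : G × C, Θ (Ψ a) = ∑ g : G, (Fintype.card C : ℂ) * Θ g := by
    rw [← Finset.sum_fiberwise (s := Finset.univ) (g := Ψ) (f := fun a => Θ (Ψ a))]
    refine Finset.sum_congr rfl (fun g _ => ?_)
    rw [Finset.sum_congr rfl (fun a ha => by rw [(Finset.mem_filter.mp ha).2] :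
      ∀ a ∈ Finset.univ.filter (fun a : G × C => Ψ a = g), Θ (Ψ a) = Θ g)]
    rw [Finset.sum_const, heq g, nsmul_eq_mul]
  have h2 : ∑ a : G × C, Θ (Ψ a) = ∑ _x : G, ∑ c : C, Θ (ι c) := by
    rw [Fintype.sum_prod_type]
    refine Finset.sum_congr rfl (fun x _ => Finset.sum_congr rfl (fun c _ => ?_))
    exact hΘ x (ι c)
  rw [Nat.card_eq_fintype_card, Nat.card_eq_fintype_card, Finset.mul_sum, ← h1, h2,
    Finset.sum_const, Finset.card_univ, nsmul_eq_mul]

end Cfsg.Agent.Lib.Helper10.Glaub
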