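import Mathlib
import Cfsg.Agent.Lib.Helper10.Glaub1

set_option autoImplicit false
open Cfsg
open scoped ComplexConjugate

namespace Cfsg.Agent.Lib.Helper10.Glaub

open Cfsg.Agent.Lib.Helper1

universe u v

/-- Parseval for class functions. -/
theorem parseval {G : Type u} [Group G] [Fintype G] [Fintype (IrrCharacter G)] {f : G → ℂ}
    (hf : IsClassFunction G f) :
    classInner f f = ∑ χ : IrrCharacter G, classInner f (χ : G → ℂ) * conj (classInner f (χ : G → ℂ)) := by
  conv_lhs => rw [classFunction_expansion hf]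
  rw [classInner_sum_right]
  refine Finset.sum_congr rfl (fun χ _ => ?_)
  rw [classInner_smul_right, ← classFunction_expansion hf, mul_comm]

/-- Weighted orbit counting modulo `p`. -/
theorem sum_modEq_fixed {E Ω : Type*} [Group E] [MulAction E Ω] [Fintype Ω]
    (p : ℕ) (w : Ω → ℤ) (hw : ∀ (e : E) (ω : Ω), w (e • ω) = w ω)
    (horb : ∀ ω : Ω, ∃ j : ℕ, Nat.card (MulAction.orbit E ω) = p ^ j) (F : Finset Ω)
    (hF : ∀ ω, ω ∈ F ↔ ∀ e : E, e • ω = ω) :
    ∑ ω, w ω ≡ ∑ ω ∈ F, w ω [ZMOD p] := by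
  classical
  have hsplit : ∑ ω, w ω = ∑ ω ∈ F, w ω + ∑ ω, (if ω ∈ F then 0 else w ω) := by
    rw [← Finset.sum_filter_add_sum_filter_not Finset.univ (fun ω => ω ∈ F)]
    congr 1
    · apply Finset.sum_congr
      · ext ω; simp
      · intro _ _; rfl
    · rw [Finset.sum_filter]
      apply Finset.sum_congr rfl
      intro ω _
      by_cases h : ω ∈ F <;> simp [h]
  rw [hsplit]
  have hdvd : (p : ℤ) ∣ ∑ ω, (if ω ∈ F then 0 else w ω) := by
    haveI : Fintype (MulAction.orbitRel.Quotient E Ω) := Fintype.ofFinite _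
    haveI : ∀ q : MulAction.orbitRel.Quotient E Ω, Fintype (MulAction.orbit E q.out) :=
      fun q => Fintype.ofFinite _
    rw [← Equiv.sum_comp (MulAction.selfEquivSigmaOrbits E Ω).symm, Fintype.sum_sigma]
    apply Finset.dvd_sum
    intro q _
    by_cases hq : q.out ∈ F
    · have h1 : ∀ x : MulAction.orbit E q.out,
          (if (MulAction.selfEquivSigmaOrbits E Ω).symm ⟨q, x⟩ ∈ F then (0 : ℤ)
            else w ((MulAction.selfEquivSigmaOrbits E Ω).symm ⟨q, x⟩)) = 0 := by
        intro x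
        have h2 : (MulAction.selfEquivSigmaOrbits E Ω).symm ⟨q, x⟩ = (x : Ω) := rfl
        rw [h2]
        obtain ⟨e, he⟩ := x.2
        have : (x : Ω) = q.out := by
          rw [← he]; exact (hF _).mp hq e
        rw [this, if_pos hq]
      rw [Finset.sum_congr rfl (fun x _ => h1 x), Finset.sum_const_zero]
      exact dvd_zero _
    · have h1 : ∀ x : MulAction.orbit E q.out,
          (if (MulAction.selfEquivSigmaOrbits E Ω).symm ⟨q, x⟩ ∈ F then (0 : ℤ)
            else w ((MulAction.selfEquivSigmaOrbits E Ω).symm ⟨q, x⟩)) = w q.out := by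
        intro x
        have h2 : (MulAction.selfEquivSigmaOrbits E Ω).symm ⟨q, x⟩ = (x : Ω) := rfl
        rw [h2]
        obtain ⟨e, he⟩ := x.2
        have hx : (x : Ω) ∉ F := by
          intro hxF
          apply hq
          rw [hF]
          intro e'
          have h3 := (hF _).mp hxF
          have h4 : q.out = e⁻¹ • (x : Ω) := by
            rw [← he]; simp
          rw [h4, h3 e⁻¹, h3 e']
        rw [if_neg hx, ← he]
        exact hw e _
      rw [Finset.sum_congr rfl (fun x _ => h1 x), Finset.sum_const, Finset.card_univ, nsmul_eq_mul,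
        ← Nat.card_eq_fintype_card]
      obtain ⟨j, hj⟩ := horb q.out
      rcases Nat.eq_zero_or_pos j with h0 | h0
      · exfalso
        apply hq
        rw [hF]
        intro e
        rw [h0, pow_zero] at hj
        have h3 : Subsingleton (MulAction.orbit E q.out) :=
          (Nat.card_eq_one_iff_unique.mp hj).1
        have h4 := Subsingleton.elim (⟨e • q.out, MulAction.mem_orbit _ e⟩ : MulAction.orbit E q.out)
          ⟨q.out, MulAction.mem_orbit_self _⟩
        exact congrArg Subtype.val h4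
      · rw [hj]
        apply Dvd.dvd.mul_right
        have : (p : ℤ) ∣ (p : ℤ) ^ j := dvd_pow_self _ h0.ne'
        exact_mod_cast this
  obtain ⟨k, hk⟩ := hdvd
  rw [hk]
  have : (∑ ω ∈ F, w ω + (p : ℤ) * k) ≡ ∑ ω ∈ F, w ω + 0 [ZMOD p] := by
    apply Int.ModEq.add_left
    rw [Int.modEq_zero_iff_dvd]
    exact Dvd.intro k rfl
  rw [add_zero] at this
  exact this

/-- The combinatorial extraction: a nonnegative family with total defect `p - 1`. -/
theorem extract {I Λ : Type*} [Fintype I] [Fintype Λ] (p : ℕ) (hp : 2 ≤ p)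
    (hΛ : Fintype.card Λ = p) (a : I → Λ → ℤ)
    (hsum : ∑ γ, ((p : ℤ) * ∑ l, a γ l ^ 2 - (∑ l, a γ l) ^ 2) = (p : ℤ) - 1) :
    ∃ β : I, ((p : ℤ) * ∑ l, a β l ^ 2 - (∑ l, a β l) ^ 2 = (p : ℤ) - 1) ∧
      ∀ γ : I, γ ≠ β → ∃ k : ℤ, ∀ l, a γ l = k := by
  classical
  set D : I → ℤ := fun γ => (p : ℤ) * ∑ l, a γ l ^ 2 - (∑ l, a γ l) ^ 2 with hD
  have hD0 : ∀ γ, 0 ≤ D γ := by
    intro γ
    have h := sq_sum_le_card_mul_sum_sq (s := (Finset.univ : Finset Λ)) (f := a γ)
    rw [Finset.card_univ, hΛ] at h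
    simp only [hD]
    linarith
  have hDc : ∀ γ, (∃ l₁ l₂, a γ l₁ ≠ a γ l₂) → (p : ℤ) - 1 ≤ D γ := by
    intro γ h
    have := comb_bound (a γ) h
    rw [hΛ] at this
    exact this
  have hp1 : (1 : ℤ) ≤ (p : ℤ) - 1 := by
    have : (2 : ℤ) ≤ (p : ℤ) := by exact_mod_cast hp
    linarith
  have hex : ∃ β, ∃ l₁ l₂, a β l₁ ≠ a β l₂ := by
    by_contra hcon
    push Not at hcon
    have hall : ∀ γ, D γ = 0 := by
      intro γ
      rcases isEmpty_or_nonempty Λ with hemp | ⟨⟨l₀⟩⟩
      · exfalso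
        rw [Fintype.card_eq_zero] at hΛ
        omega
      · have hc : ∀ l, a γ l = a γ l₀ := fun l => hcon γ l l₀
        simp only [hD]
        rw [Finset.sum_congr rfl (fun l _ => by rw [hc l] : ∀ l ∈ Finset.univ, a γ l ^ 2 = a γ l₀ ^ 2),
          Finset.sum_congr rfl (fun l _ => hc l : ∀ l ∈ Finset.univ, a γ l = a γ l₀)]
        simp only [Finset.sum_const, Finset.card_univ, hΛ, nsmul_eq_mul]
        ring
    have : ∑ γ, D γ = 0 := Finset.sum_eq_zero (fun γ _ => hall γ)
    rw [this] at hsum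
    linarith
  obtain ⟨β, hβ⟩ := hex
  have hothers : ∀ γ : I, γ ≠ β → ¬ ∃ l₁ l₂, a γ l₁ ≠ a γ l₂ := by
    intro γ hγ hne
    have h1 : D β + D γ ≤ ∑ γ', D γ' := by
      have h2 : ∑ γ' ∈ ({β, γ} : Finset I), D γ' ≤ ∑ γ', D γ' :=
        Finset.sum_le_sum_of_subset_of_nonneg (Finset.subset_univ _) (fun i _ _ => hD0 i)
      rw [Finset.sum_pair (Ne.symm hγ)] at h2
      exact h2
    have h3 := hDc β hβ
    have h4 := hDc γ hne
    rw [hsum] at h1
    linarith
  refine ⟨β, ?_, ?_⟩
  · have h1 : ∑ γ', D γ' = D β := by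
      apply Finset.sum_eq_single β
      · intro γ _ hγ
        have hcon := hothers γ hγ
        push Not at hcon
        rcases isEmpty_or_nonempty Λ with hemp | ⟨⟨l₀⟩⟩
        · exfalso
          rw [Fintype.card_eq_zero] at hΛ
          omega
        · have hc : ∀ l, a γ l = a γ l₀ := fun l => hcon l l₀
          simp only [hD]
          rw [Finset.sum_congr rfl (fun l _ => by rw [hc l] : ∀ l ∈ Finset.univ, a γ l ^ 2 = a γ l₀ ^ 2),
            Finset.sum_congr rfl (fun l _ => hc l : ∀ l ∈ Finset.univ, a γ l = a γ l₀)]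
          simp only [Finset.sum_const, Finset.card_univ, hΛ, nsmul_eq_mul]
          ring
      · intro h; exact absurd (Finset.mem_univ _) h
    have h5 : D β = (p : ℤ) - 1 := by rw [← h1]; exact hsum
    exact h5
  · intro γ hγ
    have hcon := hothers γ hγ
    push Not at hcon
    rcases isEmpty_or_nonempty Λ with hemp | ⟨⟨l₀⟩⟩
    · exact ⟨0, fun l => (hemp.false l).elim⟩
    · exact ⟨a γ l₀, fun l => hcon l l₀⟩

end Cfsg.Agent.Lib.Helper10.Glaub
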