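import Mathlib
import Cfsg.Agent.Lib.Helper10.Glaub2

set_option autoImplicit false
open Cfsg
open scoped ComplexConjugate

namespace Cfsg.Agent.Lib.Helper10.Glaub

open Cfsg.Agent.Lib.Helper1 SemidirectProduct

universe u

section sd

variable {G : Type u} [Group G] [Fintype G] {Z : Type u} [Group Z] [Fintype Z]
  (φ : Z →* MulAut G)

/-- The `Fintype` structure on a semidirect product (not an instance). -/
@[reducible] noncomputable def sdFintype : Fintype (G ⋊[φ] Z) :=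
  Fintype.ofEquiv _ SemidirectProduct.equivProd.symm

/-- The normal subgroup `G` of the semidirect product. -/
def sdN : Subgroup (G ⋊[φ] Z) := (inl : G →* G ⋊[φ] Z).range

instance sdN_normal : (sdN φ).Normal := by
  unfold sdN
  rw [range_inl_eq_ker_rightHom]
  infer_instance

/-- `G ≃* sdN`. -/
noncomputable def sdE : G ≃* sdN φ := MonoidHom.ofInjective (inl_injective (φ := φ))

theorem sdE_apply (g : G) : ((sdE φ g : sdN φ) : G ⋊[φ] Z) = inl g := rfl

theorem sdE_symm_eq (n : sdN φ) (g : G) (h : (n : G ⋊[φ] Z) = inl g) :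
    (sdE φ).symm n = g := by
  rw [MulEquiv.symm_apply_eq]
  exact Subtype.ext h

theorem sd_mem (g : G) : (inl g : G ⋊[φ] Z) ∈ sdN φ := ⟨g, rfl⟩

theorem sd_conj (x : G) (g : G) (z : Z) :
    (inl (x * g * (φ z x)⁻¹) * inr z : G ⋊[φ] Z) = inl x * (inl g * inr z) * (inl x)⁻¹ := by
  rw [← map_inv, map_mul, map_mul, inl_aut, map_inv, map_inv]
  group

theorem sd_restrict {χh : G ⋊[φ] Z → ℂ} {χ : G → ℂ} (h : ∀ g, χh (inl g) = χ g) :
    (fun n : sdN φ => χh n) = χ ∘ (sdE φ).symm := by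
  funext n
  obtain ⟨g, hg⟩ := n.2
  simp only [Function.comp]
  rw [sdE_symm_eq φ n g hg.symm, ← hg]
  exact h g

theorem sd_extend (hcyc : IsCyclic Z) {χ : G → ℂ} (hχ : IsIrrCharacter G χ)
    (hinv : ∀ z g, χ (φ z g) = χ g) :
    ∃ χh : G ⋊[φ] Z → ℂ, IsIrrCharacter (G ⋊[φ] Z) χh ∧ ∀ g, χh (inl g) = χ g := by
  classical
  haveI : Fintype (G ⋊[φ] Z) := sdFintype φ
  have hϑ : IsIrrCharacter (sdN φ) (χ ∘ (sdE φ).symm) := IsIrrCharacter.comp_mulEquiv hχ _
  have hcycQ : IsCyclic ((G ⋊[φ] Z) ⧸ sdN φ) := by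
    haveI := hcyc
    apply isCyclic_of_surjective ((QuotientGroup.mk' (sdN φ)).comp (inr : Z →* G ⋊[φ] Z))
    intro q
    obtain ⟨x, rfl⟩ := QuotientGroup.mk_surjective q
    refine ⟨x.right, ?_⟩
    simp only [MonoidHom.coe_comp, Function.comp, QuotientGroup.mk'_apply]
    rw [QuotientGroup.eq]
    have : (inr x.right)⁻¹ * x = (inr x.right)⁻¹ * inl x.left * inr x.right := by
      have hx := inl_left_mul_inr_right x
      calc (inr x.right)⁻¹ * x = (inr x.right)⁻¹ * (inl x.left * inr x.right) := by rw [hx]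
        _ = _ := by group
    rw [this]
    have h2 := inl_aut_inv (φ := φ) x.right x.left
    rw [map_inv] at h2
    rw [← h2]
    exact ⟨_, rfl⟩
  have hinv' : ∀ (x : G ⋊[φ] Z) (n : sdN φ),
      (χ ∘ (sdE φ).symm) ⟨x * n * x⁻¹, (sdN_normal φ).conj_mem (n : G ⋊[φ] Z) n.2 x⟩
        = (χ ∘ (sdE φ).symm) n := by
    intro x n
    obtain ⟨g, hg⟩ := n.2
    have hx : x * (n : G ⋊[φ] Z) * x⁻¹ = inl (x.left * φ x.right g * x.left⁻¹) := by
      rw [← hg]
      have hx' := inl_left_mul_inr_right x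
      rw [map_mul, map_mul, inl_aut, map_inv, map_inv]
      calc x * inl g * x⁻¹ = (inl x.left * inr x.right) * inl g * (inl x.left * inr x.right)⁻¹ := by
            rw [hx']
        _ = _ := by group
    simp only [Function.comp]
    rw [sdE_symm_eq φ _ _ hx, sdE_symm_eq φ n g hg.symm]
    rw [IsIrrCharacter.isClassFunction hχ, hinv]
  obtain ⟨χh, hχh, hres⟩ := extend_of_cyclic (sdN φ) hcycQ hϑ hinv'
  refine ⟨χh, hχh, fun g => ?_⟩
  have := hres ⟨inl g, sd_mem φ g⟩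
  simp only [Function.comp] at this
  rw [sdE_symm_eq φ _ g rfl] at this
  exact this

theorem sd_norm {χh : G ⋊[φ] Z → ℂ} (hχh : IsIrrCharacter (G ⋊[φ] Z) χh) {χ : G → ℂ}
    (hχ : IsIrrCharacter G χ) (h : ∀ g, χh (inl g) = χ g) (x : G ⋊[φ] Z) :
    ∑ g : G, χh (inl g * x) * conj (χh (inl g * x)) = (Nat.card G : ℂ) := by
  classical
  haveI : Fintype (G ⋊[φ] Z) := sdFintype φ
  have hχN : IsIrrCharacter (sdN φ) (fun n : sdN φ => χh n) := by
    rw [sd_restrict φ h]
    exact IsIrrCharacter.comp_mulEquiv hχ _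
  have h1 := coset_sum_norm (sdN φ) hχh hχN x
  rw [← Equiv.sum_comp (sdE φ).toEquiv] at h1
  rw [Nat.card_congr (sdE φ).toEquiv]
  exact h1

theorem sd_orth {χh χh' : G ⋊[φ] Z → ℂ} (hχh : IsIrrCharacter (G ⋊[φ] Z) χh)
    (hχh' : IsIrrCharacter (G ⋊[φ] Z) χh') {χ χ' : G → ℂ}
    (hχ : IsIrrCharacter G χ) (hχ' : IsIrrCharacter G χ') (h : ∀ g, χh (inl g) = χ g)
    (h' : ∀ g, χh' (inl g) = χ' g) (hne : χ' ≠ χ) (x : G ⋊[φ] Z) :
    ∑ g : G, χh' (inl g * x) * conj (χh (inl g * x)) = 0 := by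
  classical
  haveI : Fintype (G ⋊[φ] Z) := sdFintype φ
  have hχN : IsIrrCharacter (sdN φ) (fun n : sdN φ => χh n) := by
    rw [sd_restrict φ h]
    exact IsIrrCharacter.comp_mulEquiv hχ _
  have h0 : classInner (fun n : sdN φ => χh' n) (fun n : sdN φ => χh n) = 0 := by
    rw [sd_restrict φ h, sd_restrict φ h', classInner_comp_mulEquiv]
    exact classInner_irr_ne hχ' hχ hne
  have h1 := (gallagher_eta (sdN φ) hχh hχN hχh').2 h0
  have h2 := congrFun h1 x
  simp only [cosetAvg, Pi.zero_apply] at h2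
  rw [← Equiv.sum_comp (sdE φ).toEquiv] at h2
  have hcard : (Nat.card (sdN φ) : ℂ) ≠ 0 := by
    have : Nat.card (sdN φ) ≠ 0 := Nat.card_pos.ne'
    exact_mod_cast this
  rcases mul_eq_zero.mp h2 with h3 | h3
  · exact absurd (inv_eq_zero.mp h3) hcard
  · exact h3

theorem sd_fibre {C : Type u} [Group C] [Fintype C] (ι : C →* G) (hι : Function.Injective ι)
    (p : ℕ) (hp : p.Prime) (hZ : Nat.card Z = p) (hG : ¬ p ∣ Nat.card G)
    (hC : ∀ g : G, g ∈ ι.range ↔ ∀ z : Z, φ z g = g)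
    (Θ : G ⋊[φ] Z → ℂ) (hΘ : ∀ x y, Θ (x * y * x⁻¹) = Θ y) (z : Z) (hz : z ≠ 1) :
    (Nat.card C : ℂ) * ∑ g : G, Θ (inl g * inr z)
      = (Nat.card G : ℂ) * ∑ c : C, Θ (inl (ι c) * inr z) := by
  haveI : Fact p.Prime := ⟨hp⟩
  have hfix : ∀ (c : C) (z' : Z), φ z' (ι c) = ι c := fun c => (hC (ι c)).mp ⟨c, rfl⟩
  have hzp : z ^ p = 1 := by rw [← hZ]; exact pow_card_eq_one'
  have hcop : (Nat.card G).Coprime p := ((Nat.Prime.coprime_iff_not_dvd hp).mpr hG).symm
  apply fibre_count ι hι (φ z) ?_ (map_mul _) (fun g => Θ (inl g * inr z))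
    (fun x g => by rw [sd_conj]; exact hΘ _ _)
  intro y c c' h
  have h1 : φ z y = (ι c')⁻¹ * y * ι c := by
    have : (φ z y)⁻¹ = (y * ι c)⁻¹ * ι c' := by rw [← h]; group
    rw [← inv_inv (φ z y), this]; group
  have h2 : ∀ i : ℕ, φ (z ^ i) y = ((ι c')⁻¹) ^ i * y * (ι c) ^ i := by
    intro i
    induction i with
    | zero => simp
    | succ i ih =>
      rw [pow_succ', map_mul, MulAut.mul_apply, ih, map_mul, map_mul, map_pow, map_pow, map_inv,
        hfix, hfix, h1, pow_succ, pow_succ']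
      group
  have h3 := h2 p
  rw [hzp, map_one, MulAut.one_apply] at h3
  have h4 : (ι c') ^ p = (y * ι c * y⁻¹) ^ p := by
    rw [conj_pow]
    have h5 : (ι c') ^ p * y = y * (ι c) ^ p := by
      calc (ι c') ^ p * y = (ι c') ^ p * ((ι c')⁻¹ ^ p * y * ι c ^ p) := by rw [← h3]
        _ = y * (ι c) ^ p := by rw [inv_pow]; group
    rw [eq_mul_inv_iff_mul_eq]; exact h5
  have h5 : ι c' = y * ι c * y⁻¹ := (powCoprime hcop).injective h4
  have h6 : φ z y = y := by rw [h1, h5]; group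
  let K : Subgroup Z :=
    { carrier := {z' | φ z' y = y}
      mul_mem' := by
        intro a b ha hb
        simp only [Set.mem_setOf_eq] at ha hb ⊢
        rw [map_mul, MulAut.mul_apply, hb, ha]
      one_mem' := by simp
      inv_mem' := by
        intro a ha
        simp only [Set.mem_setOf_eq] at ha ⊢
        rw [map_inv]
        conv_lhs => rw [← ha]
        simp }
  have hzK : z ∈ K := h6
  have htop : Subgroup.zpowers z = ⊤ := zpowers_eq_top_of_prime_card hZ hz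
  have hK : K = ⊤ := by
    rw [eq_top_iff, ← htop, Subgroup.zpowers_le]
    exact hzK
  have hall : ∀ z' : Z, φ z' y = y := by
    intro z'
    have : z' ∈ K := by rw [hK]; exact Subgroup.mem_top _
    exact this
  obtain ⟨u, hu⟩ := (hC y).mpr hall
  exact ⟨u, hu.symm⟩

end sd

end Cfsg.Agent.Lib.Helper10.Glaub
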