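import Mathlib
import Cfsg.Agent.Lib.Helper10.Glaub3

set_option autoImplicit false
open Cfsg
open scoped ComplexConjugate

namespace Cfsg.Agent.Lib.Helper10.Glaub

open Cfsg.Agent.Lib.Helper1 SemidirectProduct

universe u

section core

variable {G : Type u} [Group G] [Fintype G] {Z : Type u} [Group Z] [Fintype Z]
  (φ : Z →* MulAut G)

theorem card_irr_comm {A : Type u} [Group A] [Finite A] (hcomm : ∀ a b : A, a * b = b * a) :
    Nat.card (IrrCharacter A) = Nat.card A := by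
  rw [card_irr]
  symm
  apply Nat.card_congr
  apply Equiv.ofBijective ConjClasses.mk
  refine ⟨?_, ConjClasses.mk_surjective⟩
  intro a b hab
  rw [ConjClasses.mk_eq_mk_iff_isConj, isConj_iff] at hab
  obtain ⟨c, hc⟩ := hab
  rw [← hc, hcomm c a, mul_assoc, mul_inv_cancel, mul_one]

theorem sum_normSq_eq_zero {α : Type*} (s : Finset α) (f : α → ℂ)
    (h : ∑ x ∈ s, f x * conj (f x) = 0) : ∀ x ∈ s, f x = 0 := by
  have h1 : ∑ x ∈ s, f x * conj (f x) = ((∑ x ∈ s, Complex.normSq (f x) : ℝ) : ℂ) := by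
    push_cast
    exact Finset.sum_congr rfl (fun x _ => Complex.mul_conj _)
  rw [h1] at h
  have h2 : ∑ x ∈ s, Complex.normSq (f x) = 0 := by exact_mod_cast h
  intro x hx
  have h3 := (Finset.sum_eq_zero_iff_of_nonneg (fun x _ => Complex.normSq_nonneg _)).mp h2 x hx
  exact Complex.normSq_eq_zero.mp h3

theorem core_ext {C : Type u} [Group C] [Fintype C] (ι : C →* G) (hι : Function.Injective ι)
    (p : ℕ) (hp : p.Prime) (hZ : Nat.card Z = p) (hG : ¬ p ∣ Nat.card G)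
    (hC : ∀ g : G, g ∈ ι.range ↔ ∀ z : Z, φ z g = g)
    {χ : G → ℂ} (hχ : IsIrrCharacter G χ) (hinv : ∀ z g, χ (φ z g) = χ g) :
    ∃ χh : G ⋊[φ] Z → ℂ, IsIrrCharacter (G ⋊[φ] Z) χh ∧ (∀ g, χh (inl g) = χ g) ∧
      ∃ β : C → ℂ, IsIrrCharacter C β ∧
        (∃ m : ℕ, classInner (χ ∘ ι) β = m ∧ ((m : ℤ) ≡ 1 [ZMOD p] ∨ (m : ℤ) ≡ -1 [ZMOD p])) ∧
        (∀ γ : C → ℂ, IsIrrCharacter C γ → γ ≠ β → ∃ n : ℕ, classInner (χ ∘ ι) γ = n ∧ p ∣ n) ∧
        ∀ z : Z, z ≠ 1 → ∃ t : ℂ, t ≠ 0 ∧ ∀ c : C, χh (inl (ι c) * inr z) = t * β c := by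
  classical
  haveI : Fact p.Prime := ⟨hp⟩
  haveI : Fintype (G ⋊[φ] Z) := sdFintype φ
  have hcyc : IsCyclic Z := isCyclic_of_prime_card hZ
  have hcommZ : ∀ a b : Z, a * b = b * a := fun a b => (IsCyclic.isMulCommutative (α := Z)).is_comm.comm a b
  obtain ⟨χh, hχh, hres⟩ := sd_extend φ hcyc hχ hinv
  refine ⟨χh, hχh, hres, ?_⟩
  have hfix : ∀ (c : C) (z' : Z), φ z' (ι c) = ι c := fun c => (hC (ι c)).mp ⟨c, rfl⟩
  have hcomm : ∀ (c : C) (z : Z), (inl (ι c) : G ⋊[φ] Z) * inr z = inr z * inl (ι c) := by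
    intro c z
    have h1 := inl_aut (φ := φ) z (ι c)
    rw [hfix, map_inv] at h1
    calc (inl (ι c) : G ⋊[φ] Z) * inr z = (inr z * inl (ι c) * (inr z)⁻¹) * inr z := by rw [← h1]
      _ = _ := by group
  let j : C × Z →* G ⋊[φ] Z :=
    MonoidHom.noncommCoprod ((inl : G →* G ⋊[φ] Z).comp ι) inr (fun c z => hcomm c z)
  have hj : ∀ c z, j (c, z) = inl (ι c) * inr z := fun c z => rfl
  set Φ : C × Z → ℂ := χh ∘ j with hΦ
  have hΦchar : IsCharacter (C × Z) Φ := IsCharacter.comp (IsIrrCharacter.isCharacter hχh) j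
  have hΦv : ∀ c z, Φ (c, z) = χh (inl (ι c) * inr z) := fun c z => rfl
  haveI : Fintype (IrrCharacter C) := irrFintype
  haveI : Fintype (IrrCharacter Z) := irrFintype
  have hex : ∀ (γ : IrrCharacter C) (l : IrrCharacter Z), ∃ n : ℕ,
      classInner Φ (fun x : C × Z => (γ : C → ℂ) x.1 * (l : Z → ℂ) x.2) = n :=
    fun γ l => IsCharacter.classInner_irr_nat hΦchar (isIrrCharacter_prod γ.2 l.2)
  choose a ha using hex
  set t : IrrCharacter C → Z → ℂ := fun γ z => classInner (fun c => Φ (c, z)) (γ : C → ℂ) with ht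
  have hcardZ : (Nat.card Z : ℂ) ≠ 0 := by
    have : Nat.card Z ≠ 0 := Nat.card_pos.ne'
    exact_mod_cast this
  have hcardC : (Nat.card C : ℂ) ≠ 0 := by
    have : Nat.card C ≠ 0 := Nat.card_pos.ne'
    exact_mod_cast this
  have hcardG : (Nat.card G : ℂ) ≠ 0 := by
    have : Nat.card G ≠ 0 := Nat.card_pos.ne'
    exact_mod_cast this
  -- Fact A
  have hA : ∀ (γ : IrrCharacter C) (l : IrrCharacter Z), classInner (t γ) (l : Z → ℂ) = a γ l := by
    intro γ l
    rw [← ha γ l]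
    simp only [ht, classInner, Nat.card_prod, Fintype.sum_prod_type, Nat.cast_mul]
    have h1 : ∀ z : Z, ((Nat.card C : ℂ)⁻¹ * ∑ c, Φ (c, z) * conj ((γ : C → ℂ) c)) * conj ((l : Z → ℂ) z)
        = (Nat.card C : ℂ)⁻¹ * ∑ c, Φ (c, z) * conj ((γ : C → ℂ) c * (l : Z → ℂ) z) := by
      intro z
      rw [mul_assoc, Finset.sum_mul]
      congr 1
      refine Finset.sum_congr rfl (fun c _ => ?_)
      rw [map_mul]
      ring
    rw [Finset.sum_congr rfl (fun z _ => h1 z), ← Finset.mul_sum,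
      Finset.sum_comm (s := (Finset.univ : Finset Z)) (t := (Finset.univ : Finset C)), mul_inv]
    ring
  have htcf : ∀ γ, IsClassFunction Z (t γ) := by
    intro γ g h
    rw [hcommZ h g, mul_assoc, mul_inv_cancel, mul_one]
  have hlin : ∀ l : IrrCharacter Z, (l : Z → ℂ) 1 = 1 := fun l => irr_degree_one_of_comm hcommZ l.2
  -- Parseval on Z
  have hPZ : ∀ γ, ∑ z, t γ z * conj (t γ z) = (p : ℂ) * ∑ l, (a γ l : ℂ) ^ 2 := by
    intro γ
    have h1 := parseval (htcf γ)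
    simp only [hA, Complex.conj_natCast] at h1
    unfold classInner at h1
    rw [hZ] at h1
    have hp0 : (p : ℂ) ≠ 0 := by
      have := hp.ne_zero
      exact_mod_cast this
    have h2 : ∑ z, t γ z * conj (t γ z) = (p : ℂ) * ((p : ℂ)⁻¹ * ∑ z, t γ z * conj (t γ z)) := by
      field_simp
    rw [h2, h1]
    congr 1
    exact Finset.sum_congr rfl (fun l _ => by ring)
  -- value at one
  have hD1 : ∀ γ, t γ 1 = ∑ l, (a γ l : ℂ) := by
    intro γ
    have h1 := congrFun (classFunction_expansion (htcf γ)) 1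
    rw [h1, Finset.sum_apply]
    refine Finset.sum_congr rfl (fun l _ => ?_)
    rw [Pi.smul_apply, smul_eq_mul, hA, hlin, mul_one]
  have hD1' : ∀ γ : IrrCharacter C, t γ 1 = classInner (χ ∘ ι) (γ : C → ℂ) := by
    intro γ
    simp only [ht]
    congr 1
    funext c
    rw [hΦv, map_one, mul_one, hres]
    rfl
  -- for z ≠ 1
  have hFcf : ∀ z, IsClassFunction C (fun c => Φ (c, z)) := by
    intro z c c'
    simp only [hΦv]
    have h1 : (inl (ι (c' * c * c'⁻¹)) * inr z : G ⋊[φ] Z)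
        = inl (ι c') * (inl (ι c) * inr z) * (inl (ι c'))⁻¹ := by
      rw [map_mul, map_mul, map_mul, map_mul, map_inv, map_inv]
      have h2 := hcomm c' z
      have h3 : (inr z : G ⋊[φ] Z) * (inl (ι c'))⁻¹ = (inl (ι c'))⁻¹ * inr z := by
        rw [eq_inv_mul_iff_mul_eq, ← mul_assoc, h2, mul_assoc, mul_inv_cancel, mul_one]
      rw [mul_assoc (inl (ι c') * inl (ι c)), ← h3]
      group
    rw [h1]
    exact IsIrrCharacter.isClassFunction hχh _ _
  have hnorm : ∀ z, z ≠ 1 → ∑ c, Φ (c, z) * conj (Φ (c, z)) = (Nat.card C : ℂ) := by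
    intro z hz
    have h1 := sd_norm φ hχh hχ hres (inr z)
    have h2 := sd_fibre φ ι hι p hp hZ hG hC (fun x => χh x * conj (χh x))
      (fun x y => by rw [IsIrrCharacter.isClassFunction hχh]) z hz
    rw [h1] at h2
    simp only [hΦv]
    have h3 : (Nat.card G : ℂ) * (Nat.card C : ℂ)
        = (Nat.card G : ℂ) * ∑ c, χh (inl (ι c) * inr z) * conj (χh (inl (ι c) * inr z)) := by
      rw [← h2]; ring
    exact (mul_left_cancel₀ hcardG h3).symm
  have hinner1 : ∀ z, z ≠ 1 → classInner (fun c => Φ (c, z)) (fun c => Φ (c, z)) = 1 := by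
    intro z hz
    unfold classInner
    rw [hnorm z hz]
    exact inv_mul_cancel₀ hcardC
  have hPC : ∀ z, z ≠ 1 → ∑ γ, t γ z * conj (t γ z) = 1 := by
    intro z hz
    have h1 := parseval (hFcf z)
    rw [hinner1 z hz] at h1
    exact h1.symm
  -- the sum identity
  have hΛ : Fintype.card (IrrCharacter Z) = p := by
    rw [← Nat.card_eq_fintype_card, card_irr_comm hcommZ, hZ]
  have hcardErase : (Finset.univ.erase (1 : Z)).card = p - 1 := by
    rw [Finset.card_erase_of_mem (Finset.mem_univ _), Finset.card_univ, ← Nat.card_eq_fintype_card,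
      hZ]
  have hsplit : ∀ γ, ∑ z ∈ Finset.univ.erase (1 : Z), t γ z * conj (t γ z)
      = (p : ℂ) * ∑ l, (a γ l : ℂ) ^ 2 - (∑ l, (a γ l : ℂ)) ^ 2 := by
    intro γ
    rw [← hPZ γ, ← Finset.add_sum_erase Finset.univ _ (Finset.mem_univ (1 : Z)), hD1 γ]
    have : conj (∑ l, (a γ l : ℂ)) = ∑ l, (a γ l : ℂ) := by
      rw [map_sum]
      exact Finset.sum_congr rfl (fun l _ => Complex.conj_natCast _)
    rw [this]
    ring
  have hsumC : ∑ γ, ((p : ℂ) * ∑ l, (a γ l : ℂ) ^ 2 - (∑ l, (a γ l : ℂ)) ^ 2) = (p : ℂ) - 1 := by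
    rw [← Finset.sum_congr rfl (fun γ _ => hsplit γ), Finset.sum_comm]
    rw [Finset.sum_congr rfl (fun z hz => hPC z (Finset.ne_of_mem_erase hz))]
    rw [Finset.sum_const, hcardErase, nsmul_eq_mul, mul_one, Nat.cast_sub hp.one_le, Nat.cast_one]
  have hsum : ∑ γ, ((p : ℤ) * ∑ l, (a γ l : ℤ) ^ 2 - (∑ l, (a γ l : ℤ)) ^ 2) = (p : ℤ) - 1 := by
    have : ((∑ γ, ((p : ℤ) * ∑ l, (a γ l : ℤ) ^ 2 - (∑ l, (a γ l : ℤ)) ^ 2) : ℤ) : ℂ)
        = (((p : ℤ) - 1 : ℤ) : ℂ) := by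
      push_cast
      exact hsumC
    exact_mod_cast this
  obtain ⟨β, hβ, hothers⟩ := extract p hp.two_le hΛ (fun γ l => (a γ l : ℤ)) hsum
  refine ⟨β, β.2, ?_, ?_, ?_⟩
  · refine ⟨∑ l, a β l, ?_, ?_⟩
    · rw [← hD1', hD1]; push_cast; rfl
    · have h1 : (p : ℤ) ∣ ((∑ l, a β l : ℕ) : ℤ) ^ 2 - 1 := by
        refine ⟨∑ l, (a β l : ℤ) ^ 2 - 1, ?_⟩
        push_cast
        linarith
      have h2 : ((∑ l, a β l : ℕ) : ℤ) ^ 2 - 1
          = (((∑ l, a β l : ℕ) : ℤ) - 1) * (((∑ l, a β l : ℕ) : ℤ) + 1) := by ring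
      rw [h2] at h1
      rcases (Nat.prime_iff_prime_int.mp hp).dvd_or_dvd h1 with h3 | h3
      · left
        exact (Int.modEq_iff_dvd.mpr h3).symm
      · right
        apply Int.ModEq.symm
        rw [Int.modEq_iff_dvd]
        have : ((∑ l, a β l : ℕ) : ℤ) - -1 = ((∑ l, a β l : ℕ) : ℤ) + 1 := by ring
        rw [this]; exact h3
  · intro γ hγ hne
    obtain ⟨k, hk⟩ := hothers ⟨γ, hγ⟩ (fun h => hne (congrArg Subtype.val h))
    refine ⟨∑ l, a ⟨γ, hγ⟩ l, ?_, ?_⟩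
    · rw [← hD1' ⟨γ, hγ⟩, hD1]; push_cast; rfl
    · have h1 : ((∑ l, a ⟨γ, hγ⟩ l : ℕ) : ℤ) = (p : ℤ) * k := by
        push_cast
        rw [Finset.sum_congr rfl (fun l _ => hk l), Finset.sum_const, Finset.card_univ, hΛ,
          nsmul_eq_mul]
      have h2 : (p : ℤ) ∣ ((∑ l, a ⟨γ, hγ⟩ l : ℕ) : ℤ) := ⟨k, h1⟩
      exact Int.natCast_dvd_natCast.mp h2
  · intro z hz
    have hzero : ∀ γ : IrrCharacter C, γ ≠ β → t γ z = 0 := by
      intro γ hγ
      obtain ⟨k, hk⟩ := hothers γ hγ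
      have h1 : ∑ z ∈ Finset.univ.erase (1 : Z), t γ z * conj (t γ z) = 0 := by
        rw [hsplit γ]
        have h2 : ∀ l, (a γ l : ℂ) = (k : ℂ) := by
          intro l
          have := hk l
          exact_mod_cast this
        rw [Finset.sum_congr rfl (fun l _ => by rw [h2 l] : ∀ l ∈ Finset.univ, (a γ l : ℂ) ^ 2 = (k : ℂ) ^ 2),
          Finset.sum_congr rfl (fun l _ => h2 l : ∀ l ∈ Finset.univ, (a γ l : ℂ) = (k : ℂ))]
        simp only [Finset.sum_const, Finset.card_univ, hΛ, nsmul_eq_mul]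
        ring
      exact sum_normSq_eq_zero _ _ h1 z (Finset.mem_erase.mpr ⟨hz, Finset.mem_univ _⟩)
    have hexp := classFunction_expansion (hFcf z)
    have hexp2 : (fun c => Φ (c, z)) = t β z • (β : C → ℂ) := by
      rw [hexp]
      apply Finset.sum_eq_single β
      · intro γ _ hγ
        have := hzero γ hγ
        simp only [ht] at this
        rw [this, zero_smul]
      · intro h; exact absurd (Finset.mem_univ _) h
    refine ⟨t β z, ?_, ?_⟩
    · intro h0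
      have h1 := hinner1 z hz
      rw [hexp2, h0, zero_smul] at h1
      simp [classInner] at h1
    · intro c
      have := congrFun hexp2 c
      simp only [Pi.smul_apply, smul_eq_mul] at this
      rw [← hΦv]
      exact this

end core

end Cfsg.Agent.Lib.Helper10.Glaub
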