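import Mathlib
import Cfsg.Agent.Lib.Helper10.Glaub4

set_option autoImplicit false
open Cfsg
open scoped ComplexConjugate

namespace Cfsg.Agent.Lib.Helper10.Glaub

open Cfsg.Agent.Lib.Helper1 SemidirectProduct

universe u

section core

variable {G : Type u} [Group G] [Fintype G] {Z : Type u} [Group Z] [Fintype Z]
  (φ : Z →* MulAut G)

theorem core_main {C : Type u} [Group C] [Fintype C] (ι : C →* G) (hι : Function.Injective ι)
    (p : ℕ) (hp : p.Prime) (hZ : Nat.card Z = p) (hG : ¬ p ∣ Nat.card G)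
    (hC : ∀ g : G, g ∈ ι.range ↔ ∀ z : Z, φ z g = g)
    {χ : G → ℂ} (hχ : IsIrrCharacter G χ) (hinv : ∀ z g, χ (φ z g) = χ g) :
    ∃ β : C → ℂ, IsIrrCharacter C β ∧
      (∃ m : ℕ, classInner (χ ∘ ι) β = m ∧ ((m : ℤ) ≡ 1 [ZMOD p] ∨ (m : ℤ) ≡ -1 [ZMOD p])) ∧
      (∀ γ : C → ℂ, IsIrrCharacter C γ → γ ≠ β → ∃ n : ℕ, classInner (χ ∘ ι) γ = n ∧ p ∣ n) := by
  obtain ⟨χh, -, -, β, hβ, h1, h2, -⟩ := core_ext φ ι hι p hp hZ hG hC hχ hinv
  exact ⟨β, hβ, h1, h2⟩

theorem core_inj {C : Type u} [Group C] [Fintype C] (ι : C →* G) (hι : Function.Injective ι)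
    (p : ℕ) (hp : p.Prime) (hZ : Nat.card Z = p) (hG : ¬ p ∣ Nat.card G)
    (hC : ∀ g : G, g ∈ ι.range ↔ ∀ z : Z, φ z g = g)
    {χ χ' : G → ℂ} (hχ : IsIrrCharacter G χ) (hχ' : IsIrrCharacter G χ')
    (hinv : ∀ z g, χ (φ z g) = χ g) (hinv' : ∀ z g, χ' (φ z g) = χ' g)
    {β : C → ℂ} (hβ : IsIrrCharacter C β) (m m' : ℕ) (hm : classInner (χ ∘ ι) β = m)
    (hpm : ¬ p ∣ m) (hm' : classInner (χ' ∘ ι) β = m') (hpm' : ¬ p ∣ m') : χ = χ' := by
  classical
  by_contra hne
  obtain ⟨χh, hχh, hres, β₁, hβ₁, -, hoth, hval⟩ := core_ext φ ι hι p hp hZ hG hC hχ hinv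
  obtain ⟨χh', hχh', hres', β₁', hβ₁', -, hoth', hval'⟩ := core_ext φ ι hι p hp hZ hG hC hχ' hinv'
  have e1 : β = β₁ := by
    by_contra h
    obtain ⟨n, hn, hpn⟩ := hoth β hβ h
    have : m = n := by
      have := hm.symm.trans hn
      exact_mod_cast this
    exact hpm (this ▸ hpn)
  have e2 : β = β₁' := by
    by_contra h
    obtain ⟨n, hn, hpn⟩ := hoth' β hβ h
    have : m' = n := by
      have := hm'.symm.trans hn
      exact_mod_cast this
    exact hpm' (this ▸ hpn)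
  subst e1
  subst e2
  have hexz : ∃ z : Z, z ≠ 1 := by
    by_contra hcon
    push Not at hcon
    have : Nat.card Z = 1 := by
      rw [Nat.card_eq_one_iff_unique]
      exact ⟨⟨fun a b => (hcon a).trans (hcon b).symm⟩, ⟨1⟩⟩
    rw [hZ] at this
    exact hp.one_lt.ne' this
  obtain ⟨z, hz⟩ := hexz
  obtain ⟨t, ht0, ht⟩ := hval z hz
  obtain ⟨t', ht0', ht'⟩ := hval' z hz
  have h1 := sd_orth φ hχh hχh' hχ hχ' hres hres' (Ne.symm hne) (inr z)
  have h2 := sd_fibre φ ι hι p hp hZ hG hC (fun x => χh' x * conj (χh x))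
    (fun x y => by
      rw [IsIrrCharacter.isClassFunction hχh, IsIrrCharacter.isClassFunction hχh']) z hz
  rw [h1, mul_zero] at h2
  have h3 : ∑ c : C, χh' (inl (ι c) * inr z) * conj (χh (inl (ι c) * inr z))
      = t' * conj t * (Nat.card C : ℂ) := by
    have h4 := classInner_irr_self hβ
    unfold classInner at h4
    have hcardC : (Nat.card C : ℂ) ≠ 0 := by
      have : Nat.card C ≠ 0 := Nat.card_pos.ne'
      exact_mod_cast this
    have h5 : ∑ c : C, β c * conj (β c) = (Nat.card C : ℂ) := by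
      field_simp at h4
      exact h4
    rw [← h5, Finset.mul_sum]
    refine Finset.sum_congr rfl (fun c _ => ?_)
    rw [ht, ht', map_mul]
    ring
  rw [h3] at h2
  have hcardC : (Nat.card C : ℂ) ≠ 0 := by
    have : Nat.card C ≠ 0 := Nat.card_pos.ne'
    exact_mod_cast this
  have hcardG : (Nat.card G : ℂ) ≠ 0 := by
    have : Nat.card G ≠ 0 := Nat.card_pos.ne'
    exact_mod_cast this
  have hct : conj t ≠ 0 := by
    intro h
    exact ht0 ((map_eq_zero _).mp h)
  exact (mul_ne_zero hcardG (mul_ne_zero (mul_ne_zero ht0' hct) hcardC)) h2.symm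

theorem core_surj {C : Type u} [Group C] [Fintype C] (ι : C →* G) (hι : Function.Injective ι)
    (p : ℕ) (hp : p.Prime) (hZ : Nat.card Z = p) (hG : ¬ p ∣ Nat.card G)
    (hC : ∀ g : G, g ∈ ι.range ↔ ∀ z : Z, φ z g = g)
    {β : C → ℂ} (hβ : IsIrrCharacter C β) :
    ∃ χ : G → ℂ, IsIrrCharacter G χ ∧ (∀ z g, χ (φ z g) = χ g) ∧
      ∃ m : ℕ, classInner (χ ∘ ι) β = m ∧ ¬ p ∣ m := by
  classical
  haveI : Fact p.Prime := ⟨hp⟩
  haveI : Fintype (IrrCharacter G) := irrFintype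
  letI : MulAction Z (IrrCharacter G) := Cfsg.Agent.S0896.irrAction φ
  have hfix : ∀ (c : C) (z' : Z), φ z' (ι c) = ι c := fun c => (hC (ι c)).mp ⟨c, rfl⟩
  have hexm : ∀ χ : IrrCharacter G, ∃ n : ℕ, classInner ((χ : G → ℂ) ∘ ι) β = n :=
    fun χ => IsCharacter.classInner_irr_nat (IsCharacter.comp (IsIrrCharacter.isCharacter χ.2) ι) hβ
  choose mm hmm using hexm
  have hexd : ∀ χ : IrrCharacter G, ∃ n : ℕ, (χ : G → ℂ) 1 = n := fun χ => by
    obtain ⟨n, hn, -⟩ := IsIrrCharacter.degree_dvd_card χ.2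
    exact ⟨n, hn⟩
  choose dd hdd using hexd
  obtain ⟨d, hd, hdC, hd0⟩ := IsIrrCharacter.degree_dvd_card hβ
  have hsmul : ∀ (z : Z) (χ : IrrCharacter G) (g : G),
      ((z • χ : IrrCharacter G) : G → ℂ) g = (χ : G → ℂ) ((φ z)⁻¹ g) := fun z χ g => rfl
  have hw : ∀ (z : Z) (χ : IrrCharacter G), mm (z • χ) * dd (z • χ) = mm χ * dd χ := by
    intro z χ
    have h1 : mm (z • χ) = mm χ := by
      have h2 : ((z • χ : IrrCharacter G) : G → ℂ) ∘ ι = (χ : G → ℂ) ∘ ι := by
        funext c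
        simp only [Function.comp]
        rw [hsmul, ← map_inv, hfix]
      have := (hmm (z • χ)).symm.trans ((congrArg (fun f => classInner f β) h2).trans (hmm χ))
      exact_mod_cast this
    have h3 : dd (z • χ) = dd χ := by
      have h4 : ((z • χ : IrrCharacter G) : G → ℂ) 1 = (χ : G → ℂ) 1 := by
        rw [hsmul, map_one]
      have := (hdd (z • χ)).symm.trans (h4.trans (hdd χ))
      exact_mod_cast this
    rw [h1, h3]
  have hZp : IsPGroup p Z := IsPGroup.of_card (n := 1) (by rw [hZ, pow_one])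
  have horb : ∀ χ : IrrCharacter G, ∃ j : ℕ, Nat.card (MulAction.orbit Z χ) = p ^ j :=
    fun χ => hZp.card_orbit χ
  have hcardC : (Nat.card C : ℂ) ≠ 0 := by
    have : Nat.card C ≠ 0 := Nat.card_pos.ne'
    exact_mod_cast this
  have hsumC : (Nat.card C : ℂ) * ∑ χ : IrrCharacter G, ((mm χ * dd χ : ℕ) : ℂ)
      = (Nat.card G : ℂ) * (d : ℂ) := by
    have h1 : ∀ χ : IrrCharacter G, ((mm χ * dd χ : ℕ) : ℂ)
        = (Nat.card C : ℂ)⁻¹ * ∑ c : C, ((χ : G → ℂ) (ι c) * conj ((χ : G → ℂ) 1)) * conj (β c) := by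
      intro χ
      push_cast
      rw [← hmm χ, ← hdd χ]
      unfold classInner
      rw [mul_assoc, Finset.sum_mul]
      congr 1
      refine Finset.sum_congr rfl (fun c _ => ?_)
      rw [hdd χ, Complex.conj_natCast]
      simp only [Function.comp]
      ring
    rw [Finset.sum_congr rfl (fun χ _ => h1 χ), ← Finset.mul_sum, ← mul_assoc,
      mul_inv_cancel₀ hcardC, one_mul, Finset.sum_comm]
    have h2 : ∀ c : C, ∑ χ : IrrCharacter G, ((χ : G → ℂ) (ι c) * conj ((χ : G → ℂ) 1)) * conj (β c)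
        = if c = 1 then (Nat.card G : ℂ) * (d : ℂ) else 0 := by
      intro c
      rw [← Finset.sum_mul, col_orth]
      by_cases hc : c = 1
      · subst hc
        rw [if_pos rfl, map_one, if_pos (IsConj.refl _), hd, Complex.conj_natCast]
        congr 2
        have : Subgroup.centralizer ({1} : Set G) = ⊤ := by
          rw [eq_top_iff]
          intro g _
          rw [Subgroup.mem_centralizer_iff]
          intro h hh
          rw [Set.mem_singleton_iff.mp hh]
          simp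
        rw [this, Subgroup.card_top]
      · rw [if_neg hc, if_neg, zero_mul]
        intro hconj
        rw [isConj_comm, isConj_one_right] at hconj
        apply hc
        apply hι
        rw [hconj, map_one]
    rw [Finset.sum_congr rfl (fun c _ => h2 c), Finset.sum_ite_eq' Finset.univ (1 : C), if_pos (Finset.mem_univ _)]
  have hsumN : Nat.card C * ∑ χ : IrrCharacter G, mm χ * dd χ = Nat.card G * d := by
    have : ((Nat.card C * ∑ χ : IrrCharacter G, mm χ * dd χ : ℕ) : ℂ) = ((Nat.card G * d : ℕ) : ℂ) := by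
      push_cast
      push_cast at hsumC
      exact hsumC
    exact_mod_cast this
  have hCG : Nat.card C ∣ Nat.card G := Subgroup.card_dvd_of_injective ι hι
  have hnd : ¬ p ∣ ∑ χ : IrrCharacter G, mm χ * dd χ := by
    intro hdvd
    have h1 : p ∣ Nat.card G * d := by
      rw [← hsumN]
      exact Dvd.dvd.mul_left hdvd _
    rcases (Nat.Prime.dvd_mul hp).mp h1 with h2 | h2
    · exact hG h2
    · exact hG (dvd_trans h2 (dvd_trans hdC hCG))
  obtain ⟨χ, hχfix, hχw⟩ := Cfsg.Agent.S0896.exists_fixed_of_not_dvd p hp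
    (fun χ : IrrCharacter G => mm χ * dd χ) hw horb hnd
  refine ⟨χ, χ.2, ?_, mm χ, hmm χ, ?_⟩
  · intro z g
    have h1 : ((z • χ : IrrCharacter G) : G → ℂ) (φ z g) = (χ : G → ℂ) (φ z g) := by
      rw [hχfix z]
    rw [hsmul] at h1
    rw [← h1]
    simp
  · intro h
    exact hχw (Dvd.dvd.mul_right h _)

end core

end Cfsg.Agent.Lib.Helper10.Glaub
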