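import Mathlib
import Cfsg.Agent.Lib.Helper10.Glaub5

set_option autoImplicit false
open Cfsg
open scoped ComplexConjugate

namespace Cfsg.Agent.Lib.Helper10.Glaub

open Cfsg.Agent.Lib.Helper1

universe u

section ambient

variable {Γ : Type u} [Group Γ]

/-- Conjugation action of `S` on a subgroup `H` it normalises. -/
def conjAct (S H : Subgroup Γ) (hn : ∀ s ∈ S, ∀ h ∈ H, s * h * s⁻¹ ∈ H) : S →* MulAut H where
  toFun s :=
    { toFun := fun h => ⟨s * h * s⁻¹, hn s s.2 h h.2⟩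
      invFun := fun h => ⟨s⁻¹ * h * s, by
        have := hn (s⁻¹ : Γ) (S.inv_mem s.2) h h.2
        rwa [inv_inv] at this⟩
      left_inv := fun h => by
        apply Subtype.ext
        show (s : Γ)⁻¹ * (s * h * (s : Γ)⁻¹) * s = h
        group
      right_inv := fun h => by
        apply Subtype.ext
        show (s : Γ) * ((s : Γ)⁻¹ * h * s) * (s : Γ)⁻¹ = h
        group
      map_mul' := fun a b => by
        apply Subtype.ext
        show (s : Γ) * ((a : Γ) * b) * (s : Γ)⁻¹ = (s * a * (s : Γ)⁻¹) * (s * b * (s : Γ)⁻¹)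
        group }
  map_one' := by
    apply MulEquiv.ext
    intro h
    apply Subtype.ext
    show ((1 : S) : Γ) * h * ((1 : S) : Γ)⁻¹ = h
    simp
  map_mul' := fun a b => by
    apply MulEquiv.ext
    intro h
    apply Subtype.ext
    show ((a * b : S) : Γ) * h * ((a * b : S) : Γ)⁻¹ = a * (b * h * (b : Γ)⁻¹) * (a : Γ)⁻¹
    simp only [Subgroup.coe_mul]
    group

theorem conjAct_apply (S H : Subgroup Γ) (hn : ∀ s ∈ S, ∀ h ∈ H, s * h * s⁻¹ ∈ H) (s : S) (h : H) :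
    ((conjAct S H hn s h : H) : Γ) = s * h * (s : Γ)⁻¹ := rfl

theorem conjAct_inv_apply (S H : Subgroup Γ) (hn : ∀ s ∈ S, ∀ h ∈ H, s * h * s⁻¹ ∈ H) (s : S)
    (h : H) : (((conjAct S H hn s)⁻¹ h : H) : Γ) = (s : Γ)⁻¹ * h * s := rfl

/-- `S`-invariance of a function on a subgroup. -/
def SInv (S H : Subgroup Γ) (χ : H → ℂ) : Prop :=
  ∀ s ∈ S, ∀ g g' : H, (g' : Γ) = s * g * s⁻¹ → χ g' = χ g

theorem sinv_iff (S H : Subgroup Γ) (hn : ∀ s ∈ S, ∀ h ∈ H, s * h * s⁻¹ ∈ H) (χ : H → ℂ) :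
    SInv S H χ ↔ ∀ (s : S) (g : H), χ (conjAct S H hn s g) = χ g := by
  constructor
  · intro h s g
    exact h s s.2 g _ rfl
  · intro h s hs g g' hg
    have : g' = conjAct S H hn ⟨s, hs⟩ g := Subtype.ext hg
    rw [this]
    exact h ⟨s, hs⟩ g

theorem sinv_iff' (S H : Subgroup Γ) (hn : ∀ s ∈ S, ∀ h ∈ H, s * h * s⁻¹ ∈ H) (χ : H → ℂ) :
    SInv S H χ ↔ ∀ (s : S) (g : H), χ ((conjAct S H hn s)⁻¹ g) = χ g := by
  rw [sinv_iff S H hn]
  constructor
  · intro h s g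
    have := h s ((conjAct S H hn s)⁻¹ g)
    rw [MulAut.apply_inv_self] at this
    exact this.symm
  · intro h s g
    have := h s (conjAct S H hn s g)
    rw [MulAut.inv_apply_self] at this
    exact this.symm

/-- Restriction of a function to a smaller subgroup. -/
def res {H C : Subgroup Γ} (hCH : C ≤ H) (χ : H → ℂ) : C → ℂ := fun c => χ ⟨c, hCH c.2⟩

theorem res_eq_comp {H C : Subgroup Γ} (hCH : C ≤ H) (χ : H → ℂ) :
    res hCH χ = χ ∘ (Subgroup.inclusion hCH) := rfl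

theorem res_res {H K C : Subgroup Γ} (hCK : C ≤ K) (hKH : K ≤ H) (χ : H → ℂ) :
    res hCK (res hKH χ) = res (hCK.trans hKH) χ := rfl

/-- The Glauberman property for the pair `(H, C)`. -/
def GProp (S : Subgroup Γ) (p : ℕ) (H C : Subgroup Γ) [Fintype H] [Fintype C] (hCH : C ≤ H) :
    Prop :=
  (∀ χ : H → ℂ, IsIrrCharacter H χ → SInv S H χ → ∃ β : C → ℂ, IsIrrCharacter C β ∧
      (∃ m : ℕ, classInner (res hCH χ) β = m ∧ ((m : ℤ) ≡ 1 [ZMOD p] ∨ (m : ℤ) ≡ -1 [ZMOD p])) ∧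
      (∀ γ : C → ℂ, IsIrrCharacter C γ → γ ≠ β → ∃ n : ℕ, classInner (res hCH χ) γ = n ∧ p ∣ n)) ∧
  (∀ χ χ' : H → ℂ, IsIrrCharacter H χ → IsIrrCharacter H χ' → SInv S H χ → SInv S H χ' →
      ∀ β : C → ℂ, IsIrrCharacter C β → ∀ m m' : ℕ, classInner (res hCH χ) β = m → ¬ p ∣ m →
        classInner (res hCH χ') β = m' → ¬ p ∣ m' → χ = χ') ∧
  (∀ β : C → ℂ, IsIrrCharacter C β → ∃ χ : H → ℂ, IsIrrCharacter H χ ∧ SInv S H χ ∧
      ∃ m : ℕ, classInner (res hCH χ) β = m ∧ ¬ p ∣ m)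

theorem not_dvd_of_modEq {p : ℕ} (hp : p.Prime) {m : ℕ}
    (h : (m : ℤ) ≡ 1 [ZMOD p] ∨ (m : ℤ) ≡ -1 [ZMOD p]) : ¬ p ∣ m := by
  intro hd
  have hd' : (p : ℤ) ∣ (m : ℤ) := Int.natCast_dvd_natCast.mpr hd
  have h0 : (m : ℤ) ≡ 0 [ZMOD p] := (Int.modEq_zero_iff_dvd).mpr hd'
  have hp2 : ¬ (p : ℤ) ∣ 1 := by
    intro h1
    have := Int.natCast_dvd_natCast.mp (by simpa using h1 : ((p : ℕ) : ℤ) ∣ ((1 : ℕ) : ℤ))
    exact hp.one_lt.ne' (Nat.dvd_one.mp this)
  rcases h with h | h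
  · have := h0.symm.trans h
    rw [Int.modEq_iff_dvd] at this
    simp at this
    exact hp2 this
  · have := h0.symm.trans h
    rw [Int.modEq_iff_dvd] at this
    simp at this
    exact hp2 this

/-- The trivial case: `S` centralises `H`. -/
theorem gprop_trivial (S : Subgroup Γ) (p : ℕ) (hp : p.Prime) (H C : Subgroup Γ) [i1 : Fintype H]
    [i2 : Fintype C] (hCH : C ≤ H) (hC : C = H ⊓ Subgroup.centralizer (S : Set Γ)) (h : C = H) :
    GProp S p H C hCH := by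
  classical
  subst h
  obtain rfl : i1 = i2 := Subsingleton.elim _ _
  have hcent : ∀ s ∈ S, ∀ g ∈ C, s * g * s⁻¹ = g := by
    intro s hs g hg
    rw [hC] at hg
    have := (Subgroup.mem_centralizer_iff.mp hg.2) s hs
    rw [this]; group
  have hres : ∀ χ : C → ℂ, res hCH χ = χ := fun χ => rfl
  have hall : ∀ χ : C → ℂ, SInv S C χ := by
    intro χ s hs g g' hg
    rw [hcent s hs g g.2] at hg
    rw [Subtype.ext hg]
  refine ⟨?_, ?_, ?_⟩
  · intro χ hχ _
    refine ⟨χ, hχ, ⟨1, ?_, Or.inl (by simp)⟩, ?_⟩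
    · rw [hres]
      convert classInner_irr_self hχ using 2
      simp
    · intro γ hγ hne
      refine ⟨0, ?_, dvd_zero _⟩
      rw [hres]
      convert classInner_irr_ne hχ hγ (Ne.symm hne) using 2
      simp
  · intro χ χ' hχ hχ' _ _ β hβ m m' hm hpm hm' hpm'
    rw [hres] at hm hm'
    have e1 : χ = β := by
      by_contra hne
      have h0 : classInner χ β = 0 := by
        convert classInner_irr_ne hχ hβ hne using 2
      rw [h0] at hm
      have : m = 0 := by exact_mod_cast hm.symm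
      exact hpm (this ▸ dvd_zero _)
    have e2 : χ' = β := by
      by_contra hne
      have h0 : classInner χ' β = 0 := by
        convert classInner_irr_ne hχ' hβ hne using 2
      rw [h0] at hm'
      have : m' = 0 := by exact_mod_cast hm'.symm
      exact hpm' (this ▸ dvd_zero _)
    rw [e1, e2]
  · intro β hβ
    refine ⟨β, hβ, hall β, 1, ?_, ?_⟩
    · rw [hres]
      convert classInner_irr_self hβ using 2
      simp
    · intro h1
      exact hp.one_lt.ne' (Nat.dvd_one.mp h1)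

end ambient

end Cfsg.Agent.Lib.Helper10.Glaub
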