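import Mathlib
import Cfsg.Agent.Lib.Helper10.Glaub6

set_option autoImplicit false
open Cfsg
open scoped ComplexConjugate

namespace Cfsg.Agent.Lib.Helper10.Glaub

open Cfsg.Agent.Lib.Helper1

universe u

section ambient

variable {Γ : Type u} [Group Γ]

theorem modEq_zero_of {p : ℕ} {n m k : ℕ} (h : (n : ℤ) ≡ m * k [ZMOD p]) (hk : p ∣ k) : p ∣ n := by
  have : (n : ℤ) ≡ 0 [ZMOD p] :=
    h.trans ((Int.modEq_zero_iff_dvd).mpr (Dvd.dvd.mul_left (Int.natCast_dvd_natCast.mpr hk) _))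
  exact Int.natCast_dvd_natCast.mp ((Int.modEq_zero_iff_dvd).mp this)

set_option maxHeartbeats 1000000 in
theorem gl_step [Finite Γ] (S : Subgroup Γ) (p : ℕ) (hp : p.Prime) (H C Cz : Subgroup Γ)
    [Fintype H] [Fintype C] [Fintype Cz]
    (hCCz : C ≤ Cz) (hCzH : Cz ≤ H)
    (hn : ∀ s ∈ S, ∀ h ∈ H, s * h * s⁻¹ ∈ H) (hnz : ∀ s ∈ S, ∀ h ∈ Cz, s * h * s⁻¹ ∈ Cz)
    (hpH : ¬ p ∣ Nat.card H)
    (z : MulAut H) (hz : orderOf z = p) (hzS : ∃ s : S, conjAct S H hn s = z)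
    (hzc : ∀ s : S, conjAct S H hn s * z = z * conjAct S H hn s)
    (hCz : ∀ g : H, (g : Γ) ∈ Cz ↔ z g = g)
    (IH : GProp S p Cz C hCCz) : GProp S p H C (hCCz.trans hCzH) := by
  classical
  let Z : Subgroup (MulAut H) := Subgroup.zpowers z
  haveI : Fintype Z := Fintype.ofFinite _
  let φ : Z →* MulAut H := Z.subtype
  let ι : Cz →* H := Subgroup.inclusion hCzH
  have hι : Function.Injective ι := Subgroup.inclusion_injective hCzH
  have hZ : Nat.card Z = p := by rw [Nat.card_zpowers, hz]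
  have hpow : ∀ (K : Subgroup (MulAut H)), z ∈ K → ∀ z' : Z, (z' : MulAut H) ∈ K :=
    fun K hK z' => (Subgroup.zpowers_le.mpr hK) z'.2
  have hC' : ∀ g : H, g ∈ ι.range ↔ ∀ z' : Z, φ z' g = g := by
    intro g
    constructor
    · rintro ⟨c, rfl⟩ z'
      have hzc' : z (ι c) = ι c := (hCz (ι c)).mp c.2
      have := hpow (MulAction.stabilizer (MulAut H) (ι c))
        (by rw [MulAction.mem_stabilizer_iff, MulAut.smul_def]; exact hzc') z'
      rw [MulAction.mem_stabilizer_iff, MulAut.smul_def] at this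
      exact this
    · intro h
      have := h ⟨z, Subgroup.mem_zpowers z⟩
      exact ⟨⟨g, (hCz g).mpr this⟩, rfl⟩
  have hφinv : ∀ χ : H → ℂ, SInv S H χ → ∀ (z' : Z) (g : H), χ (φ z' g) = χ g := by
    intro χ hχinv
    let K : Subgroup (MulAut H) :=
      { carrier := {a | ∀ g, χ (a g) = χ g}
        mul_mem' := by
          intro a b ha hb g
          rw [MulAut.mul_apply, ha, hb]
        one_mem' := by intro g; rfl
        inv_mem' := by
          intro a ha g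
          have := ha (a⁻¹ g)
          rw [MulAut.apply_inv_self] at this
          exact this.symm }
    have hzK : z ∈ K := by
      obtain ⟨s, hs⟩ := hzS
      intro g
      rw [← hs]
      exact (sinv_iff S H hn χ).mp hχinv s g
    intro z' g
    exact hpow K hzK z' g
  have stepA : ∀ χ : H → ℂ, IsIrrCharacter H χ → SInv S H χ → ∀ ξ : Cz → ℂ, IsIrrCharacter Cz ξ →
      ∀ m₁ : ℕ, classInner (χ ∘ ι) ξ = m₁ → ¬ p ∣ m₁ →
      SInv S Cz ξ ∧ ∀ γ : C → ℂ, IsIrrCharacter C γ → ∃ n k : ℕ,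
        classInner (res (hCCz.trans hCzH) χ) γ = n ∧ classInner (res hCCz ξ) γ = k ∧
          (n : ℤ) ≡ m₁ * k [ZMOD p] := by
    intro χ hχ hχinv ξ hξ m₁ hm₁ hpm₁
    obtain ⟨ξ₀, hξ₀, -, hoth⟩ := core_main φ ι hι p hp hZ hpH hC' hχ (hφinv χ hχinv)
    have e : ξ = ξ₀ := by
      by_contra hne
      obtain ⟨n, hn', hpn⟩ := hoth ξ hξ hne
      have : m₁ = n := by exact_mod_cast hm₁.symm.trans hn'
      exact hpm₁ (this ▸ hpn)
    subst e
    constructor
    · rw [sinv_iff' S Cz hnz]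
      intro s c
      by_contra hne
      have hξ' : IsIrrCharacter Cz (ξ ∘ ((conjAct S Cz hnz s)⁻¹ : MulAut Cz)) :=
        IsIrrCharacter.comp_mulEquiv hξ _
      have hne' : (ξ ∘ ((conjAct S Cz hnz s)⁻¹ : MulAut Cz)) ≠ ξ := fun h => hne (congrFun h c)
      obtain ⟨n, hn', hpn⟩ := hoth _ hξ' hne'
      have h1 : classInner (χ ∘ ι) (ξ ∘ ((conjAct S Cz hnz s)⁻¹ : MulAut Cz))
          = classInner (χ ∘ ι) ξ := by
        apply Cfsg.Agent.S0896.classInner_irrAction (conjAct S Cz hnz) (χ ∘ ι) s ?_ ξ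
        intro x
        exact (sinv_iff S H hn χ).mp hχinv s (ι x)
      rw [h1, hm₁] at hn'
      have : m₁ = n := by exact_mod_cast hn'
      exact hpm₁ (this ▸ hpn)
    · intro γ hγ
      haveI : Fintype (IrrCharacter Cz) := irrFintype
      obtain ⟨a, ha1, ha2⟩ :=
        IsCharacter.eq_sum_irr (IsCharacter.comp (IsIrrCharacter.isCharacter hχ) ι)
      have hexb : ∀ ξ' : IrrCharacter Cz, ∃ k : ℕ, classInner (res hCCz (ξ' : Cz → ℂ)) γ = k :=
        fun ξ' => IsCharacter.classInner_irr_nat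
          (IsCharacter.comp (IsIrrCharacter.isCharacter ξ'.2) (Subgroup.inclusion hCCz)) hγ
      choose b hb using hexb
      have hdecomp : classInner (res (hCCz.trans hCzH) χ) γ = ((∑ ξ', a ξ' * b ξ' : ℕ) : ℂ) := by
        have h1 : res (hCCz.trans hCzH) χ
            = ∑ ξ' : IrrCharacter Cz, (a ξ' : ℂ) • res hCCz (ξ' : Cz → ℂ) := by
          funext c
          have := congrFun ha2 ⟨c, hCCz c.2⟩
          simp only [Finset.sum_apply, Pi.smul_apply, smul_eq_mul] at this ⊢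
          exact this
        rw [h1, classInner_sum_left]
        push_cast
        refine Finset.sum_congr rfl (fun ξ' _ => ?_)
        rw [classInner_smul_left, hb]
      refine ⟨∑ ξ', a ξ' * b ξ', b ⟨ξ, hξ⟩, hdecomp, hb ⟨ξ, hξ⟩, ?_⟩
      have ha0 : a ⟨ξ, hξ⟩ = m₁ := by exact_mod_cast (ha1 ⟨ξ, hξ⟩).symm.trans hm₁
      have hothers : ∀ ξ' : IrrCharacter Cz, ξ' ≠ ⟨ξ, hξ⟩ → p ∣ a ξ' := by
        intro ξ' hne
        obtain ⟨n, hn', hpn⟩ := hoth ξ' ξ'.2 (fun h => hne (Subtype.ext h))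
        have : a ξ' = n := by exact_mod_cast (ha1 ξ').symm.trans hn'
        exact this ▸ hpn
      rw [← Finset.add_sum_erase Finset.univ _ (Finset.mem_univ (⟨ξ, hξ⟩ : IrrCharacter Cz)), ha0]
      push_cast
      have hd : (p : ℤ) ∣ ∑ x ∈ Finset.univ.erase (⟨ξ, hξ⟩ : IrrCharacter Cz),
          (a x : ℤ) * (b x : ℤ) := by
        apply Finset.dvd_sum
        intro x hx
        exact Dvd.dvd.mul_right
          (Int.natCast_dvd_natCast.mpr (hothers x (Finset.ne_of_mem_erase hx))) _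
      rw [Int.modEq_iff_dvd]
      have : (m₁ : ℤ) * (b ⟨ξ, hξ⟩ : ℤ) - ((m₁ : ℤ) * (b ⟨ξ, hξ⟩ : ℤ)
          + ∑ x ∈ Finset.univ.erase (⟨ξ, hξ⟩ : IrrCharacter Cz), (a x : ℤ) * (b x : ℤ))
          = - ∑ x ∈ Finset.univ.erase (⟨ξ, hξ⟩ : IrrCharacter Cz), (a x : ℤ) * (b x : ℤ) := by ring
      rw [this]
      exact (dvd_neg).mpr hd
  obtain ⟨IHA, IHB, IHC⟩ := IH
  refine ⟨?_, ?_, ?_⟩
  · intro χ hχ hχinv
    obtain ⟨ξ, hξ, ⟨m₁, hm₁, hm₁c⟩, -⟩ := core_main φ ι hι p hp hZ hpH hC' hχ (hφinv χ hχinv)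
    have hpm₁ := not_dvd_of_modEq hp hm₁c
    obtain ⟨hξinv, hcong⟩ := stepA χ hχ hχinv ξ hξ m₁ hm₁ hpm₁
    obtain ⟨β, hβ, ⟨m₂, hm₂, hm₂c⟩, hoth₂⟩ := IHA ξ hξ hξinv
    refine ⟨β, hβ, ?_, ?_⟩
    · obtain ⟨n, k, hn', hk, hnk⟩ := hcong β hβ
      have hk2 : k = m₂ := by exact_mod_cast hk.symm.trans hm₂
      subst hk2
      refine ⟨n, hn', ?_⟩
      rcases hm₁c with h1 | h1 <;> rcases hm₂c with h2 | h2
      · left; exact hnk.trans (by simpa using h1.mul h2)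
      · right; exact hnk.trans (by simpa using h1.mul h2)
      · right; exact hnk.trans (by simpa using h1.mul h2)
      · left; exact hnk.trans (by simpa using h1.mul h2)
    · intro γ hγ hne
      obtain ⟨n, k, hn', hk, hnk⟩ := hcong γ hγ
      obtain ⟨k', hk', hpk'⟩ := hoth₂ γ hγ hne
      have hk2 : k = k' := by exact_mod_cast hk.symm.trans hk'
      subst hk2
      exact ⟨n, hn', modEq_zero_of hnk hpk'⟩
  · intro χ χ' hχ hχ' hχinv hχinv' β hβ m m' hm hpm hm' hpm'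
    obtain ⟨ξ, hξ, ⟨m₁, hm₁, hm₁c⟩, -⟩ := core_main φ ι hι p hp hZ hpH hC' hχ (hφinv χ hχinv)
    obtain ⟨ξ', hξ', ⟨m₁', hm₁', hm₁c'⟩, -⟩ :=
      core_main φ ι hι p hp hZ hpH hC' hχ' (hφinv χ' hχinv')
    have hpm₁ := not_dvd_of_modEq hp hm₁c
    have hpm₁' := not_dvd_of_modEq hp hm₁c'
    obtain ⟨hξinv, hcong⟩ := stepA χ hχ hχinv ξ hξ m₁ hm₁ hpm₁
    obtain ⟨hξinv', hcong'⟩ := stepA χ' hχ' hχinv' ξ' hξ' m₁' hm₁' hpm₁'
    obtain ⟨n, k, hn', hk, hnk⟩ := hcong β hβ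
    obtain ⟨n', k', hn'', hk', hnk'⟩ := hcong' β hβ
    have e1 : n = m := by exact_mod_cast hn'.symm.trans hm
    have e2 : n' = m' := by exact_mod_cast hn''.symm.trans hm'
    subst e1 e2
    have hpk : ¬ p ∣ k := fun hd => hpm (modEq_zero_of hnk hd)
    have hpk' : ¬ p ∣ k' := fun hd => hpm' (modEq_zero_of hnk' hd)
    have e : ξ = ξ' := IHB ξ ξ' hξ hξ' hξinv hξinv' β hβ k k' hk hpk hk' hpk'
    subst e
    exact core_inj φ ι hι p hp hZ hpH hC' hχ hχ' (hφinv χ hχinv) (hφinv χ' hχinv') hξ m₁ m₁'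
      hm₁ hpm₁ hm₁' hpm₁'
  · intro β hβ
    obtain ⟨ξ, hξ, hξinv, k, hk, hpk⟩ := IHC β hβ
    obtain ⟨χ, hχ, hχφ, m₁, hm₁, hpm₁⟩ := core_surj φ ι hι p hp hZ hpH hC' hξ
    have hχinv : SInv S H χ := by
      rw [sinv_iff' S H hn]
      intro s g
      have hχ' : IsIrrCharacter H (χ ∘ ((conjAct S H hn s)⁻¹ : MulAut H)) :=
        IsIrrCharacter.comp_mulEquiv hχ _
      have hχφ' : ∀ (z' : Z) (g : H), (χ ∘ ((conjAct S H hn s)⁻¹ : MulAut H)) (φ z' g)
          = (χ ∘ ((conjAct S H hn s)⁻¹ : MulAut H)) g := by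
        intro z' g
        simp only [Function.comp]
        have hcomm : (conjAct S H hn s)⁻¹ * (z' : MulAut H)
            = (z' : MulAut H) * (conjAct S H hn s)⁻¹ := by
          have h1 := hpow (Subgroup.centralizer {conjAct S H hn s})
            (by
              rw [Subgroup.mem_centralizer_iff]
              intro h hh
              rw [Set.mem_singleton_iff.mp hh]
              exact hzc s) z'
          rw [Subgroup.mem_centralizer_iff] at h1
          have h2 := h1 _ (Set.mem_singleton _)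
          rw [inv_mul_eq_iff_eq_mul, ← mul_assoc, h2, mul_assoc, mul_inv_cancel, mul_one]
        have h3 := congrArg (fun a : MulAut H => a g) hcomm
        simp only [MulAut.mul_apply] at h3
        rw [show φ z' g = (z' : MulAut H) g from rfl, h3]
        exact hχφ z' _
      have hm₁' : classInner ((χ ∘ ((conjAct S H hn s)⁻¹ : MulAut H)) ∘ ι) ξ = m₁ := by
        rw [← hm₁]
        have h1 : (χ ∘ ((conjAct S H hn s)⁻¹ : MulAut H)) ∘ ι
            = (χ ∘ ι) ∘ ((conjAct S Cz hnz s)⁻¹ : MulAut Cz) := by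
          funext c
          rfl
        have h2 : ξ = ξ ∘ ((conjAct S Cz hnz s)⁻¹ : MulAut Cz) := by
          funext c
          exact ((sinv_iff' S Cz hnz ξ).mp hξinv s c).symm
        rw [h1]
        conv_lhs => rw [h2]
        exact classInner_comp_mulEquiv ((conjAct S Cz hnz s)⁻¹ : MulAut Cz) (χ ∘ ι) ξ
      have e := core_inj φ ι hι p hp hZ hpH hC' hχ' hχ hχφ' hχφ hξ m₁ m₁ hm₁' hpm₁ hm₁ hpm₁
      exact congrFun e g
    refine ⟨χ, hχ, hχinv, ?_⟩
    obtain ⟨-, hcong⟩ := stepA χ hχ hχinv ξ hξ m₁ hm₁ hpm₁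
    obtain ⟨n, k', hn', hk', hnk⟩ := hcong β hβ
    have e1 : k' = k := by exact_mod_cast hk'.symm.trans hk
    subst e1
    refine ⟨n, hn', ?_⟩
    intro hd
    have h1 : (p : ℤ) ∣ (m₁ : ℤ) * (k' : ℤ) := by
      have : (n : ℤ) ≡ 0 [ZMOD p] :=
        (Int.modEq_zero_iff_dvd).mpr (Int.natCast_dvd_natCast.mpr hd)
      exact (Int.modEq_zero_iff_dvd).mp (hnk.symm.trans this)
    have h2 : p ∣ m₁ * k' := by exact_mod_cast h1
    rcases (Nat.Prime.dvd_mul hp).mp h2 with h3 | h3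
    · exact hpm₁ h3
    · exact hpk h3

end ambient

end Cfsg.Agent.Lib.Helper10.Glaub
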