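import Mathlib
import Cfsg.Agent.Lib.Helper10.Glaub8

set_option autoImplicit false
open Cfsg
open scoped ComplexConjugate

namespace Cfsg.Agent.Lib.Helper10.Glaub

open Cfsg.Agent.Lib.Helper1

universe u

section ambient

variable {Γ : Type u} [Group Γ]

set_option maxHeartbeats 1000000 in
theorem gl_main' [Finite Γ] (S : Subgroup Γ) (p : ℕ) (hp : p.Prime) :
    ∀ n : ℕ, ∀ (H C : Subgroup Γ) [Fintype H] [Fintype C] (hCH : C ≤ H), Nat.card H = n →
      (∀ s ∈ S, ∀ h ∈ H, s * h * s⁻¹ ∈ H) → (C ≠ H → ¬ p ∣ Nat.card H) →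
      (∀ s ∈ S, ∃ k : ℕ, ∀ h ∈ H, s ^ p ^ k * h * (s ^ p ^ k)⁻¹ = h) →
      C = H ⊓ Subgroup.centralizer (S : Set Γ) → GProp S p H C hCH := by
  intro n
  induction n using Nat.strong_induction_on with
  | _ n ih =>
    intro H C _ _ hCH hcard hn hpH hpw hC
    classical
    by_cases hCeq : C = H
    · exact gprop_trivial S p hp H C hCH hC hCeq
    have hpH' := hpH hCeq
    haveI : Fact p.Prime := ⟨hp⟩
    let f := conjAct S H hn
    have hfp : IsPGroup p f.range := by
      rintro ⟨a, s, rfl⟩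
      obtain ⟨k, hk⟩ := hpw s s.2
      refine ⟨k, ?_⟩
      apply Subtype.ext
      rw [Subgroup.coe_pow]
      show (f s) ^ p ^ k = 1
      rw [← map_pow]
      apply MulEquiv.ext
      intro h
      apply Subtype.ext
      show ((s ^ p ^ k : S) : Γ) * h * ((s ^ p ^ k : S) : Γ)⁻¹ = h
      rw [Subgroup.coe_pow]
      exact hk h h.2
    have hnt : Nontrivial f.range := by
      by_contra hcon
      rw [not_nontrivial_iff_subsingleton] at hcon
      apply hCeq
      apply le_antisymm hCH
      intro h hh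
      rw [hC]
      refine ⟨hh, ?_⟩
      show h ∈ Subgroup.centralizer (S : Set Γ)
      rw [Subgroup.mem_centralizer_iff]
      intro s hs
      have h1 : f ⟨s, hs⟩ = 1 := by
        have := Subsingleton.elim (⟨f ⟨s, hs⟩, ⟨_, rfl⟩⟩ : f.range) 1
        exact congrArg Subtype.val this
      have h2 := congrArg (fun a : MulAut H => ((a ⟨h, hh⟩ : H) : Γ)) h1
      have h3 : s * h * s⁻¹ = h := h2
      calc s * h = (s * h * s⁻¹) * s := by group
        _ = h * s := by rw [h3]
    haveI := hnt
    have hcn : Nontrivial (Subgroup.center f.range) := hfp.center_nontrivial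
    have hcp : IsPGroup p (Subgroup.center f.range) := hfp.to_subgroup _
    have hdvd : p ∣ Nat.card (Subgroup.center f.range) := by
      obtain ⟨k, hk⟩ := IsPGroup.iff_card.mp hcp
      have hk0 : k ≠ 0 := by
        rintro rfl
        rw [pow_zero] at hk
        have := Finite.one_lt_card (α := Subgroup.center f.range)
        omega
      rw [hk]; exact dvd_pow_self p hk0
    obtain ⟨x, hx⟩ := exists_prime_orderOf_dvd_card' p hdvd
    let z : MulAut H := ((x : f.range) : MulAut H)
    have hz : orderOf z = p := by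
      rw [← hx]
      simp only [z, Subgroup.orderOf_coe]
    obtain ⟨s₀, hs₀⟩ : ∃ s : S, f s = z := (x : f.range).2
    have hzc : ∀ s : S, f s * z = z * f s := by
      intro s
      have := Subgroup.mem_center_iff.mp x.2 ⟨f s, ⟨s, rfl⟩⟩
      exact congrArg Subtype.val this
    let Cz : Subgroup Γ := H ⊓ Subgroup.centralizer {(s₀ : Γ)}
    haveI : Fintype Cz := Fintype.ofFinite _
    have hCzH : Cz ≤ H := inf_le_left
    have hsub : ({(s₀ : Γ)} : Set Γ) ⊆ (S : Set Γ) := by
      intro y hy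
      rw [Set.mem_singleton_iff.mp hy]
      exact s₀.2
    have hCCz : C ≤ Cz := by
      rw [hC]
      exact inf_le_inf_left _ (Subgroup.centralizer_le hsub)
    have hCz : ∀ g : H, (g : Γ) ∈ Cz ↔ z g = g := by
      intro g
      rw [← hs₀]
      constructor
      · intro hg
        apply Subtype.ext
        show (s₀ : Γ) * g * (s₀ : Γ)⁻¹ = g
        have := (Subgroup.mem_centralizer_iff.mp hg.2) s₀ (Set.mem_singleton _)
        rw [this]; group
      · intro hg
        refine ⟨g.2, ?_⟩
        show (g : Γ) ∈ Subgroup.centralizer {(s₀ : Γ)}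
        rw [Subgroup.mem_centralizer_iff]
        intro y hy
        rw [Set.mem_singleton_iff.mp hy]
        have h1 : (s₀ : Γ) * g * (s₀ : Γ)⁻¹ = g := congrArg Subtype.val hg
        calc (s₀ : Γ) * g = ((s₀ : Γ) * g * (s₀ : Γ)⁻¹) * s₀ := by group
          _ = g * s₀ := by rw [h1]
    have hnz : ∀ s ∈ S, ∀ h ∈ Cz, s * h * s⁻¹ ∈ Cz := by
      intro s hs h hh
      have hH : s * h * s⁻¹ ∈ H := hn s hs h hh.1
      have hgoal : z ⟨s * h * s⁻¹, hH⟩ = ⟨s * h * s⁻¹, hH⟩ := by
        have h1 : z ⟨h, hh.1⟩ = ⟨h, hh.1⟩ := (hCz ⟨h, hh.1⟩).mp hh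
        have h2 : (⟨s * h * s⁻¹, hH⟩ : H) = f ⟨s, hs⟩ ⟨h, hh.1⟩ := rfl
        rw [h2]
        have h3 := congrArg (fun a : MulAut H => a ⟨h, hh.1⟩) (hzc ⟨s, hs⟩)
        simp only [MulAut.mul_apply] at h3
        rw [← h3, h1]
      exact (hCz ⟨s * h * s⁻¹, hH⟩).mpr hgoal
    have hlt : Nat.card Cz < n := by
      rw [← hcard]
      apply card_lt_of_lt'
      refine lt_of_le_of_ne hCzH ?_
      intro heq
      have : z = 1 := by
        apply MulEquiv.ext
        intro g
        exact (hCz g).mp (by rw [heq]; exact g.2)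
      rw [this, orderOf_one] at hz
      exact hp.one_lt.ne hz
    have hpCz : ¬ p ∣ Nat.card Cz := fun h => hpH' (dvd_trans h (Subgroup.card_dvd_of_le hCzH))
    have hC2 : C = Cz ⊓ Subgroup.centralizer (S : Set Γ) := by
      rw [hC]
      apply le_antisymm
      · exact le_inf (le_inf inf_le_left (inf_le_right.trans (Subgroup.centralizer_le hsub)))
          inf_le_right
      · exact inf_le_inf_right _ hCzH
    have IH := ih (Nat.card Cz) hlt Cz C hCCz rfl hnz (fun _ => hpCz)
      (fun s hs => by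
        obtain ⟨k, hk⟩ := hpw s hs
        exact ⟨k, fun h hh => hk h hh.1⟩) hC2
    exact gl_step S p hp H C Cz hCCz hCzH hn hnz hpH' z hz ⟨s₀, hs₀⟩ hzc hCz IH

end ambient

end Cfsg.Agent.Lib.Helper10.Glaub
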