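import Mathlib
import Cfsg.Agent.Lib.Helper10.Glaub9
import Cfsg.Agent.Lib.Helper21.Higman

set_option autoImplicit false
open Cfsg
open scoped ComplexConjugate

namespace Cfsg.Agent.Lib.Helper10.Glaub

open Cfsg.Agent.Lib.Helper1

universe u

section ambient

variable {Γ : Type u} [Group Γ]

/-- A solvable group acting nontrivially contains a normal subgroup acting nontrivially through a
`p`-group. -/
theorem exists_T [Finite Γ] (S H : Subgroup Γ) (hn : ∀ s ∈ S, ∀ h ∈ H, s * h * s⁻¹ ∈ H)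
    (hsolv : Group.IsSolvable S) (hnc : ¬ H ≤ Subgroup.centralizer (S : Set Γ)) :
    ∃ (p : ℕ) (T : Subgroup Γ), p.Prime ∧ T ≤ S ∧ (∀ s ∈ S, ∀ t ∈ T, s * t * s⁻¹ ∈ T) ∧
      (∀ t ∈ T, ∃ k : ℕ, ∀ h ∈ H, t ^ p ^ k * h * (t ^ p ^ k)⁻¹ = h) ∧
      ¬ H ≤ Subgroup.centralizer (T : Set Γ) ∧ p ∣ Nat.card S := by
  classical
  let f := conjAct S H hn
  have hf1 : ∀ s : S, f s = 1 ↔ ∀ h ∈ H, (s : Γ) * h * (s : Γ)⁻¹ = h := by
    intro s
    constructor
    · intro h1 h hh
      have h2 := congrArg (fun a : MulAut H => ((a ⟨h, hh⟩ : H) : Γ)) h1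
      exact h2
    · intro h1
      apply MulEquiv.ext
      intro h
      apply Subtype.ext
      exact h1 h h.2
  haveI : Group.IsSolvable f.range := solvable_of_surjective f.rangeRestrict_surjective
  haveI hnt : Nontrivial f.range := by
    by_contra hcon
    rw [not_nontrivial_iff_subsingleton] at hcon
    apply hnc
    intro h hh
    rw [Subgroup.mem_centralizer_iff]
    intro s hs
    have h1 : f ⟨s, hs⟩ = 1 := by
      have := Subsingleton.elim (⟨f ⟨s, hs⟩, ⟨_, rfl⟩⟩ : f.range) 1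
      exact congrArg Subtype.val this
    have h3 : s * h * s⁻¹ = h := (hf1 ⟨s, hs⟩).mp h1 h hh
    calc s * h = (s * h * s⁻¹) * s := by group
      _ = h * s := by rw [h3]
  obtain ⟨D, hDchar, hDne, hDab⟩ := Cfsg.Agent.Lib.Helper21.Higman.exists_abelian_char (G := f.range)
  haveI hDn : D.Normal := inferInstance
  have hDcard : Nat.card D ≠ 1 := by
    intro h1
    exact hDne ((Subgroup.card_eq_one).mp h1)
  obtain ⟨p, hp, hpD⟩ := Nat.exists_prime_and_dvd hDcard
  haveI : Fact p.Prime := ⟨hp⟩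
  obtain ⟨a₀, ha₀⟩ := exists_prime_orderOf_dvd_card' p hpD
  let P : Subgroup f.range :=
    { carrier := {a | a ∈ D ∧ ∃ k : ℕ, a ^ p ^ k = 1}
      mul_mem' := by
        rintro a b ⟨ha, k, hk⟩ ⟨hb, l, hl⟩
        refine ⟨D.mul_mem ha hb, k + l, ?_⟩
        have hc : Commute a b := hDab a ha b hb
        rw [hc.mul_pow, pow_add, pow_mul, hk, one_pow, mul_comm (p ^ k), pow_mul, hl, one_pow,
          one_mul]
      one_mem' := ⟨D.one_mem, 0, by simp⟩
      inv_mem' := by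
        rintro a ⟨ha, k, hk⟩
        exact ⟨D.inv_mem ha, k, by rw [inv_pow, hk, inv_one]⟩ }
  let T' : Subgroup S := P.comap f.rangeRestrict
  refine ⟨p, T'.map S.subtype, hp, Subgroup.map_subtype_le _, ?_, ?_, ?_, ?_⟩
  · rintro s hs t ⟨t', ht', rfl⟩
    refine ⟨⟨s, hs⟩ * t' * ⟨s, hs⟩⁻¹, ?_, rfl⟩
    obtain ⟨h1, k, hk⟩ := (ht' : f.rangeRestrict t' ∈ P)
    show f.rangeRestrict (⟨s, hs⟩ * t' * ⟨s, hs⟩⁻¹) ∈ P
    rw [map_mul, map_mul, map_inv]
    refine ⟨hDn.conj_mem _ h1 _, k, ?_⟩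
    rw [conj_pow, hk, mul_one, mul_inv_cancel]
  · rintro t ⟨t', ht', rfl⟩
    obtain ⟨h1, k, hk⟩ := (ht' : f.rangeRestrict t' ∈ P)
    refine ⟨k, ?_⟩
    have h2 : f (t' ^ p ^ k) = 1 := by
      have h3 := congrArg Subtype.val hk
      rw [Subgroup.coe_pow] at h3
      rw [map_pow]
      exact h3
    intro h hh
    have := (hf1 (t' ^ p ^ k)).mp h2 h hh
    rw [Subgroup.coe_pow] at this
    exact this
  · intro hle
    have ha₀P : (a₀ : f.range) ∈ P := by
      refine ⟨a₀.2, 1, ?_⟩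
      have h1 : (a₀ : f.range) ^ p = 1 := by
        have := pow_orderOf_eq_one a₀
        rw [ha₀] at this
        have h2 := congrArg Subtype.val this
        rw [Subgroup.coe_pow] at h2
        exact h2
      rw [pow_one]
      exact h1
    obtain ⟨t₀, ht₀⟩ := f.rangeRestrict_surjective (a₀ : f.range)
    have ht₀T : (t₀ : Γ) ∈ T'.map S.subtype := by
      refine ⟨t₀, ?_, rfl⟩
      show f.rangeRestrict t₀ ∈ P
      rw [ht₀]
      exact ha₀P
    have hft₀ : f t₀ = 1 := by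
      rw [hf1]
      intro h hh
      have h1 := (Subgroup.mem_centralizer_iff.mp (hle hh)) (t₀ : Γ) ht₀T
      rw [h1]; group
    have h2 : (a₀ : f.range) = 1 := by
      rw [← ht₀]
      apply Subtype.ext
      exact hft₀
    have h3 : a₀ = 1 := Subtype.ext h2
    rw [h3, orderOf_one] at ha₀
    exact hp.one_lt.ne ha₀
  · obtain ⟨t₀, ht₀⟩ := f.rangeRestrict_surjective (a₀ : f.range)
    have h1 : orderOf (a₀ : f.range) = p := by
      rw [Subgroup.orderOf_coe]; exact ha₀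
    have h2 : orderOf (f.rangeRestrict t₀) ∣ orderOf t₀ := orderOf_map_dvd _ _
    rw [ht₀, h1] at h2
    exact dvd_trans h2 (orderOf_dvd_natCard t₀)

end ambient

end Cfsg.Agent.Lib.Helper10.Glaub
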