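import Mathlib
import Cfsg.Agent.Lib.Helper10.Glaub10

set_option autoImplicit false
open Cfsg
open scoped ComplexConjugate

namespace Cfsg.Agent.Lib.Helper10.Glaub

open Cfsg.Agent.Lib.Helper1

universe u

section ambient

variable {Γ : Type u} [Group Γ]

theorem sinv_mono {T S H : Subgroup Γ} (hTS : T ≤ S) {χ : H → ℂ} (h : SInv S H χ) : SInv T H χ :=
  fun t ht g g' hg => h t (hTS ht) g g' hg

/-- (E1) the correspondent of an `S`-invariant character is `S`-invariant. -/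
theorem sinv_of_unique [Finite Γ] (S : Subgroup Γ) (p : ℕ) (H D : Subgroup Γ) [Fintype H]
    [Fintype D] (hDH : D ≤ H) (hnH : ∀ s ∈ S, ∀ h ∈ H, s * h * s⁻¹ ∈ H)
    (hnD : ∀ s ∈ S, ∀ h ∈ D, s * h * s⁻¹ ∈ D) {χ : H → ℂ} (hχinv : SInv S H χ)
    {β : D → ℂ} (hβ : IsIrrCharacter D β) (m : ℕ) (hm : classInner (res hDH χ) β = m)
    (hpm : ¬ p ∣ m)
    (hoth : ∀ γ : D → ℂ, IsIrrCharacter D γ → γ ≠ β → ∃ n : ℕ, classInner (res hDH χ) γ = n ∧ p ∣ n) :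
    SInv S D β := by
  rw [sinv_iff' S D hnD]
  intro s c
  by_contra hne
  have hβ' : IsIrrCharacter D (β ∘ ((conjAct S D hnD s)⁻¹ : MulAut D)) :=
    IsIrrCharacter.comp_mulEquiv hβ _
  have hne' : (β ∘ ((conjAct S D hnD s)⁻¹ : MulAut D)) ≠ β := fun h => hne (congrFun h c)
  obtain ⟨n, hn', hpn⟩ := hoth _ hβ' hne'
  have h1 : classInner (res hDH χ) (β ∘ ((conjAct S D hnD s)⁻¹ : MulAut D))
      = classInner (res hDH χ) β := by
    apply Cfsg.Agent.S0896.classInner_irrAction (conjAct S D hnD) (res hDH χ) s ?_ β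
    intro x
    exact (sinv_iff S H hnH χ).mp hχinv s ⟨x, hDH x.2⟩
  rw [h1, hm] at hn'
  have : m = n := by exact_mod_cast hn'
  exact hpm (this ▸ hpn)

/-- (E2) a `T`-invariant character whose correspondent is `S`-invariant is `S`-invariant. -/
theorem sinv_of_inj [Finite Γ] (S T : Subgroup Γ) (p : ℕ) (H D : Subgroup Γ) [Fintype H]
    [Fintype D] (hDH : D ≤ H) (hnH : ∀ s ∈ S, ∀ h ∈ H, s * h * s⁻¹ ∈ H)
    (hnD : ∀ s ∈ S, ∀ h ∈ D, s * h * s⁻¹ ∈ D) (hST : ∀ s ∈ S, ∀ t ∈ T, s * t * s⁻¹ ∈ T)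
    (hinj : ∀ χ χ' : H → ℂ, IsIrrCharacter H χ → IsIrrCharacter H χ' → SInv T H χ → SInv T H χ' →
      ∀ β : D → ℂ, IsIrrCharacter D β → ∀ m m' : ℕ, classInner (res hDH χ) β = m → ¬ p ∣ m →
        classInner (res hDH χ') β = m' → ¬ p ∣ m' → χ = χ')
    {χ : H → ℂ} (hχ : IsIrrCharacter H χ) (hχT : SInv T H χ)
    {β : D → ℂ} (hβ : IsIrrCharacter D β) (hβinv : SInv S D β) (m : ℕ)
    (hm : classInner (res hDH χ) β = m) (hpm : ¬ p ∣ m) : SInv S H χ := by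
  rw [sinv_iff' S H hnH]
  intro s g
  have hχ' : IsIrrCharacter H (χ ∘ ((conjAct S H hnH s)⁻¹ : MulAut H)) :=
    IsIrrCharacter.comp_mulEquiv hχ _
  have hχT' : SInv T H (χ ∘ ((conjAct S H hnH s)⁻¹ : MulAut H)) := by
    intro t ht g g' hg
    simp only [Function.comp]
    have ht' : (s : Γ)⁻¹ * t * s ∈ T := by
      have := hST (s : Γ)⁻¹ (S.inv_mem s.2) t ht
      rwa [inv_inv] at this
    apply hχT _ ht'
    rw [conjAct_inv_apply, conjAct_inv_apply, hg]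
    group
  have hm' : classInner (res hDH (χ ∘ ((conjAct S H hnH s)⁻¹ : MulAut H))) β = m := by
    rw [← hm]
    have h1 : res hDH (χ ∘ ((conjAct S H hnH s)⁻¹ : MulAut H))
        = (res hDH χ) ∘ ((conjAct S D hnD s)⁻¹ : MulAut D) := by
      funext c
      rfl
    have h2 : β = β ∘ ((conjAct S D hnD s)⁻¹ : MulAut D) := by
      funext c
      exact ((sinv_iff' S D hnD β).mp hβinv s c).symm
    rw [h1]
    conv_lhs => rw [h2]
    exact classInner_comp_mulEquiv ((conjAct S D hnD s)⁻¹ : MulAut D) (res hDH χ) β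
  have e := hinj _ χ hχ' hχ hχT' hχT β hβ m m hm' hpm hm hpm
  exact congrFun e g

/-- The Glauberman bijection restricted to `S`-invariant characters: equal cardinalities. -/
theorem card_irr_inv_eq [Finite Γ] (S T : Subgroup Γ) (p : ℕ) (hp : p.Prime) (H D : Subgroup Γ) [Fintype H]
    [Fintype D] (hDH : D ≤ H) (hTS : T ≤ S) (hnH : ∀ s ∈ S, ∀ h ∈ H, s * h * s⁻¹ ∈ H)
    (hnD : ∀ s ∈ S, ∀ h ∈ D, s * h * s⁻¹ ∈ D) (hST : ∀ s ∈ S, ∀ t ∈ T, s * t * s⁻¹ ∈ T)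
    (hG : GProp T p H D hDH) :
    Nat.card {χ : IrrCharacter H // SInv S H (χ : H → ℂ)}
      = Nat.card {β : IrrCharacter D // SInv S D (β : D → ℂ)} := by
  classical
  obtain ⟨hA, hB, hC⟩ := hG
  have hex : ∀ χ : {χ : IrrCharacter H // SInv S H (χ : H → ℂ)},
      ∃ β : {β : IrrCharacter D // SInv S D (β : D → ℂ)}, ∃ m : ℕ,
        classInner (res hDH (χ.1 : H → ℂ)) (β.1 : D → ℂ) = m ∧ ¬ p ∣ m := by
    rintro ⟨χ, hχinv⟩
    obtain ⟨β, hβ, ⟨m, hm, hmc⟩, hoth⟩ := hA χ χ.2 (sinv_mono hTS hχinv)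
    have hpm : ¬ p ∣ m := not_dvd_of_modEq hp hmc
    exact ⟨⟨⟨β, hβ⟩, sinv_of_unique S p H D hDH hnH hnD hχinv hβ m hm hpm hoth⟩, m, hm, hpm⟩
  choose F hF using hex
  apply Nat.card_congr
  apply Equiv.ofBijective F
  constructor
  · intro χ χ' hFF
    obtain ⟨m, hm, hpm⟩ := hF χ
    obtain ⟨m', hm', hpm'⟩ := hF χ'
    rw [← hFF] at hm'
    have := hB χ.1 χ'.1 χ.1.2 χ'.1.2 (sinv_mono hTS χ.2) (sinv_mono hTS χ'.2) (F χ).1 (F χ).1.2
      m m' hm hpm hm' hpm'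
    exact Subtype.ext (Subtype.ext this)
  · rintro ⟨β, hβinv⟩
    obtain ⟨χ, hχ, hχT, m, hm, hpm⟩ := hC β β.2
    have hχS : SInv S H χ :=
      sinv_of_inj S T p H D hDH hnH hnD hST hB hχ hχT β.2 hβinv m hm hpm
    refine ⟨⟨⟨χ, hχ⟩, hχS⟩, ?_⟩
    obtain ⟨m', hm', hpm'⟩ := hF ⟨⟨χ, hχ⟩, hχS⟩
    obtain ⟨β₀, hβ₀, -, hoth⟩ := hA χ hχ hχT
    have e1 : (β : D → ℂ) = β₀ := by
      by_contra hne
      obtain ⟨n, hn, hpn⟩ := hoth β β.2 hne
      have : m = n := by exact_mod_cast hm.symm.trans hn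
      exact hpm (this ▸ hpn)
    have e2 : ((F ⟨⟨χ, hχ⟩, hχS⟩).1 : D → ℂ) = β₀ := by
      by_contra hne
      obtain ⟨n, hn, hpn⟩ := hoth _ (F ⟨⟨χ, hχ⟩, hχS⟩).1.2 hne
      have : m' = n := by exact_mod_cast hm'.symm.trans hn
      exact hpm' (this ▸ hpn)
    exact Subtype.ext (Subtype.ext (e2.trans e1.symm))

end ambient

end Cfsg.Agent.Lib.Helper10.Glaub
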