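import Mathlib
import Cfsg.Agent.Lib.Helper10.Glaub11

set_option autoImplicit false
open Cfsg
open scoped ComplexConjugate

namespace Cfsg.Agent.Lib.Helper10.Glaub

open Cfsg.Agent.Lib.Helper1

universe u

section ambient

variable {Γ : Type u} [Group Γ]

theorem isPGroup_range (T H : Subgroup Γ) (p : ℕ) (hn : ∀ s ∈ T, ∀ h ∈ H, s * h * s⁻¹ ∈ H)
    (hpw : ∀ t ∈ T, ∃ k : ℕ, ∀ h ∈ H, t ^ p ^ k * h * (t ^ p ^ k)⁻¹ = h) :
    IsPGroup p (conjAct T H hn).range := by
  rintro ⟨a, s, rfl⟩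
  obtain ⟨k, hk⟩ := hpw s s.2
  refine ⟨k, ?_⟩
  apply Subtype.ext
  rw [Subgroup.coe_pow]
  show (conjAct T H hn s) ^ p ^ k = 1
  rw [← map_pow]
  apply MulEquiv.ext
  intro h
  apply Subtype.ext
  show ((s ^ p ^ k : T) : Γ) * h * ((s ^ p ^ k : T) : Γ)⁻¹ = h
  rw [Subgroup.coe_pow]
  exact hk h h.2

theorem exists_fixed_of_invariant [Finite Γ] (T H : Subgroup Γ) (p : ℕ) (hp : p.Prime)
    (hn : ∀ s ∈ T, ∀ h ∈ H, s * h * s⁻¹ ∈ H)
    (hpw : ∀ t ∈ T, ∃ k : ℕ, ∀ h ∈ H, t ^ p ^ k * h * (t ^ p ^ k)⁻¹ = h) (X : Set H)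
    (hXinv : ∀ (t : T) (x : H), x ∈ X → conjAct T H hn t x ∈ X) (hcard : ¬ p ∣ Nat.card X) :
    ∃ x ∈ X, (x : Γ) ∈ Subgroup.centralizer (T : Set Γ) := by
  classical
  haveI : Fact p.Prime := ⟨hp⟩
  haveI : Fintype H := Fintype.ofFinite _
  let Q := (conjAct T H hn).range
  have hQ : IsPGroup p Q := isPGroup_range T H p hn hpw
  let w : H → ℤ := fun h => if h ∈ X then 1 else 0
  have hw : ∀ (e : Q) (h : H), w (e • h) = w h := by
    rintro ⟨e, t, rfl⟩ h
    have h1 : (⟨conjAct T H hn t, ⟨t, rfl⟩⟩ : Q) • h = conjAct T H hn t h := rfl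
    simp only [w, h1]
    have : conjAct T H hn t h ∈ X ↔ h ∈ X := by
      constructor
      · intro hx
        have := hXinv t⁻¹ _ hx
        rw [map_inv, MulAut.inv_apply_self] at this
        exact this
      · exact hXinv t h
    simp only [this]
  have horb : ∀ h : H, ∃ j : ℕ, Nat.card (MulAction.orbit Q h) = p ^ j :=
    fun h => hQ.card_orbit h
  have key := sum_modEq_fixed (E := Q) p w hw horb
    (Finset.univ.filter (fun h : H => ∀ e : Q, e • h = h)) (by intro h; simp)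
  by_contra hcon
  push Not at hcon
  apply hcard
  have h1 : ∑ h : H, w h = (Nat.card X : ℤ) := by
    simp only [w]
    rw [Finset.sum_boole, Nat.card_eq_fintype_card, Fintype.card_subtype]
  have h2 : ∑ h ∈ Finset.univ.filter (fun h : H => ∀ e : Q, e • h = h), w h = 0 := by
    apply Finset.sum_eq_zero
    intro h hh
    simp only [Finset.mem_filter, Finset.mem_univ, true_and] at hh
    simp only [w]
    rw [if_neg]
    intro hx
    apply hcon h hx
    rw [Subgroup.mem_centralizer_iff]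
    intro t ht
    have := hh ⟨conjAct T H hn ⟨t, ht⟩, ⟨_, rfl⟩⟩
    have h3 : (t : Γ) * h * t⁻¹ = h := congrArg Subtype.val this
    calc t * (h : Γ) = (t * h * t⁻¹) * t := by group
      _ = h * t := by rw [h3]
  rw [h1, h2] at key
  exact Int.natCast_dvd_natCast.mp ((Int.modEq_zero_iff_dvd).mp key)

theorem card_class_dvd {A : Type*} [Group A] [Finite A] (h₀ : A) :
    Nat.card {h : A | ConjClasses.mk h = ConjClasses.mk h₀} ∣ Nat.card A := by
  have hX : {h : A | ConjClasses.mk h = ConjClasses.mk h₀} = MulAction.orbit (ConjAct A) h₀ := by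
    ext h
    rw [ConjAct.mem_orbit_conjAct, Set.mem_setOf_eq, ConjClasses.mk_eq_mk_iff_isConj]
  rw [hX, Nat.card_coe_set_eq, ← MulAction.index_stabilizer]
  have h1 := Subgroup.index_dvd_card (MulAction.stabilizer (ConjAct A) h₀)
  have h2 : Nat.card (ConjAct A) = Nat.card A := rfl
  rw [h2] at h1
  exact h1

theorem card_transporter_dvd {A : Type*} [Group A] [Finite A] (d d' x₀ : A)
    (hx₀ : x₀ * d * x₀⁻¹ = d') :
    Nat.card {x : A | x * d * x⁻¹ = d'} ∣ Nat.card A := by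
  have h1 : Nat.card {x : A | x * d * x⁻¹ = d'} = Nat.card (Subgroup.centralizer ({d} : Set A)) := by
    apply Nat.card_congr
    refine
      { toFun := fun x => ⟨x₀⁻¹ * x, ?_⟩
        invFun := fun c => ⟨x₀ * c, ?_⟩
        left_inv := fun x => by apply Subtype.ext; simp
        right_inv := fun c => by apply Subtype.ext; simp }
    · rw [Subgroup.mem_centralizer_iff]
      intro y hy
      rw [Set.mem_singleton_iff.mp hy]
      have h2 : (x : A) * d * (x : A)⁻¹ = d' := x.2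
      have h3 : (x : A) * d * (x : A)⁻¹ = x₀ * d * x₀⁻¹ := h2.trans hx₀.symm
      calc d * (x₀⁻¹ * x) = x₀⁻¹ * (x₀ * d * x₀⁻¹) * x := by group
        _ = x₀⁻¹ * ((x : A) * d * (x : A)⁻¹) * x := by rw [h3]
        _ = x₀⁻¹ * x * d := by group
    · have h2 := (Subgroup.mem_centralizer_iff.mp c.2) d (Set.mem_singleton _)
      show x₀ * c * d * (x₀ * c)⁻¹ = d'
      rw [← hx₀]
      calc x₀ * c * d * (x₀ * c)⁻¹ = x₀ * ((c : A) * d) * (c : A)⁻¹ * x₀⁻¹ := by group
        _ = x₀ * (d * c) * (c : A)⁻¹ * x₀⁻¹ := by rw [h2]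
        _ = x₀ * d * x₀⁻¹ := by group
  rw [h1]
  exact Subgroup.card_subgroup_dvd_card _

end ambient

end Cfsg.Agent.Lib.Helper10.Glaub
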