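import Mathlib
import Cfsg.Agent.Lib.Helper10.Glaub12

set_option autoImplicit false
open Cfsg
open scoped ComplexConjugate

namespace Cfsg.Agent.Lib.Helper10.Glaub

open Cfsg.Agent.Lib.Helper1

universe u

section ambient

variable {Γ : Type u} [Group Γ]

/-- `S`-invariance of a conjugacy class of a subgroup. -/
def CInv (S H : Subgroup Γ) (K : ConjClasses H) : Prop :=
  ∀ s ∈ S, ∀ g g' : H, (g' : Γ) = s * g * s⁻¹ → ConjClasses.mk g = K → ConjClasses.mk g' = K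

theorem conj_in_D [Finite Γ] (T H D : Subgroup Γ) (p : ℕ) (hp : p.Prime) (hDH : D ≤ H)
    (hD : D = H ⊓ Subgroup.centralizer (T : Set Γ))
    (hnT : ∀ s ∈ T, ∀ h ∈ H, s * h * s⁻¹ ∈ H) (hpH : ¬ p ∣ Nat.card H)
    (hpw : ∀ t ∈ T, ∃ k : ℕ, ∀ h ∈ H, t ^ p ^ k * h * (t ^ p ^ k)⁻¹ = h) (d d' : D)
    (h : IsConj (⟨d, hDH d.2⟩ : H) ⟨d', hDH d'.2⟩) : IsConj d d' := by
  rw [isConj_iff] at h
  obtain ⟨x₀, hx₀⟩ := h
  have hcent : ∀ c : D, ∀ t ∈ T, t * (c : Γ) = c * t := by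
    intro c t ht
    have hc : (c : Γ) ∈ H ⊓ Subgroup.centralizer (T : Set Γ) := hD ▸ c.2
    exact (Subgroup.mem_centralizer_iff.mp hc.2) t ht
  have hcard : ¬ p ∣ Nat.card {x : H | x * (⟨d, hDH d.2⟩ : H) * x⁻¹ = ⟨d', hDH d'.2⟩} :=
    fun hdv => hpH (dvd_trans hdv (card_transporter_dvd _ _ x₀ hx₀))
  obtain ⟨x, hxX, hxc⟩ := exists_fixed_of_invariant T H p hp hnT hpw
    {x : H | x * (⟨d, hDH d.2⟩ : H) * x⁻¹ = ⟨d', hDH d'.2⟩} (by
      intro t x hx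
      have hx' : (x : Γ) * d * (x : Γ)⁻¹ = d' := congrArg Subtype.val hx
      apply Subtype.ext
      show ((t : Γ) * x * (t : Γ)⁻¹) * d * ((t : Γ) * x * (t : Γ)⁻¹)⁻¹ = d'
      have e1 : (t : Γ)⁻¹ * d * t = d := by
        rw [mul_assoc, ← hcent d t t.2]; group
      have e2 : (t : Γ) * d' * (t : Γ)⁻¹ = d' := by
        rw [hcent d' t t.2]; group
      calc ((t : Γ) * x * (t : Γ)⁻¹) * d * ((t : Γ) * x * (t : Γ)⁻¹)⁻¹
          = t * (x * ((t : Γ)⁻¹ * d * t) * (x : Γ)⁻¹) * (t : Γ)⁻¹ := by group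
        _ = t * (x * d * (x : Γ)⁻¹) * (t : Γ)⁻¹ := by rw [e1]
        _ = d' := by rw [hx', e2]) hcard
  have hxD : (x : Γ) ∈ D := by
    rw [hD]
    exact ⟨x.2, hxc⟩
  rw [isConj_iff]
  refine ⟨⟨x, hxD⟩, ?_⟩
  apply Subtype.ext
  have hxX' : x * (⟨d, hDH d.2⟩ : H) * x⁻¹ = ⟨d', hDH d'.2⟩ := hxX
  have hxX'' : (x : Γ) * d * (x : Γ)⁻¹ = d' := congrArg Subtype.val hxX'
  exact hxX''

theorem class_meets_D [Finite Γ] (T H D : Subgroup Γ) (p : ℕ) (hp : p.Prime) (hDH : D ≤ H)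
    (hD : D = H ⊓ Subgroup.centralizer (T : Set Γ))
    (hnT : ∀ s ∈ T, ∀ h ∈ H, s * h * s⁻¹ ∈ H) (hpH : ¬ p ∣ Nat.card H)
    (hpw : ∀ t ∈ T, ∃ k : ℕ, ∀ h ∈ H, t ^ p ^ k * h * (t ^ p ^ k)⁻¹ = h) (K : ConjClasses H)
    (hK : CInv T H K) : ∃ d : D, ConjClasses.mk (⟨d, hDH d.2⟩ : H) = K := by
  obtain ⟨h₀, rfl⟩ := ConjClasses.mk_surjective K
  have hcard : ¬ p ∣ Nat.card {h : H | ConjClasses.mk h = ConjClasses.mk h₀} :=
    fun hdv => hpH (dvd_trans hdv (card_class_dvd h₀))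
  obtain ⟨x, hxX, hxc⟩ := exists_fixed_of_invariant T H p hp hnT hpw
    {h : H | ConjClasses.mk h = ConjClasses.mk h₀} (by
      intro t x hx
      exact hK t t.2 x _ rfl hx) hcard
  have hxD : (x : Γ) ∈ D := by
    rw [hD]
    exact ⟨x.2, hxc⟩
  exact ⟨⟨x, hxD⟩, hxX⟩

theorem card_cl_inv_eq [Finite Γ] (S T : Subgroup Γ) (p : ℕ) (hp : p.Prime) (H D : Subgroup Γ)
    (hDH : D ≤ H) (hD : D = H ⊓ Subgroup.centralizer (T : Set Γ)) (hTS : T ≤ S)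
    (hnH : ∀ s ∈ S, ∀ h ∈ H, s * h * s⁻¹ ∈ H) (hnD : ∀ s ∈ S, ∀ h ∈ D, s * h * s⁻¹ ∈ D)
    (hpH : ¬ p ∣ Nat.card H)
    (hpw : ∀ t ∈ T, ∃ k : ℕ, ∀ h ∈ H, t ^ p ^ k * h * (t ^ p ^ k)⁻¹ = h) :
    Nat.card {K : ConjClasses D // CInv S D K} = Nat.card {K : ConjClasses H // CInv S H K} := by
  classical
  have hnT : ∀ s ∈ T, ∀ h ∈ H, s * h * s⁻¹ ∈ H := fun s hs => hnH s (hTS hs)
  let ι : D →* H := Subgroup.inclusion hDH
  have hmap : ∀ d : D, ConjClasses.map ι (ConjClasses.mk d) = ConjClasses.mk (ι d) := fun d => rfl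
  have hwd : ∀ K : ConjClasses D, CInv S D K → CInv S H (ConjClasses.map ι K) := by
    intro K hK
    obtain ⟨d, rfl⟩ := ConjClasses.mk_surjective K
    intro s hs g g' hg hmk
    rw [hmap, ConjClasses.mk_eq_mk_iff_isConj, isConj_comm, isConj_iff] at hmk
    obtain ⟨x, hx⟩ := hmk
    have h1 : ConjClasses.mk (⟨s * d * s⁻¹, hnD s hs d d.2⟩ : D) = ConjClasses.mk d :=
      hK s hs d _ rfl rfl
    rw [← h1, hmap, ConjClasses.mk_eq_mk_iff_isConj, isConj_comm, isConj_iff]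
    refine ⟨⟨s * x * s⁻¹, hnH s hs x x.2⟩, ?_⟩
    apply Subtype.ext
    show (s * x * s⁻¹) * (s * d * s⁻¹) * (s * x * s⁻¹)⁻¹ = g'
    have hx' : (x : Γ) * d * (x : Γ)⁻¹ = g := congrArg Subtype.val hx
    rw [hg, ← hx']
    group
  apply Nat.card_congr
  apply Equiv.ofBijective (fun K : {K : ConjClasses D // CInv S D K} =>
    (⟨ConjClasses.map ι K.1, hwd K.1 K.2⟩ : {K : ConjClasses H // CInv S H K}))
  constructor
  · rintro ⟨K₁, hK₁⟩ ⟨K₂, hK₂⟩ h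
    obtain ⟨d₁, rfl⟩ := ConjClasses.mk_surjective K₁
    obtain ⟨d₂, rfl⟩ := ConjClasses.mk_surjective K₂
    have h1 : ConjClasses.mk (ι d₁) = ConjClasses.mk (ι d₂) := congrArg Subtype.val h
    rw [ConjClasses.mk_eq_mk_iff_isConj] at h1
    apply Subtype.ext
    show ConjClasses.mk d₁ = ConjClasses.mk d₂
    rw [ConjClasses.mk_eq_mk_iff_isConj]
    exact conj_in_D T H D p hp hDH hD hnT hpH hpw d₁ d₂ h1
  · rintro ⟨K, hK⟩
    have hKT : CInv T H K := fun t ht => hK t (hTS ht)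
    obtain ⟨d, hd⟩ := class_meets_D T H D p hp hDH hD hnT hpH hpw K hKT
    have hinv : CInv S D (ConjClasses.mk d) := by
      intro s hs c c' hc hmk
      have h1 : ConjClasses.mk (ι c) = K := by
        rw [← hd]
        exact congrArg (ConjClasses.map ι) hmk
      have h2 : ConjClasses.mk (ι c') = K := hK s hs (ι c) (ι c') hc h1
      rw [← hd, ConjClasses.mk_eq_mk_iff_isConj] at h2
      rw [ConjClasses.mk_eq_mk_iff_isConj]
      exact conj_in_D T H D p hp hDH hD hnT hpH hpw c' d h2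
    exact ⟨⟨ConjClasses.mk d, hinv⟩, Subtype.ext hd⟩

end ambient

end Cfsg.Agent.Lib.Helper10.Glaub
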