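import Mathlib
import Cfsg.Prelude.Def_LieExceptional
import Cfsg.Agent.Lib.Helper1.TransNil
import Cfsg.Agent.Lib.Helper10.Coprime2

/-!
Tools for CN-groups (groups in which centralizers of non-identity elements are nilpotent).
-/

set_option autoImplicit false

namespace Cfsg.Agent.Lib.Helper10.CN

open scoped commutatorElement

/-- A nontrivial normal subgroup of a nilpotent group meets the centre nontrivially. -/
theorem inf_center_ne_bot {Q : Type*} [Group Q] [hQ : Group.IsNilpotent Q] (N : Subgroup Q)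
    [hN : N.Normal] (hne : N ≠ ⊥) : ∃ z ∈ N, z ≠ 1 ∧ ∀ b : Q, b * z = z * b := by
  obtain ⟨n, hn⟩ := hQ.nilpotent'
  have key : ∀ k, (∃ a ∈ N, a ≠ 1 ∧ a ∈ Subgroup.upperCentralSeries Q k) →
      ∃ z ∈ N, z ≠ 1 ∧ ∀ b : Q, b * z = z * b := by
    intro k
    induction k with
    | zero =>
      rintro ⟨a, _, ha1, ha⟩
      rw [Subgroup.upperCentralSeries_zero, Subgroup.mem_bot] at ha
      exact absurd ha ha1
    | succ k ih =>
      rintro ⟨a, haN, ha1, ha⟩
      by_cases hc : ∃ a' ∈ N, a' ≠ 1 ∧ a' ∈ Subgroup.upperCentralSeries Q k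
      · exact ih hc
      · refine ⟨a, haN, ha1, fun b => ?_⟩
        have h1 : ⁅a, b⁆ ∈ Subgroup.upperCentralSeries Q k :=
          Subgroup.mem_upperCentralSeries_succ_iff.mp ha b
        have h2 : ⁅a, b⁆ ∈ N := by
          rw [commutatorElement_def]
          have h3 : b * a⁻¹ * b⁻¹ ∈ N := hN.conj_mem _ (N.inv_mem haN) b
          have h4 := N.mul_mem haN h3
          have e : a * b * a⁻¹ * b⁻¹ = a * (b * a⁻¹ * b⁻¹) := by group
          rw [e]; exact h4
        by_contra hne'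
        apply hc
        refine ⟨⁅a, b⁆, h2, ?_, h1⟩
        intro h
        apply hne'
        rw [commutatorElement_def] at h
        have e : b * a = (a * b * a⁻¹ * b⁻¹)⁻¹ * (a * b) := by group
        rw [e, h, inv_one, one_mul]
  obtain ⟨a, ha1⟩ := (Subgroup.ne_bot_iff_exists_ne_one).mp hne
  exact key n ⟨a, a.2, fun h => ha1 (Subtype.ext h), by rw [hn]; exact Subgroup.mem_top _⟩

variable {G : Type*} [Group G]

/-- In a nilpotent subgroup, a `p`-element commutes with every element of order prime to `p`. -/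
theorem comm_of_nilpotent [Finite G] (L : Subgroup G) (hL : Group.IsNilpotent L) {p : ℕ}
    [Fact p.Prime] {v z : G} (hv : v ∈ L) (hz : z ∈ L) (hvp : ∃ k, orderOf v = p ^ k)
    (hzp : (orderOf z).Coprime p) : v * z = z * v := by
  haveI := hL
  obtain ⟨k, hk⟩ := hvp
  have hpg : IsPGroup p (Subgroup.zpowers (⟨v, hv⟩ : L)) := by
    apply IsPGroup.of_card (n := k)
    rw [Nat.card_zpowers, Subgroup.orderOf_mk, hk]
  obtain ⟨S, hS⟩ := hpg.exists_le_sylow
  have hzo : (orderOf (⟨z, hz⟩ : L)).Coprime p := by rw [Subgroup.orderOf_mk]; exact hzp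
  have hc := Cfsg.Agent.Lib.Helper1.Tr.nilpotent_coprime_mem_centralizer S ⟨z, hz⟩ hzo
  have := (Subgroup.mem_centralizer_iff.mp hc) ⟨v, hv⟩ (hS (Subgroup.mem_zpowers _))
  exact congrArg Subtype.val this

/-- Every element is the product of a `q`-element and a `q'`-element, both powers of it. -/
theorem exists_decomp_pow [Finite G] (q : ℕ) (hq : q.Prime) (h : G) :
    ∃ a b : ℕ, h = h ^ a * h ^ b ∧ (∃ k, orderOf (h ^ a) = q ^ k) ∧
      (orderOf (h ^ b)).Coprime q := by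
  have hn : 0 < orderOf h := orderOf_pos h
  obtain ⟨k, m, hm, hnm⟩ := Nat.exists_eq_pow_mul_and_not_dvd hn.ne' q hq.ne_one
  have hqm : q.Coprime m := (Nat.Prime.coprime_iff_not_dvd hq).mpr hm
  have hcop : (q ^ k).Coprime m := Nat.Coprime.pow_left k hqm
  obtain ⟨a, ha1, ha0⟩ := Nat.chineseRemainder hcop 1 0
  obtain ⟨b, hb0, hb1⟩ := Nat.chineseRemainder hcop 0 1
  refine ⟨a, b, ?_, ?_, ?_⟩
  · rw [← pow_add]
    have : a + b ≡ 1 [MOD orderOf h] := by
      rw [hnm]
      exact (Nat.modEq_and_modEq_iff_modEq_mul hcop).mp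
        ⟨by simpa using ha1.add hb0, by simpa using ha0.add hb1⟩
    have e := pow_eq_pow_iff_modEq.mpr this
    rw [e, pow_one]
  · have : (h ^ a) ^ (q ^ k) = 1 := by
      rw [← pow_mul]
      apply orderOf_dvd_iff_pow_eq_one.mp
      rw [hnm, mul_comm a]
      exact Nat.mul_dvd_mul (dvd_refl _) ((Nat.modEq_zero_iff_dvd).mp ha0)
    have hd : orderOf (h ^ a) ∣ q ^ k := orderOf_dvd_of_pow_eq_one this
    obtain ⟨j, _, hj⟩ := (Nat.dvd_prime_pow hq).mp hd
    exact ⟨j, hj⟩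
  · have : (h ^ b) ^ m = 1 := by
      rw [← pow_mul]
      apply orderOf_dvd_iff_pow_eq_one.mp
      rw [hnm]
      exact Nat.mul_dvd_mul ((Nat.modEq_zero_iff_dvd).mp hb0) (dvd_refl m)
    have hd : orderOf (h ^ b) ∣ m := orderOf_dvd_of_pow_eq_one this
    exact Nat.Coprime.coprime_dvd_left hd hqm.symm

theorem mem_map_conj_iff {H : Subgroup G} {g c : G} :
    c ∈ H.map (MulAut.conj g).toMonoidHom ↔ g⁻¹ * c * g ∈ H := by
  constructor
  · rintro ⟨h, hh, rfl⟩
    have : g⁻¹ * ((MulAut.conj g).toMonoidHom h) * g = h := by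
      show g⁻¹ * (g * h * g⁻¹) * g = h
      group
    rw [this]; exact hh
  · intro h
    refine ⟨g⁻¹ * c * g, h, ?_⟩
    show g * (g⁻¹ * c * g) * g⁻¹ = c
    group

/-- In a CN-group, a maximal nilpotent subgroup `H` whose order is divisible by `q` has a central
`q`-element `w ≠ 1`, and then `C_G(w) = H`. -/
theorem exists_central_pelement [Finite G] (hCN : Cfsg.IsCNGroup G) (H : Subgroup G)
    (hH : Group.IsNilpotent H)
    (hmax : ∀ L : Subgroup G, Group.IsNilpotent L → H ≤ L → L = H) (q : ℕ) (hq : q.Prime)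
    (hqH : q ∣ Nat.card H) :
    ∃ w ∈ H, w ≠ 1 ∧ (∃ k, orderOf w = q ^ k) ∧ Subgroup.centralizer ({w} : Set G) = H := by
  haveI := hH
  haveI : Fact q.Prime := ⟨hq⟩
  obtain ⟨Q⟩ : Nonempty (Sylow q H) := inferInstance
  have hQne : (Q : Subgroup H) ≠ ⊥ := Sylow.ne_bot_of_dvd_card Q hqH
  obtain ⟨z, hzQ, hz1, hzc⟩ := inf_center_ne_bot (Q : Subgroup H) hQne
  have hz1' : (z : G) ≠ 1 := fun h => hz1 (Subtype.ext h)
  refine ⟨z, z.2, hz1', ?_, ?_⟩
  · obtain ⟨k, hk⟩ := (IsPGroup.iff_orderOf.mp Q.isPGroup') ⟨z, hzQ⟩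
    refine ⟨k, ?_⟩
    rw [← hk, Subgroup.orderOf_mk, Subgroup.orderOf_coe]
  · apply hmax _ (hCN z hz1')
    intro h hh
    rw [Subgroup.mem_centralizer_singleton_iff]
    exact congrArg Subtype.val (hzc ⟨h, hh⟩)

end Cfsg.Agent.Lib.Helper10.CN
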