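import Mathlib
import Cfsg.Prelude.Def_LieExceptional
import Cfsg.Agent.Lib.Helper10.CN

/-!
Quotients of CN-groups by solvable normal subgroups are CN-groups.
-/

set_option autoImplicit false
open Pointwise

namespace Cfsg.Agent.Lib.Helper10.CNQuot

open scoped commutatorElement
open Cfsg.Agent.Lib.Helper10.CN Cfsg.Agent.Lib.Helper10.Coprime

universe u

/-- A nontrivial solvable normal subgroup contains a nontrivial normal `p`-subgroup. -/
theorem exists_normal_pgroup_le {G : Type*} [Group G] [Finite G] :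
    ∀ (n : ℕ) (K : Subgroup G), K.Normal → K ≠ ⊥ → Group.IsSolvable K → Nat.card K ≤ n →
      ∃ (V : Subgroup G) (p : ℕ), V.Normal ∧ V ≠ ⊥ ∧ p.Prime ∧ IsPGroup p V ∧ V ≤ K := by
  intro n
  induction n with
  | zero =>
    intro K _ _ _ h
    have := Nat.card_pos (α := K)
    omega
  | succ n ih =>
    intro K hKn hK hs hcard
    by_cases hc : ⁅K, K⁆ = ⊥
    · have hA4 : ∀ x ∈ K, ∀ y ∈ K, x * y = y * x := by
        intro x hx y hy
        have h1 : ⁅x, y⁆ ∈ ⁅K, K⁆ := Subgroup.commutator_mem_commutator hx hy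
        rw [hc, Subgroup.mem_bot] at h1
        exact commutatorElement_eq_one_iff_mul_comm.mp h1
      have hAnt : Nontrivial K := (Subgroup.nontrivial_iff_ne_bot K).mpr hK
      have hcard1 : 1 < Nat.card K := Finite.one_lt_card
      obtain ⟨p, hp, hpd⟩ := Nat.exists_prime_and_dvd (ne_of_gt hcard1)
      have hfact : Fact p.Prime := ⟨hp⟩
      obtain ⟨x, hx⟩ := exists_prime_orderOf_dvd_card' p hpd
      let V : Subgroup G :=
        { carrier := {a | a ∈ K ∧ a ^ p = 1}
          one_mem' := ⟨K.one_mem, one_pow _⟩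
          mul_mem' := by
            rintro a b ⟨ha, ha'⟩ ⟨hb, hb'⟩
            refine ⟨K.mul_mem ha hb, ?_⟩
            have hcomm : Commute a b := hA4 a ha b hb
            rw [hcomm.mul_pow, ha', hb', one_mul]
          inv_mem' := by
            rintro a ⟨ha, ha'⟩
            exact ⟨K.inv_mem ha, by rw [inv_pow, ha', inv_one]⟩ }
      refine ⟨V, p, ?_, ?_, hp, ?_, ?_⟩
      · constructor
        rintro a ⟨ha, ha'⟩ g
        exact ⟨hKn.conj_mem a ha g, by rw [conj_pow, ha', mul_one, mul_inv_cancel]⟩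
      · intro hbot
        have hxV : (x : G) ∈ V := by
          refine ⟨x.2, ?_⟩
          have : x ^ p = 1 := by rw [← hx]; exact pow_orderOf_eq_one x
          exact_mod_cast congrArg Subtype.val this
        rw [hbot, Subgroup.mem_bot] at hxV
        have hx1 : x = 1 := Subtype.ext hxV
        rw [hx1, orderOf_one] at hx
        exact hp.one_lt.ne hx
      · intro a
        refine ⟨1, Subtype.ext ?_⟩
        have := a.2.2
        simpa using this
      · intro a ha
        exact ha.1
    · have hle : ⁅K, K⁆ ≤ K := Subgroup.commutator_le_left K K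
      have hne : ⁅K, K⁆ ≠ K := by
        intro heq
        have : Nontrivial K := (Subgroup.nontrivial_iff_ne_bot K).mpr hK
        have := hs
        have h1 := Group.IsSolvable.commutator_lt_top_of_nontrivial K
        have h2 : (commutator K).map K.subtype = (⊤ : Subgroup K).map K.subtype := by
          rw [Subgroup.map_subtype_commutator, heq, ← MonoidHom.range_eq_map,
            Subgroup.range_subtype]
        have h3 := Subgroup.map_injective K.subtype_injective h2
        exact (ne_of_lt h1) h3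
      have hnor : (⁅K, K⁆).Normal := by
        have := hKn
        exact Subgroup.commutator_normal K K
      have hs' : Group.IsSolvable ↥⁅K, K⁆ := by
        have := hs
        exact Group.isSolvable_of_isSolvable_injective (Subgroup.inclusion_injective hle)
      have hcard' : Nat.card ↥⁅K, K⁆ ≤ n := by
        by_contra hcon
        have h5 : Nat.card K ≤ Nat.card ↥⁅K, K⁆ := by omega
        exact hne (Subgroup.eq_of_le_of_card_ge hle h5)
      obtain ⟨V, p, h1, h2, h3, h4, h5⟩ := ih ⁅K, K⁆ hnor hc hs' hcard'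
      exact ⟨V, p, h1, h2, h3, h4, h5.trans hle⟩

theorem isNilpotent_of_le' {G : Type*} [Group G] {A B : Subgroup G} (h : A ≤ B)
    (hB : Group.IsNilpotent B) : Group.IsNilpotent A := by
  have h1 : Group.IsNilpotent (A.subgroupOf B) := inferInstance
  exact Group.nilpotent_of_mulEquiv (Subgroup.subgroupOfEquivOfLe h)

theorem map_nilpotent {G G' : Type*} [Group G] [Group G'] (D : Subgroup G)
    (hD : Group.IsNilpotent D) (f : G →* G') : Group.IsNilpotent (D.map f) :=
  Group.nilpotent_of_surjective (f.subgroupMap D) (f.subgroupMap_surjective D)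

/-- The CN property is invariant under isomorphism. -/
theorem cn_of_mulEquiv {G G' : Type*} [Group G] [Group G'] (e : G ≃* G')
    (h : Cfsg.IsCNGroup G) : Cfsg.IsCNGroup G' := by
  intro g' hg'
  have hg : e.symm g' ≠ 1 := by
    intro h1
    apply hg'
    have := congrArg e h1
    rwa [e.apply_symm_apply, map_one] at this
  have hnil := map_nilpotent _ (h (e.symm g') hg) e.toMonoidHom
  refine isNilpotent_of_le' ?_ hnil
  intro c hc
  rw [Subgroup.mem_centralizer_singleton_iff] at hc
  refine ⟨e.symm c, ?_, e.apply_symm_apply c⟩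
  rw [SetLike.mem_coe, Subgroup.mem_centralizer_singleton_iff, ← map_mul, ← map_mul, hc]

/-- A subgroup containing a Sylow `r`-subgroup of `C` for every prime `r` contains `C`. -/
theorem le_of_sylow_le {G : Type*} [Group G] [Finite G] (C K : Subgroup G)
    (h : ∀ r : ℕ, r.Prime → ∃ R : Sylow r C, ∀ c ∈ (R : Subgroup C), (c : G) ∈ K) : C ≤ K := by
  by_contra hnle
  have hidx : (K.subgroupOf C).index ≠ 1 := by
    intro h'; apply hnle
    rw [Subgroup.index_eq_one, Subgroup.subgroupOf_eq_top] at h'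
    exact h'
  obtain ⟨r, hr, hrd⟩ := Nat.exists_prime_and_dvd hidx
  haveI : Fact r.Prime := ⟨hr⟩
  obtain ⟨R, hR⟩ := h r hr
  have hRle : (R : Subgroup C) ≤ K.subgroupOf C := fun c hcR =>
    Subgroup.mem_subgroupOf.mpr (hR c hcR)
  exact R.not_dvd_index (hrd.trans (Subgroup.index_dvd_of_le hRle))

/-- Lifting commutation through a normal `p`-subgroup: if `a` has order prime to `p` and `y`
commutes with `a` modulo `N`, then some element of `y N` commutes with `a`. -/
theorem exists_comm_lift {G : Type u} [Group G] [Finite G] (N : Subgroup G) [N.Normal] (p : ℕ)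
    [Fact p.Prime] (hNp : IsPGroup p N) (a y : G) (ha : (orderOf a).Coprime p)
    (hy : (QuotientGroup.mk' N y) * (QuotientGroup.mk' N a) =
      (QuotientGroup.mk' N a) * (QuotientGroup.mk' N y)) :
    ∃ d ∈ N, (y * d) * a = a * (y * d) := by
  obtain ⟨k, hk⟩ := IsPGroup.iff_card.mp hNp
  have hcop : (Nat.card N).Coprime (Nat.card (Subgroup.zpowers a)) := by
    rw [hk, Nat.card_zpowers]; exact Nat.Coprime.pow_left k ha.symm
  have hAD : Subgroup.zpowers a ≤ Subgroup.normalizer (N : Set G) := by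
    rw [Subgroup.normalizer_eq_top]; exact le_top
  have hmemN : ∀ g : G, QuotientGroup.mk' N g = 1 → g ∈ N := fun g hg =>
    (QuotientGroup.eq_one_iff g).mp hg
  have hx : ∀ b ∈ Subgroup.zpowers a, y⁻¹ * b * y * b⁻¹ ∈ N := by
    intro b hb
    obtain ⟨i, rfl⟩ := Subgroup.mem_zpowers_iff.mp hb
    apply hmemN
    have hc : Commute (QuotientGroup.mk' N y) (QuotientGroup.mk' N a) := hy
    have hc' := (hc.zpow_right i).eq
    rw [map_mul, map_mul, map_mul, map_inv, map_inv, map_zpow, mul_assoc _ _ (QuotientGroup.mk' N y),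
      ← hc']
    group
  obtain ⟨d, hd, hconj⟩ := key_lemma N (Subgroup.zpowers a) hAD hcop (Or.inr inferInstance) y hx
  have ht1 : (y * d) * a * (y * d)⁻¹ ∈ Subgroup.zpowers a := by
    have : (y * d) * a * (y * d)⁻¹ ∈ MulAut.conj (y * d) • Subgroup.zpowers a := by
      rw [mem_conj_smul_iff]
      have e : (y * d)⁻¹ * ((y * d) * a * (y * d)⁻¹) * (y * d) = a := by group
      rw [e]; exact Subgroup.mem_zpowers a
    rwa [hconj] at this
  have ht : (y * d) * a * (y * d)⁻¹ * a⁻¹ ∈ Subgroup.zpowers a :=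
    Subgroup.mul_mem _ ht1 (Subgroup.inv_mem _ (Subgroup.mem_zpowers a))
  have htN : (y * d) * a * (y * d)⁻¹ * a⁻¹ ∈ N := by
    apply hmemN
    have hd1 : QuotientGroup.mk' N d = 1 := (QuotientGroup.eq_one_iff d).mpr hd
    rw [map_mul, map_mul, map_mul, map_inv, map_inv, map_mul, hd1, mul_one, hy]
    group
  have ht1' : (y * d) * a * (y * d)⁻¹ * a⁻¹ = 1 := by
    have h1 : orderOf ((y * d) * a * (y * d)⁻¹ * a⁻¹) ∣ orderOf a := orderOf_dvd_of_mem_zpowers ht
    obtain ⟨j, hj⟩ := (IsPGroup.iff_orderOf.mp hNp) ⟨_, htN⟩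
    rw [Subgroup.orderOf_mk] at hj
    have h2 : (orderOf ((y * d) * a * (y * d)⁻¹ * a⁻¹)).Coprime p :=
      Nat.Coprime.coprime_dvd_left h1 ha
    have h3 : (orderOf ((y * d) * a * (y * d)⁻¹ * a⁻¹)).Coprime
        (orderOf ((y * d) * a * (y * d)⁻¹ * a⁻¹)) := by
      nth_rewrite 2 [hj]
      exact Nat.Coprime.pow_right j h2
    exact orderOf_eq_one_iff.mp ((Nat.coprime_self _).mp h3)
  refine ⟨d, hd, ?_⟩
  calc y * d * a = ((y * d) * a * (y * d)⁻¹ * a⁻¹) * (a * (y * d)) := by group
    _ = a * (y * d) := by rw [ht1', one_mul]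

theorem cent_pow_le {G : Type*} [Group G] (x : G) (m : ℕ) :
    Subgroup.centralizer ({x} : Set G) ≤ Subgroup.centralizer ({x ^ m} : Set G) := by
  intro c hc
  rw [Subgroup.mem_centralizer_singleton_iff] at hc ⊢
  have h : Commute c x := hc
  exact (h.pow_right m).eq

/-- Centralizers of elements of order `p` in the quotient by a nontrivial normal `p`-subgroup. -/
theorem case_two {G : Type u} [Group G] [Finite G] (hCN : Cfsg.IsCNGroup G) (N : Subgroup G)
    [N.Normal] (p : ℕ) [Fact p.Prime] (hNp : IsPGroup p N) (hNne : N ≠ ⊥) (xb : G ⧸ N)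
    (ho : orderOf xb = p) :
    Group.IsNilpotent (Subgroup.centralizer ({xb} : Set (G ⧸ N))) := by
  have hker : (QuotientGroup.mk' N).ker = N := QuotientGroup.ker_mk' N
  have hxb1 : xb ≠ 1 := by
    intro h
    rw [h, orderOf_one] at ho
    exact (Fact.out : p.Prime).one_lt.ne ho
  -- the preimage of `⟨xb⟩`
  have hP₁p : IsPGroup p ((Subgroup.zpowers xb).comap (QuotientGroup.mk' N)) := by
    apply IsPGroup.comap_of_ker_isPGroup
    · exact IsPGroup.of_card (n := 1) (by rw [Nat.card_zpowers, ho, pow_one])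
    · rw [hker]; exact hNp
  have hNP₁ : N ≤ (Subgroup.zpowers xb).comap (QuotientGroup.mk' N) := by
    intro n hn
    show QuotientGroup.mk' N n ∈ Subgroup.zpowers xb
    have h1 : QuotientGroup.mk' N n = 1 := (QuotientGroup.eq_one_iff n).mpr hn
    rw [h1]; exact Subgroup.one_mem _
  have hP₁C : (Subgroup.zpowers xb).comap (QuotientGroup.mk' N) ≤
      (Subgroup.centralizer ({xb} : Set (G ⧸ N))).comap (QuotientGroup.mk' N) := by
    apply Subgroup.comap_mono
    rw [Subgroup.zpowers_le]; exact Subgroup.mem_centralizer_singleton_iff.mpr rfl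
  -- a Sylow `p`-subgroup of the preimage `C` of the centralizer, containing `P₁`
  obtain ⟨Ps, hPs⟩ := (hP₁p.comap_subtype
    (K := (Subgroup.centralizer ({xb} : Set (G ⧸ N))).comap (QuotientGroup.mk' N))).exists_le_sylow
  have hPp : IsPGroup p ((Ps : Subgroup ((Subgroup.centralizer ({xb} : Set (G ⧸ N))).comap
      (QuotientGroup.mk' N))).map (Subgroup.subtype _)) := Ps.isPGroup'.map _
  have hP₁P : (Subgroup.zpowers xb).comap (QuotientGroup.mk' N) ≤
      (Ps : Subgroup ((Subgroup.centralizer ({xb} : Set (G ⧸ N))).comap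
      (QuotientGroup.mk' N))).map (Subgroup.subtype _) := by
    intro g hg
    exact ⟨⟨g, hP₁C hg⟩, hPs (Subgroup.mem_subgroupOf.mpr hg), rfl⟩
  haveI : Group.IsNilpotent ((Ps : Subgroup ((Subgroup.centralizer ({xb} : Set (G ⧸ N))).comap
      (QuotientGroup.mk' N))).map (Subgroup.subtype _)) := hPp.isNilpotent
  have hNP := hNP₁.trans hP₁P
  have hne : N.subgroupOf ((Ps : Subgroup ((Subgroup.centralizer ({xb} : Set (G ⧸ N))).comap
      (QuotientGroup.mk' N))).map (Subgroup.subtype _)) ≠ ⊥ := by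
    obtain ⟨a, ha1⟩ := (Subgroup.ne_bot_iff_exists_ne_one).mp hNne
    intro h
    have hm : (⟨a, hNP a.2⟩ : ((Ps : Subgroup ((Subgroup.centralizer ({xb} : Set (G ⧸ N))).comap
      (QuotientGroup.mk' N))).map (Subgroup.subtype _) : Subgroup G)) ∈
        N.subgroupOf ((Ps : Subgroup ((Subgroup.centralizer ({xb} : Set (G ⧸ N))).comap
      (QuotientGroup.mk' N))).map (Subgroup.subtype _)) := Subgroup.mem_subgroupOf.mpr a.2
    rw [h, Subgroup.mem_bot] at hm
    have h2 : (a : G) = 1 := congrArg Subtype.val hm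
    exact ha1 (Subtype.ext h2)
  obtain ⟨z, hzN, hz1, hzc⟩ := inf_center_ne_bot _ hne
  have hzN' : (z : G) ∈ N := Subgroup.mem_subgroupOf.mp hzN
  have hz1' : (z : G) ≠ 1 := fun h => hz1 (Subtype.ext h)
  have hzP : ∀ g ∈ (Ps : Subgroup ((Subgroup.centralizer ({xb} : Set (G ⧸ N))).comap
      (QuotientGroup.mk' N))).map (Subgroup.subtype _), g * (z : G) = z * g := fun g hg =>
    congrArg Subtype.val (hzc ⟨g, hg⟩)
  obtain ⟨kz, hkz⟩ := (IsPGroup.iff_orderOf.mp hNp) ⟨(z : G), hzN'⟩
  rw [Subgroup.orderOf_mk] at hkz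
  -- `C ≤ C_G(z)`
  have hCz : (Subgroup.centralizer ({xb} : Set (G ⧸ N))).comap (QuotientGroup.mk' N) ≤
      Subgroup.centralizer ({(z : G)} : Set G) := by
    apply le_of_sylow_le
    intro r hr
    by_cases hrp : r = p
    · subst hrp
      refine ⟨Ps, fun c hc => ?_⟩
      rw [Subgroup.mem_centralizer_singleton_iff]
      exact hzP c ⟨c, hc, rfl⟩
    · haveI : Fact r.Prime := ⟨hr⟩
      obtain ⟨R⟩ : Nonempty (Sylow r ((Subgroup.centralizer ({xb} : Set (G ⧸ N))).comap
        (QuotientGroup.mk' N))) := inferInstance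
      refine ⟨R, fun c hc => ?_⟩
      obtain ⟨j, hj⟩ := (IsPGroup.iff_orderOf.mp R.isPGroup') ⟨c, hc⟩
      rw [Subgroup.orderOf_mk, ← Subgroup.orderOf_coe] at hj
      have hcop : (orderOf (c : G)).Coprime p := by
        rw [hj]
        exact Nat.Coprime.pow_left j ((Nat.coprime_primes hr (Fact.out : p.Prime)).mpr hrp)
      obtain ⟨x₀, hx₀⟩ := QuotientGroup.mk'_surjective N xb
      have hcC : QuotientGroup.mk' N (c : G) ∈ Subgroup.centralizer ({xb} : Set (G ⧸ N)) := c.2
      rw [Subgroup.mem_centralizer_singleton_iff] at hcC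
      obtain ⟨d, hd, hcomm⟩ := exists_comm_lift N p hNp (c : G) x₀ hcop (by rw [hx₀]; exact hcC.symm)
      have hd1 : QuotientGroup.mk' N d = 1 := (QuotientGroup.eq_one_iff d).mpr hd
      have hx' : QuotientGroup.mk' N (x₀ * d) = xb := by rw [map_mul, hd1, mul_one, hx₀]
      have hx'1 : x₀ * d ≠ 1 := by
        intro h
        rw [h, map_one] at hx'
        exact hxb1 hx'.symm
      have hx'P : x₀ * d ∈ (Subgroup.zpowers xb).comap (QuotientGroup.mk' N) := by
        show QuotientGroup.mk' N (x₀ * d) ∈ Subgroup.zpowers xb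
        rw [hx']; exact Subgroup.mem_zpowers xb
      have hzx' : (z : G) ∈ Subgroup.centralizer ({x₀ * d} : Set G) :=
        Subgroup.mem_centralizer_singleton_iff.mpr (hzP _ (hP₁P hx'P)).symm
      have hcx' : (c : G) ∈ Subgroup.centralizer ({x₀ * d} : Set G) :=
        Subgroup.mem_centralizer_singleton_iff.mpr hcomm.symm
      have := comm_of_nilpotent _ (hCN _ hx'1) hzx' hcx' ⟨kz, hkz⟩ hcop
      rw [Subgroup.mem_centralizer_singleton_iff]
      exact this.symm
  have hCnil := isNilpotent_of_le' hCz (hCN z hz1')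
  have hmap : ((Subgroup.centralizer ({xb} : Set (G ⧸ N))).comap (QuotientGroup.mk' N)).map
      (QuotientGroup.mk' N) = Subgroup.centralizer ({xb} : Set (G ⧸ N)) :=
    Subgroup.map_comap_eq_self_of_surjective (QuotientGroup.mk'_surjective N) _
  rw [← hmap]
  exact map_nilpotent _ hCnil _

/-- Centralizers of `p'`-elements in the quotient by a normal `p`-subgroup. -/
theorem case_one {G : Type u} [Group G] [Finite G] (hCN : Cfsg.IsCNGroup G) (N : Subgroup G)
    [N.Normal] (p : ℕ) [Fact p.Prime] (hNp : IsPGroup p N) (xb : G ⧸ N) (hxb : xb ≠ 1)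
    (ho : ¬ p ∣ orderOf xb) :
    Group.IsNilpotent (Subgroup.centralizer ({xb} : Set (G ⧸ N))) := by
  have hcop : (orderOf xb).Coprime p :=
    ((Nat.Prime.coprime_iff_not_dvd (Fact.out : p.Prime)).mpr ho).symm
  obtain ⟨k, hk⟩ := IsPGroup.iff_card.mp hNp
  obtain ⟨x₀, hx₀⟩ := QuotientGroup.mk'_surjective N xb
  -- the lift `x₁ = x₀ ^ (p ^ k)` has order prime to `p`
  have hx₁ : QuotientGroup.mk' N (x₀ ^ (p ^ k)) = xb ^ (p ^ k) := by rw [map_pow, hx₀]
  have hxb' : xb ^ (p ^ k) ≠ 1 := by
    intro h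
    have h1 : orderOf xb ∣ p ^ k := orderOf_dvd_of_pow_eq_one h
    have h2 : (orderOf xb).Coprime (orderOf xb) :=
      Nat.Coprime.coprime_dvd_right h1 (Nat.Coprime.pow_right k hcop)
    exact hxb (orderOf_eq_one_iff.mp ((Nat.coprime_self _).mp h2))
  have hx₁1 : x₀ ^ (p ^ k) ≠ 1 := by
    intro h
    rw [h, map_one] at hx₁
    exact hxb' hx₁.symm
  have hx₁o : (orderOf (x₀ ^ (p ^ k))).Coprime p := by
    have hmem : x₀ ^ orderOf xb ∈ N := by
      apply (QuotientGroup.eq_one_iff _).mp
      have : QuotientGroup.mk' N (x₀ ^ orderOf xb) = 1 := by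
        rw [map_pow, hx₀, pow_orderOf_eq_one]
      exact this
    have h1 : (x₀ ^ (p ^ k)) ^ orderOf xb = 1 := by
      rw [← pow_mul, mul_comm, pow_mul]
      have h2 : (⟨x₀ ^ orderOf xb, hmem⟩ : N) ^ (p ^ k) = 1 := by
        rw [← hk]; exact pow_card_eq_one'
      exact congrArg Subtype.val h2
    exact Nat.Coprime.coprime_dvd_left (orderOf_dvd_of_pow_eq_one h1) hcop
  -- the centralizer of `xb ^ (p ^ k)` is covered by the centralizer of `x₁`
  have hle : Subgroup.centralizer ({xb ^ (p ^ k)} : Set (G ⧸ N)) ≤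
      (Subgroup.centralizer ({x₀ ^ (p ^ k)} : Set G)).map (QuotientGroup.mk' N) := by
    intro yb hyb
    rw [Subgroup.mem_centralizer_singleton_iff] at hyb
    obtain ⟨y, hy⟩ := QuotientGroup.mk'_surjective N yb
    obtain ⟨d, hd, hcomm⟩ := exists_comm_lift N p hNp (x₀ ^ (p ^ k)) y hx₁o
      (by rw [hx₁, hy]; exact hyb)
    have hd1 : QuotientGroup.mk' N d = 1 := (QuotientGroup.eq_one_iff d).mpr hd
    refine ⟨y * d, ?_, by rw [map_mul, hd1, mul_one, hy]⟩
    rw [SetLike.mem_coe, Subgroup.mem_centralizer_singleton_iff]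
    exact hcomm
  exact isNilpotent_of_le' ((cent_pow_le xb (p ^ k)).trans hle)
    (map_nilpotent _ (hCN _ hx₁1) _)

/-- The quotient of a CN-group by a nontrivial normal `p`-subgroup is a CN-group. -/
theorem cn_quot_pgroup {G : Type u} [Group G] [Finite G] (hCN : Cfsg.IsCNGroup G) (N : Subgroup G)
    [N.Normal] (p : ℕ) [Fact p.Prime] (hNp : IsPGroup p N) (hNne : N ≠ ⊥) :
    Cfsg.IsCNGroup (G ⧸ N) := by
  intro xb hxb
  by_cases hp : p ∣ orderOf xb
  · have ho : orderOf (xb ^ (orderOf xb / p)) = p :=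
      orderOf_pow_orderOf_div (orderOf_pos xb).ne' hp
    exact isNilpotent_of_le' (cent_pow_le xb (orderOf xb / p)) (case_two hCN N p hNp hNne _ ho)
  · exact case_one hCN N p hNp xb hxb hp

theorem cn_quot_aux : ∀ (n : ℕ) (G : Type u) [Group G] [Finite G], Cfsg.IsCNGroup G →
    ∀ (H : Subgroup G) [H.Normal], Group.IsSolvable H → Nat.card H ≤ n →
      Cfsg.IsCNGroup (G ⧸ H) := by
  intro n
  induction n with
  | zero =>
    intro G _ _ _ H _ _ hcard
    have := Nat.card_pos (α := H)
    omega
  | succ n ih =>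
    intro G _ _ hCN H hHn hH hcard
    by_cases hbot : H = ⊥
    · subst hbot
      exact cn_of_mulEquiv (QuotientGroup.quotientBot (G := G)).symm hCN
    · obtain ⟨V, p, hVn, hVne, hp, hVp, hVH⟩ :=
        exists_normal_pgroup_le (Nat.card H) H hHn hbot hH le_rfl
      haveI := hVn
      haveI : Fact p.Prime := ⟨hp⟩
      have h1 : Cfsg.IsCNGroup (G ⧸ V) := cn_quot_pgroup hCN V p hVp hVne
      have hs : Group.IsSolvable (H.map (QuotientGroup.mk' V)) := by
        haveI := hH
        exact Group.isSolvable_of_surjective ((QuotientGroup.mk' V).subgroupMap_surjective H)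
      have hc : Nat.card (H.map (QuotientGroup.mk' V)) ≤ n := by
        have hlt : Nat.card (H.map (QuotientGroup.mk' V)) < Nat.card H := by
          haveI : Fintype H := Fintype.ofFinite _
          haveI : Fintype (H.map (QuotientGroup.mk' V)) := Fintype.ofFinite _
          rw [Nat.card_eq_fintype_card, Nat.card_eq_fintype_card]
          apply Fintype.card_lt_of_surjective_not_injective _
            ((QuotientGroup.mk' V).subgroupMap_surjective H)
          intro hinj
          obtain ⟨a, ha1⟩ := (Subgroup.ne_bot_iff_exists_ne_one).mp hVne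
          have h2 : (QuotientGroup.mk' V).subgroupMap H ⟨a, hVH a.2⟩ =
              (QuotientGroup.mk' V).subgroupMap H 1 := by
            apply Subtype.ext
            show QuotientGroup.mk' V (a : G) = QuotientGroup.mk' V 1
            rw [map_one]
            exact (QuotientGroup.eq_one_iff (a : G)).mpr a.2
          have h3 := hinj h2
          have h4 : (a : G) = 1 := congrArg Subtype.val h3
          exact ha1 (Subtype.ext h4)
        omega
      have h2 := ih (G ⧸ V) h1 (H.map (QuotientGroup.mk' V)) hs hc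
      exact cn_of_mulEquiv (QuotientGroup.quotientQuotientEquivQuotient V H hVH) h2

/-- The quotient of a CN-group by a solvable normal subgroup is a CN-group. -/
theorem cn_quot {G : Type u} [Group G] [Finite G] (hCN : Cfsg.IsCNGroup G) (H : Subgroup G)
    [H.Normal] (hH : Group.IsSolvable H) : Cfsg.IsCNGroup (G ⧸ H) :=
  cn_quot_aux (Nat.card H) G hCN H hH le_rfl

end Cfsg.Agent.Lib.Helper10.CNQuot
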