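import Mathlib
import Cfsg.Agent.Lib.Helper1.CharSchur

set_option autoImplicit false
set_option linter.unusedSectionVars false
set_option linter.unusedVariables false

namespace Cfsg.Agent.Lib.Helper10.FS

open scoped ComplexConjugate
open Cfsg.Agent.Lib.Helper1

section aux

variable {G : Type*} [Group G] [Fintype G] {ι : Type*} [Fintype ι] [DecidableEq ι]

/-- averaging operator on bilinear forms (as matrices): `|G|⁻¹ ∑ X(g)ᵀ Y X(g)`. -/
noncomputable def avg (X : G → Matrix ι ι ℂ) (Y : Matrix ι ι ℂ) : Matrix ι ι ℂ :=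
  (Nat.card G : ℂ)⁻¹ • ∑ g : G, (X g).transpose * Y * X g

theorem avg_inv (X : G → Matrix ι ι ℂ) (hX : ∀ g h, X (g * h) = X g * X h) (Y : Matrix ι ι ℂ)
    (h : G) : (X h).transpose * avg X Y * X h = avg X Y := by
  unfold avg
  rw [Matrix.mul_smul, Matrix.smul_mul, Matrix.mul_sum, Matrix.sum_mul]
  congr 1
  rw [← Equiv.sum_comp (Equiv.mulRight h) (fun g => (X g).transpose * Y * X g)]
  refine Finset.sum_congr rfl fun g _ => ?_
  simp only [Equiv.coe_mulRight, hX, Matrix.transpose_mul, Matrix.mul_assoc]

theorem avg_single_apply (X : G → Matrix ι ι ℂ) (k l i j : ι) :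
    avg X (Matrix.single k l 1) i j = (Nat.card G : ℂ)⁻¹ * ∑ g : G, X g k i * X g l j := by
  unfold avg
  rw [Matrix.smul_apply, Matrix.sum_apply, smul_eq_mul]
  congr 1
  refine Finset.sum_congr rfl fun g _ => ?_
  rw [Matrix.mul_apply]
  simp only [Matrix.mul_apply, Matrix.single_apply, Matrix.transpose_apply, ite_and, mul_ite,
    mul_one, mul_zero, Finset.sum_ite_eq, Finset.mem_univ, if_true, ite_mul,
    zero_mul]

end aux

/-- The Frobenius–Schur indicator of a function on the group. -/
noncomputable def ind {G : Type*} [Group G] [Fintype G] (χ : G → ℂ) : ℂ :=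
  (Nat.card G : ℂ)⁻¹ * ∑ s : G, χ (s * s)

/-- The Frobenius–Schur dichotomy for an irreducible matrix representation: either there is
no nonzero invariant bilinear form, the indicator is `0` and the character is not real; or
there is an invertible invariant form `M0`, every invariant form is a multiple of it, transposition
acts on invariant forms by the sign `ε = ±1`, which is the indicator, and the character is real. -/
theorem dichotomy {G : Type*} [Group G] [Fintype G] (n : ℕ)
    (ρ : Representation ℂ G (Fin n → ℂ)) [ρ.IsIrreducible] :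
    ((∀ M : Matrix (Fin n) (Fin n) ℂ, (∀ g : G, (LinearMap.toMatrix' (ρ g)).transpose * M *
        LinearMap.toMatrix' (ρ g) = M) → M = 0) ∧ ind ρ.character = 0 ∧
        ∃ s : G, (ρ.character s).im ≠ 0) ∨
    (∃ (M0 : Matrix (Fin n) (Fin n) ℂ) (ε : ℂ),
      (∀ g : G, (LinearMap.toMatrix' (ρ g)).transpose * M0 * LinearMap.toMatrix' (ρ g) = M0) ∧
      M0 ≠ 0 ∧ IsUnit M0 ∧ (ε = 1 ∨ ε = -1) ∧ ind ρ.character = ε ∧
      (∀ M : Matrix (Fin n) (Fin n) ℂ, (∀ g : G, (LinearMap.toMatrix' (ρ g)).transpose * M *
        LinearMap.toMatrix' (ρ g) = M) → ∃ c : ℂ, M = c • M0) ∧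
      (∀ M : Matrix (Fin n) (Fin n) ℂ, (∀ g : G, (LinearMap.toMatrix' (ρ g)).transpose * M *
        LinearMap.toMatrix' (ρ g) = M) → M.transpose = ε • M) ∧
      ∀ s : G, (ρ.character s).im = 0) := by
  classical
  set ν := ind ρ.character with hν
  let X : G → Matrix (Fin n) (Fin n) ℂ := fun g => LinearMap.toMatrix' (ρ g)
  have hXdef : ∀ g, LinearMap.toMatrix' (ρ g) = X g := fun g => rfl
  simp only [hXdef]
  have hX : ∀ g h, X (g * h) = X g * X h := by
    intro g h
    show LinearMap.toMatrix' (ρ (g * h)) = _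
    rw [map_mul, LinearMap.toMatrix'_mul]
  have hX1 : X 1 = 1 := by
    show LinearMap.toMatrix' (ρ 1) = 1
    rw [map_one, LinearMap.toMatrix'_one]
  have hρX : ∀ g, ρ g = Matrix.toLin' (X g) := fun g => (Matrix.toLin'_toMatrix' (ρ g)).symm
  have hχ : ∀ g, ρ.character g = (X g).trace := by
    intro g
    rw [character_apply, LinearMap.trace_eq_matrix_trace ℂ (Pi.basisFun ℂ (Fin n)) (ρ g),
      LinearMap.toMatrix_eq_toMatrix']
  -- the two sums
  have hνsum : ν = ∑ i, ∑ j, avg X (Matrix.single i j 1) j i := by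
    simp only [avg_single_apply]
    rw [hν, ind]
    simp only [← Finset.mul_sum]
    congr 1
    rw [Finset.sum_comm]
    conv_rhs => enter [2, j]; rw [Finset.sum_comm]
    rw [Finset.sum_comm]
    refine Finset.sum_congr rfl fun g _ => ?_
    rw [hχ, hX, Matrix.trace]
    simp only [Matrix.diag_apply, Matrix.mul_apply]
    rw [Finset.sum_comm]
  set r := ∑ i, ∑ j, avg X (Matrix.single i j 1) i j with hr
  have hrsum : r = (Nat.card G : ℂ)⁻¹ * ∑ g : G, ρ.character g * ρ.character g := by
    rw [hr]
    simp only [avg_single_apply]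
    simp only [← Finset.mul_sum]
    congr 1
    rw [Finset.sum_comm]
    conv_lhs => enter [2, j]; rw [Finset.sum_comm]
    rw [Finset.sum_comm]
    refine Finset.sum_congr rfl fun g _ => ?_
    rw [hχ, Matrix.trace]
    simp only [Matrix.diag_apply]
    rw [Finset.sum_mul_sum]
    rw [Finset.sum_comm]
  have hreal : (∀ s : G, (ρ.character s).im = 0) → r = 1 := by
    intro hre
    rw [hrsum]
    have h1 := classInner_irr_rep ρ ρ
    rw [if_pos rfl] at h1
    rw [← h1]
    unfold Cfsg.classInner
    congr 1
    refine Finset.sum_congr rfl fun g _ => ?_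
    congr 1
    exact (Complex.conj_eq_iff_im.mpr (hre g)).symm
  -- reformulation of invariance
  have hXinv : ∀ h, (X h⁻¹).transpose * (X h).transpose = 1 := by
    intro h
    rw [← Matrix.transpose_mul, ← hX, mul_inv_cancel, hX1, Matrix.transpose_one]
  have hsw : ∀ Y : Matrix (Fin n) (Fin n) ℂ, (∀ h, (X h).transpose * Y * X h = Y) →
      ∀ h, Y * X h = (X h⁻¹).transpose * Y := by
    intro Y hY h
    calc Y * X h = ((X h⁻¹).transpose * (X h).transpose) * (Y * X h) := by
          rw [hXinv, Matrix.one_mul]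
      _ = (X h⁻¹).transpose * ((X h).transpose * Y * X h) := by
          simp only [Matrix.mul_assoc]
      _ = (X h⁻¹).transpose * Y := by rw [hY]
  -- a nonzero invariant form is invertible
  have hunitof : ∀ Y : Matrix (Fin n) (Fin n) ℂ, (∀ h, (X h).transpose * Y * X h = Y) →
      Y ≠ 0 → IsUnit Y := by
    intro Y hY hY0
    let W0 : Subrepresentation ρ :=
      { toSubmodule := LinearMap.ker (Matrix.toLin' Y)
        apply_mem_toSubmodule := by
          intro g v hv
          rw [LinearMap.mem_ker] at hv ⊢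
          rw [hρX g, ← LinearMap.comp_apply, ← Matrix.toLin'_mul, hsw Y hY g, Matrix.toLin'_mul,
            LinearMap.comp_apply, hv, map_zero] }
    rcases eq_bot_or_eq_top W0 with h | h
    · have h1 : LinearMap.ker (Matrix.toLin' Y) = ⊥ := by
        have := congrArg Subrepresentation.toSubmodule h
        exact this
      have h2 : Function.Injective (Matrix.toLin' Y) := LinearMap.ker_eq_bot.mp h1
      have h3 : Function.Surjective (Matrix.toLin' Y) :=
        LinearMap.injective_iff_surjective.mp h2
      let e := LinearEquiv.ofBijective (Matrix.toLin' Y) ⟨h2, h3⟩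
      have he : (e : (Fin n → ℂ) →ₗ[ℂ] (Fin n → ℂ)) = Matrix.toLin' Y := rfl
      refine IsUnit.of_mul_eq_one
        (LinearMap.toMatrix' (e.symm : (Fin n → ℂ) →ₗ[ℂ] (Fin n → ℂ))) ?_
      have h4 : Y = LinearMap.toMatrix' (e : (Fin n → ℂ) →ₗ[ℂ] (Fin n → ℂ)) := by
        rw [he, LinearMap.toMatrix'_toLin']
      rw [h4, ← LinearMap.toMatrix'_mul]
      have : (e : (Fin n → ℂ) →ₗ[ℂ] (Fin n → ℂ)) *
          (e.symm : (Fin n → ℂ) →ₗ[ℂ] (Fin n → ℂ)) = 1 := by
        ext v
        simp
      rw [this, LinearMap.toMatrix'_one]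
    · exfalso
      apply hY0
      have h1 : LinearMap.ker (Matrix.toLin' Y) = ⊤ := by
        have := congrArg Subrepresentation.toSubmodule h
        exact this
      rw [LinearMap.ker_eq_top] at h1
      have h2 := congrArg LinearMap.toMatrix' h1
      rw [LinearMap.toMatrix'_toLin', map_zero] at h2
      exact h2
  by_cases hall : ∀ M : Matrix (Fin n) (Fin n) ℂ, (∀ g : G, (X g).transpose * M * X g = M) → M = 0
  · -- no invariant form
    left
    have hz : ∀ k l, avg X (Matrix.single k l 1) = 0 :=
      fun k l => hall _ (fun h => avg_inv X hX _ h)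
    have hν0 : ν = 0 := by
      rw [hνsum]
      simp [hz]
    have hr0 : r = 0 := by
      rw [hr]
      simp [hz]
    refine ⟨hall, hν0, ?_⟩
    by_contra hcon
    push_neg at hcon
    have := hreal hcon
    rw [hr0] at this
    exact zero_ne_one this
  · right
    push_neg at hall
    obtain ⟨X0, hinv0, hX0⟩ := hall
    have hunit : IsUnit X0 := hunitof X0 hinv0 hX0
    obtain ⟨u, hu⟩ := hunit
    set Xi : Matrix (Fin n) (Fin n) ℂ := Units.val u⁻¹ with hXi
    have hXi1 : X0 * Xi = 1 := by rw [← hu]; exact u.mul_inv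
    have hXi2 : Xi * X0 = 1 := by rw [← hu]; exact u.inv_mul
    have e0 : ∀ h, X h * Xi = Xi * (X h⁻¹).transpose := by
      intro h
      calc X h * Xi = (Xi * X0) * (X h * Xi) := by rw [hXi2, Matrix.one_mul]
        _ = Xi * (X0 * X h) * Xi := by simp only [Matrix.mul_assoc]
        _ = Xi * ((X h⁻¹).transpose * X0) * Xi := by rw [hsw X0 hinv0 h]
        _ = Xi * (X h⁻¹).transpose * (X0 * Xi) := by simp only [Matrix.mul_assoc]
        _ = Xi * (X h⁻¹).transpose := by rw [hXi1, Matrix.mul_one]
    -- every invariant form is a multiple of X0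
    have hmult : ∀ Y : Matrix (Fin n) (Fin n) ℂ, (∀ h, (X h).transpose * Y * X h = Y) →
        ∃ c : ℂ, Y = c • X0 := by
      intro Y hY
      have hcomm : ∀ h, (Xi * Y) * X h = X h * (Xi * Y) := by
        intro h
        calc (Xi * Y) * X h = Xi * (Y * X h) := by rw [Matrix.mul_assoc]
          _ = Xi * ((X h⁻¹).transpose * Y) := by rw [hsw Y hY h]
          _ = (Xi * (X h⁻¹).transpose) * Y := by rw [Matrix.mul_assoc]
          _ = (X h * Xi) * Y := by rw [e0 h]
          _ = X h * (Xi * Y) := by rw [Matrix.mul_assoc]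
      have hs := schur_scalar ρ (Matrix.toLin' (Xi * Y)) (by
        intro h
        rw [hρX h, ← Matrix.toLin'_mul, ← Matrix.toLin'_mul, hcomm h])
      set c := LinearMap.trace ℂ (Fin n → ℂ) (Matrix.toLin' (Xi * Y)) /
        (Module.finrank ℂ (Fin n → ℂ) : ℂ) with hc
      refine ⟨c, ?_⟩
      have h2 := congrArg LinearMap.toMatrix' hs
      rw [LinearMap.toMatrix'_toLin', map_smul, LinearMap.toMatrix'_id] at h2
      calc Y = (X0 * Xi) * Y := by rw [hXi1, Matrix.one_mul]
        _ = X0 * (Xi * Y) := by rw [Matrix.mul_assoc]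
        _ = X0 * (c • (1 : Matrix (Fin n) (Fin n) ℂ)) := by rw [h2]
        _ = c • X0 := by rw [Matrix.mul_smul, Matrix.mul_one]
    -- transposition acts by a sign
    have hinvT : ∀ Y : Matrix (Fin n) (Fin n) ℂ, (∀ h, (X h).transpose * Y * X h = Y) →
        ∀ h, (X h).transpose * Y.transpose * X h = Y.transpose := by
      intro Y hY h
      have := congrArg Matrix.transpose (hY h)
      rw [Matrix.transpose_mul, Matrix.transpose_mul, Matrix.transpose_transpose,
        ← Matrix.mul_assoc] at this
      exact this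
    obtain ⟨ε, hε⟩ := hmult X0.transpose (hinvT X0 hinv0)
    have hε2 : ε * ε = 1 := by
      have h1 : X0 = (ε * ε) • X0 := by
        have := congrArg Matrix.transpose hε
        rw [Matrix.transpose_transpose, Matrix.transpose_smul, hε, smul_smul] at this
        exact this
      by_contra hne
      apply hX0
      have h2 : (1 - ε * ε) • X0 = 0 := by
        rw [sub_smul, one_smul, ← h1, sub_self]
      rcases smul_eq_zero.mp h2 with h3 | h3
      · exact absurd (sub_eq_zero.mp h3).symm hne
      · exact h3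
    have hεpm : ε = 1 ∨ ε = -1 := by
      have : (ε - 1) * (ε + 1) = 0 := by ring_nf; rw [sq, hε2]; ring
      rcases mul_eq_zero.mp this with h | h
      · exact Or.inl (sub_eq_zero.mp h)
      · exact Or.inr (eq_neg_of_add_eq_zero_left h)
    have hTall : ∀ Y : Matrix (Fin n) (Fin n) ℂ, (∀ h, (X h).transpose * Y * X h = Y) →
        Y.transpose = ε • Y := by
      intro Y hY
      obtain ⟨c, rfl⟩ := hmult Y hY
      rw [Matrix.transpose_smul, hε, smul_smul, smul_smul, mul_comm]
    have hνr : ν = ε * r := by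
      rw [hνsum, hr, Finset.mul_sum]
      refine Finset.sum_congr rfl fun i _ => ?_
      rw [Finset.mul_sum]
      refine Finset.sum_congr rfl fun j _ => ?_
      have h1 := hTall (avg X (Matrix.single i j 1)) (fun h => avg_inv X hX _ h)
      have h2 := congrFun (congrFun h1 i) j
      rw [Matrix.transpose_apply, Matrix.smul_apply, smul_eq_mul] at h2
      exact h2
    -- χ is real
    have hre : ∀ s : G, (ρ.character s).im = 0 := by
      intro s
      have h1 : ρ.character s⁻¹ = ρ.character s := by
        rw [hχ, hχ]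
        have e1 : (X s⁻¹).transpose = X0 * X s * Xi := by
          calc (X s⁻¹).transpose = (X s⁻¹).transpose * (X0 * Xi) := by
                rw [hXi1, Matrix.mul_one]
            _ = ((X s⁻¹).transpose * X0) * Xi := by rw [Matrix.mul_assoc]
            _ = (X0 * X s) * Xi := by rw [hsw X0 hinv0 s]
        rw [← Matrix.trace_transpose, e1, Matrix.trace_mul_comm, ← Matrix.mul_assoc, hXi2,
          Matrix.one_mul]
      rw [char_inv] at h1
      exact Complex.conj_eq_iff_im.mp h1
    have hr1 := hreal hre
    rw [hr1, mul_one] at hνr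
    exact ⟨X0, ε, hinv0, hX0, ⟨u, hu⟩, hεpm, hνr, hmult, hTall, hre⟩

end Cfsg.Agent.Lib.Helper10.FS
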