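import Mathlib
import Cfsg.Agent.Lib.Helper10.FS

set_option autoImplicit false
set_option linter.unusedSectionVars false
set_option linter.unusedVariables false

namespace Cfsg.Agent.Lib.Helper10.FS

open scoped ComplexConjugate
open Cfsg.Agent.Lib.Helper1

variable {G : Type*} [Group G] [Fintype G]

/-- Indicator of an irreducible character: `0` and not real, or `±1` and real. -/
theorem ind_irr {χ : G → ℂ} (hχ : Cfsg.IsIrrCharacter G χ) :
    (ind χ = 0 ∧ ∃ s, (χ s).im ≠ 0) ∨ ((ind χ = 1 ∨ ind χ = -1) ∧ ∀ s, (χ s).im = 0) := by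
  obtain ⟨n, ρ, hρ, rfl⟩ := hχ
  haveI := hρ
  rcases dichotomy n ρ with ⟨-, h0, hs⟩ | ⟨M0, ε, -, -, -, hε, hind, -, -, hre⟩
  · exact Or.inl ⟨h0, hs⟩
  · refine Or.inr ⟨?_, hre⟩
    rw [hind]
    exact hε

theorem ind_one : ind (fun _ : G => (1 : ℂ)) = 1 := by
  unfold ind
  have hne : (Nat.card G : ℂ) ≠ 0 := by
    have := Nat.card_pos (α := G)
    exact_mod_cast this.ne'
  simp only [Finset.sum_const, Finset.card_univ, nsmul_eq_mul, mul_one]
  rw [← Nat.card_eq_fintype_card]
  exact inv_mul_cancel₀ hne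

/-- `∑ χ(1) ν(χ)` counts the square roots of the identity. -/
theorem sum_degree_mul_ind [Fintype (Cfsg.IrrCharacter G)] :
    ∑ χ : Cfsg.IrrCharacter G, (χ : G → ℂ) 1 * ind (χ : G → ℂ) =
      (Nat.card {s : G // s * s = 1} : ℂ) := by
  classical
  have hne : (Nat.card G : ℂ) ≠ 0 := by
    have := Nat.card_pos (α := G)
    exact_mod_cast this.ne'
  have hreg : ∀ g : G, ∑ χ : Cfsg.IrrCharacter G, (χ : G → ℂ) 1 * (χ : G → ℂ) g =
      if g = 1 then (Nat.card G : ℂ) else 0 := by
    intro g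
    have h := congrFun (leftRegular_char_eq (G := G)) g
    rw [char_leftRegular, Finset.sum_apply] at h
    rw [h]
    refine Finset.sum_congr rfl fun χ _ => ?_
    simp
  unfold ind
  calc ∑ χ : Cfsg.IrrCharacter G, (χ : G → ℂ) 1 * ((Nat.card G : ℂ)⁻¹ * ∑ s : G, (χ : G → ℂ) (s * s))
      = (Nat.card G : ℂ)⁻¹ * ∑ s : G, ∑ χ : Cfsg.IrrCharacter G, (χ : G → ℂ) 1 * (χ : G → ℂ) (s * s) := by
        rw [Finset.sum_comm, Finset.mul_sum]
        refine Finset.sum_congr rfl fun χ _ => ?_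
        rw [Finset.mul_sum, Finset.mul_sum, Finset.mul_sum]
        refine Finset.sum_congr rfl fun s _ => ?_
        ring
    _ = (Nat.card G : ℂ)⁻¹ * ∑ s : G, (if s * s = 1 then (Nat.card G : ℂ) else 0) := by
        congr 1
        exact Finset.sum_congr rfl fun s _ => hreg (s * s)
    _ = (Nat.card {s : G // s * s = 1} : ℂ) := by
        rw [Finset.sum_ite, Finset.sum_const, Finset.sum_const_zero, add_zero, nsmul_eq_mul,
          Nat.card_eq_fintype_card (α := {s : G // s * s = 1}), Fintype.card_subtype]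
        field_simp

/-- `∑ |C(x)| = k(G) |G|`, with `k(G)` the number of irreducible characters. -/
theorem sum_card_centralizer [Fintype (Cfsg.IrrCharacter G)] :
    ∑ x : G, (Nat.card (Subgroup.centralizer ({x} : Set G)) : ℂ) =
      (Fintype.card (Cfsg.IrrCharacter G) : ℂ) * (Nat.card G : ℂ) := by
  classical
  have hne : (Nat.card G : ℂ) ≠ 0 := by
    have := Nat.card_pos (α := G)
    exact_mod_cast this.ne'
  have h1 : ∀ x : G, (Nat.card (Subgroup.centralizer ({x} : Set G)) : ℂ) =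
      ∑ χ : Cfsg.IrrCharacter G, (χ : G → ℂ) x * conj ((χ : G → ℂ) x) := by
    intro x
    rw [col_orth x x, if_pos (IsConj.refl x)]
  rw [Finset.sum_congr rfl fun x _ => h1 x, Finset.sum_comm]
  have h2 : ∀ χ : Cfsg.IrrCharacter G, ∑ x : G, (χ : G → ℂ) x * conj ((χ : G → ℂ) x) =
      (Nat.card G : ℂ) := by
    intro χ
    have := classInner_irr_self χ.2
    unfold Cfsg.classInner at this
    rw [inv_mul_eq_iff_eq_mul₀ hne, mul_one] at this
    exact this
  rw [Finset.sum_congr rfl fun χ _ => h2 χ, Finset.sum_const, Finset.card_univ, nsmul_eq_mul]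

end Cfsg.Agent.Lib.Helper10.FS
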