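import Mathlib
import Cfsg.Agent.Lib.Helper10.Glaub13

set_option autoImplicit false
open Cfsg
open scoped ComplexConjugate

namespace Cfsg.Agent.Lib.Helper10.Glaub

open Cfsg.Agent.Lib.Helper1

universe u

section ambient

variable {Γ : Type u} [Group Γ]

theorem normalizes_cent (S T H : Subgroup Γ) (hn : ∀ s ∈ S, ∀ h ∈ H, s * h * s⁻¹ ∈ H)
    (hST : ∀ s ∈ S, ∀ t ∈ T, s * t * s⁻¹ ∈ T) :
    ∀ s ∈ S, ∀ h ∈ H ⊓ Subgroup.centralizer (T : Set Γ),
      s * h * s⁻¹ ∈ H ⊓ Subgroup.centralizer (T : Set Γ) := by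
  intro s hs h hh
  refine ⟨hn s hs h hh.1, ?_⟩
  show s * h * s⁻¹ ∈ Subgroup.centralizer (T : Set Γ)
  rw [Subgroup.mem_centralizer_iff]
  intro t ht
  have ht' : s⁻¹ * t * s ∈ T := by
    have := hST s⁻¹ (S.inv_mem hs) t ht
    rwa [inv_inv] at this
  have h1 := (Subgroup.mem_centralizer_iff.mp hh.2) _ ht'
  calc t * (s * h * s⁻¹) = s * ((s⁻¹ * t * s) * h) * s⁻¹ := by group
    _ = s * (h * (s⁻¹ * t * s)) * s⁻¹ := by rw [h1]
    _ = s * h * s⁻¹ * t := by group

theorem card_inv_eq [Finite Γ] (S : Subgroup Γ) (hsolv : Group.IsSolvable S) :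
    ∀ n : ℕ, ∀ (H : Subgroup Γ), Nat.card H = n → (∀ s ∈ S, ∀ h ∈ H, s * h * s⁻¹ ∈ H) →
      (Nat.card H).Coprime (Nat.card S) →
      Nat.card {χ : IrrCharacter H // SInv S H (χ : H → ℂ)}
        = Nat.card {K : ConjClasses H // CInv S H K} := by
  intro n
  induction n using Nat.strong_induction_on with
  | _ n ih =>
    intro H hcard hn hcop
    classical
    by_cases hcent : H ≤ Subgroup.centralizer (S : Set Γ)
    · have h0 : ∀ s ∈ S, ∀ g g' : H, (g' : Γ) = s * g * s⁻¹ → g' = g := by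
        intro s hs g g' hg
        apply Subtype.ext
        rw [hg]
        have := (Subgroup.mem_centralizer_iff.mp (hcent g.2)) s hs
        rw [this]; group
      have h1 : ∀ χ : IrrCharacter H, SInv S H (χ : H → ℂ) := by
        intro χ s hs g g' hg
        rw [h0 s hs g g' hg]
      have h2 : ∀ K : ConjClasses H, CInv S H K := by
        intro K s hs g g' hg hK
        rw [h0 s hs g g' hg]; exact hK
      rw [Nat.card_congr (Equiv.subtypeUnivEquiv h1), Nat.card_congr (Equiv.subtypeUnivEquiv h2)]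
      exact card_irr
    · obtain ⟨p, T, hp, hTS, hST, hpw, hTnc, hpS⟩ := exists_T S H hn hsolv hcent
      obtain ⟨D, hDdef⟩ : ∃ D : Subgroup Γ, D = H ⊓ Subgroup.centralizer (T : Set Γ) := ⟨_, rfl⟩
      have hDH : D ≤ H := by rw [hDdef]; exact inf_le_left
      haveI : Fintype H := Fintype.ofFinite _
      haveI : Fintype D := Fintype.ofFinite _
      have hpH : ¬ p ∣ Nat.card H := by
        intro hd
        have := Nat.dvd_gcd hd hpS
        rw [Nat.Coprime] at hcop
        rw [hcop] at this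
        exact hp.one_lt.ne' (Nat.dvd_one.mp this)
      have hnT : ∀ s ∈ T, ∀ h ∈ H, s * h * s⁻¹ ∈ H := fun s hs => hn s (hTS hs)
      have hG : GProp T p H D hDH :=
        gl_main' T p hp (Nat.card H) H D hDH rfl hnT (fun _ => hpH) hpw hDdef
      have hnD : ∀ s ∈ S, ∀ h ∈ D, s * h * s⁻¹ ∈ D := by
        rw [hDdef]
        exact normalizes_cent S T H hn hST
      have hlt : Nat.card D < n := by
        rw [← hcard]
        apply card_lt_of_lt'
        refine lt_of_le_of_ne hDH ?_
        intro heq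
        apply hTnc
        have h3 : D ≤ Subgroup.centralizer (T : Set Γ) := by rw [hDdef]; exact inf_le_right
        rwa [heq] at h3
      have hcopD : (Nat.card D).Coprime (Nat.card S) :=
        Nat.Coprime.coprime_dvd_left (Subgroup.card_dvd_of_le hDH) hcop
      have IH := ih (Nat.card D) hlt D rfl hnD hcopD
      rw [card_irr_inv_eq S T p hp H D hDH hTS hn hnD hST hG, IH,
        card_cl_inv_eq S T p hp H D hDH hDdef hTS hn hnD hpH hpw]

end ambient

end Cfsg.Agent.Lib.Helper10.Glaub
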