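import Mathlib
import Cfsg.Agent.Lib.Helper10.Glaub14
import Cfsg.Agent.Lib.Helper1.CharIto

set_option autoImplicit false
open Cfsg
open scoped ComplexConjugate

namespace Cfsg.Agent.Lib.Helper10.Glaub

open Cfsg.Agent.Lib.Helper1

universe u

section ambient

variable {Γ : Type u} [Group Γ]

theorem classInner_subgroupOf {H M : Subgroup Γ} [Fintype H] [Fintype M]
    [Fintype (M.subgroupOf H)] (hMH : M ≤ H) (χ : H → ℂ) (θ : M → ℂ) :
    classInner (fun k : M.subgroupOf H => χ k) (θ ∘ (Subgroup.subgroupOfEquivOfLe hMH))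
      = classInner (res hMH χ) θ := by
  have : (fun k : M.subgroupOf H => χ k) = (res hMH χ) ∘ (Subgroup.subgroupOfEquivOfLe hMH) := by
    funext k; rfl
  rw [this]
  exact classInner_comp_mulEquiv _ _ _

theorem exists_above [Finite Γ] {H M : Subgroup Γ} [Fintype H] [Fintype M] (hMH : M ≤ H)
    {θ : M → ℂ} (hθ : IsIrrCharacter M θ) :
    ∃ χ : H → ℂ, IsIrrCharacter H χ ∧ classInner (res hMH χ) θ ≠ 0 := by
  classical
  haveI : Fintype (M.subgroupOf H) := Fintype.ofFinite _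
  have hθ' : IsIrrCharacter (M.subgroupOf H) (θ ∘ (Subgroup.subgroupOfEquivOfLe hMH)) :=
    IsIrrCharacter.comp_mulEquiv hθ _
  obtain ⟨χ, hχ, hne⟩ := exists_irr_above (M.subgroupOf H) hθ'
  refine ⟨χ, hχ, ?_⟩
  rw [← classInner_subgroupOf hMH χ θ]
  exact hne

theorem clifford_not_dvd [Finite Γ] {D M' : Subgroup Γ} [Fintype D] [Fintype M'] (hM'D : M' ≤ D)
    (hnorm : ∀ d ∈ D, ∀ m ∈ M', d * m * d⁻¹ ∈ M') (p : ℕ) (hp : p.Prime)
    (hpD : ¬ p ∣ Nat.card D) {β : D → ℂ} (hβ : IsIrrCharacter D β) {θs : M' → ℂ}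
    (hθs : IsIrrCharacter M' θs) (hne : classInner (res hM'D β) θs ≠ 0) :
    ∃ e : ℕ, classInner (res hM'D β) θs = e ∧ ¬ p ∣ e := by
  classical
  haveI : Fintype (M'.subgroupOf D) := Fintype.ofFinite _
  haveI hN : (M'.subgroupOf D).Normal := by
    constructor
    intro n hn g
    rw [Subgroup.mem_subgroupOf] at hn ⊢
    exact hnorm g g.2 n hn
  have hθ' : IsIrrCharacter (M'.subgroupOf D) (θs ∘ (Subgroup.subgroupOfEquivOfLe hM'D)) :=
    IsIrrCharacter.comp_mulEquiv hθs _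
  have heq := classInner_subgroupOf hM'D β θs
  have hc : classInner (fun k : M'.subgroupOf D => β k)
      (θs ∘ (Subgroup.subgroupOfEquivOfLe hM'D)) ≠ 0 := by
    rw [heq]; exact hne
  have hdeg := clifford_degree (M'.subgroupOf D) hβ hθ' hc
  obtain ⟨e, he⟩ := IsCharacter.classInner_irr_nat
    (IsCharacter.restrict (IsIrrCharacter.isCharacter hβ) (M'.subgroupOf D)) hθ'
  obtain ⟨dβ, hdβ, hdβD, -⟩ := IsIrrCharacter.degree_dvd_card hβ
  obtain ⟨dθ, hdθ, -, -⟩ := IsIrrCharacter.degree_dvd_card hθ'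
  rw [he, hdβ, hdθ] at hdeg
  have hnat : dβ = e * (Finset.univ.image
      (fun g : D => conjChar (M'.subgroupOf D) (θs ∘ (Subgroup.subgroupOfEquivOfLe hM'D)) g)).card
        * dθ := by
    exact_mod_cast hdeg
  refine ⟨e, ?_, ?_⟩
  · rw [← heq]; exact he
  · intro hpe
    apply hpD
    have h1 : e ∣ dβ := by
      rw [hnat, mul_assoc]
      exact Dvd.intro _ rfl
    exact dvd_trans hpe (dvd_trans h1 hdβD)

theorem decomp_congr {H D C : Subgroup Γ} [Fintype H] [Fintype D] [Fintype C] (hCD : C ≤ D)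
    (hDH : D ≤ H) (p : ℕ) {χ : H → ℂ} (hχ : IsCharacter H χ) {β : D → ℂ}
    (hβ : IsIrrCharacter D β) (m₁ : ℕ) (hm₁ : classInner (res hDH χ) β = m₁)
    (hoth : ∀ ξ : D → ℂ, IsIrrCharacter D ξ → ξ ≠ β →
      ∃ n : ℕ, classInner (res hDH χ) ξ = n ∧ p ∣ n)
    {γ : C → ℂ} (hγ : IsIrrCharacter C γ) :
    ∃ n k : ℕ, classInner (res (hCD.trans hDH) χ) γ = n ∧ classInner (res hCD β) γ = k ∧
      (n : ℤ) ≡ m₁ * k [ZMOD p] := by
  classical
  haveI : Fintype (IrrCharacter D) := irrFintype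
  obtain ⟨a, ha1, ha2⟩ := IsCharacter.eq_sum_irr (IsCharacter.comp hχ (Subgroup.inclusion hDH))
  have hexb : ∀ ξ' : IrrCharacter D, ∃ k : ℕ, classInner (res hCD (ξ' : D → ℂ)) γ = k :=
    fun ξ' => IsCharacter.classInner_irr_nat
      (IsCharacter.comp (IsIrrCharacter.isCharacter ξ'.2) (Subgroup.inclusion hCD)) hγ
  choose b hb using hexb
  have hdecomp : classInner (res (hCD.trans hDH) χ) γ = ((∑ ξ', a ξ' * b ξ' : ℕ) : ℂ) := by
    have h1 : res (hCD.trans hDH) χ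
        = ∑ ξ' : IrrCharacter D, (a ξ' : ℂ) • res hCD (ξ' : D → ℂ) := by
      funext c
      have := congrFun ha2 ⟨c, hCD c.2⟩
      simp only [Finset.sum_apply, Pi.smul_apply, smul_eq_mul] at this ⊢
      exact this
    rw [h1, classInner_sum_left]
    push_cast
    refine Finset.sum_congr rfl (fun ξ' _ => ?_)
    rw [classInner_smul_left, hb]
  refine ⟨∑ ξ', a ξ' * b ξ', b ⟨β, hβ⟩, hdecomp, hb ⟨β, hβ⟩, ?_⟩
  have ha0 : a ⟨β, hβ⟩ = m₁ := by exact_mod_cast (ha1 ⟨β, hβ⟩).symm.trans hm₁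
  have hothers : ∀ ξ' : IrrCharacter D, ξ' ≠ ⟨β, hβ⟩ → p ∣ a ξ' := by
    intro ξ' hne
    obtain ⟨n, hn', hpn⟩ := hoth ξ' ξ'.2 (fun h => hne (Subtype.ext h))
    have : a ξ' = n := by exact_mod_cast (ha1 ξ').symm.trans hn'
    exact this ▸ hpn
  rw [← Finset.add_sum_erase Finset.univ _ (Finset.mem_univ (⟨β, hβ⟩ : IrrCharacter D)), ha0]
  push_cast
  have hd : (p : ℤ) ∣ ∑ x ∈ Finset.univ.erase (⟨β, hβ⟩ : IrrCharacter D),
      (a x : ℤ) * (b x : ℤ) := by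
    apply Finset.dvd_sum
    intro x hx
    exact Dvd.dvd.mul_right
      (Int.natCast_dvd_natCast.mpr (hothers x (Finset.ne_of_mem_erase hx))) _
  rw [Int.modEq_iff_dvd]
  have : (m₁ : ℤ) * (b ⟨β, hβ⟩ : ℤ) - ((m₁ : ℤ) * (b ⟨β, hβ⟩ : ℤ)
      + ∑ x ∈ Finset.univ.erase (⟨β, hβ⟩ : IrrCharacter D), (a x : ℤ) * (b x : ℤ))
      = - ∑ x ∈ Finset.univ.erase (⟨β, hβ⟩ : IrrCharacter D), (a x : ℤ) * (b x : ℤ) := by ring
  rw [this]
  exact (dvd_neg).mpr hd

end ambient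

end Cfsg.Agent.Lib.Helper10.Glaub
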