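import Mathlib
import Cfsg.Agent.Lib.Helper10.Glaub15

set_option autoImplicit false
open Cfsg
open scoped ComplexConjugate

namespace Cfsg.Agent.Lib.Helper10.Glaub

open Cfsg.Agent.Lib.Helper1

universe u

section ambient

variable {Γ : Type u} [Group Γ]

set_option maxHeartbeats 1000000 in
theorem decomp_congr_inv [Finite Γ] (T : Subgroup Γ) (p : ℕ) (hp : p.Prime) {H M M' : Subgroup Γ}
    [Fintype H] [Fintype M] [Fintype M'] (hM'M : M' ≤ M) (hMH : M ≤ H)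
    (hnH : ∀ s ∈ T, ∀ h ∈ H, s * h * s⁻¹ ∈ H) (hnM : ∀ s ∈ T, ∀ h ∈ M, s * h * s⁻¹ ∈ M)
    (hpw : ∀ t ∈ T, ∃ k : ℕ, ∀ h ∈ M, t ^ p ^ k * h * (t ^ p ^ k)⁻¹ = h)
    (hM' : M' ≤ Subgroup.centralizer (T : Set Γ))
    {χ : H → ℂ} (hχ : IsCharacter H χ) (hχT : SInv T H χ)
    {θ : M → ℂ} (hθ : IsIrrCharacter M θ) (hθT : SInv T M θ)
    {θs : M' → ℂ} (hθs : IsIrrCharacter M' θs)
    (hoth : ∀ η : M → ℂ, IsIrrCharacter M η → SInv T M η → η ≠ θ →
      ∃ n : ℕ, classInner (res hM'M η) θs = n ∧ p ∣ n) :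
    ∃ n a k : ℕ, classInner (res (hM'M.trans hMH) χ) θs = n ∧ classInner (res hMH χ) θ = a ∧
      classInner (res hM'M θ) θs = k ∧ (n : ℤ) ≡ a * k [ZMOD p] := by
  classical
  haveI : Fact p.Prime := ⟨hp⟩
  haveI : Fintype (IrrCharacter M) := irrFintype
  obtain ⟨a, ha1, ha2⟩ := IsCharacter.eq_sum_irr (IsCharacter.comp hχ (Subgroup.inclusion hMH))
  have hexb : ∀ η : IrrCharacter M, ∃ k : ℕ, classInner (res hM'M (η : M → ℂ)) θs = k :=
    fun η => IsCharacter.classInner_irr_nat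
      (IsCharacter.comp (IsIrrCharacter.isCharacter η.2) (Subgroup.inclusion hM'M)) hθs
  choose b hb using hexb
  have hdecomp : classInner (res (hM'M.trans hMH) χ) θs = ((∑ η, a η * b η : ℕ) : ℂ) := by
    have h1 : res (hM'M.trans hMH) χ
        = ∑ η : IrrCharacter M, (a η : ℂ) • res hM'M (η : M → ℂ) := by
      funext c
      have := congrFun ha2 ⟨c, hM'M c.2⟩
      simp only [Finset.sum_apply, Pi.smul_apply, smul_eq_mul] at this ⊢
      exact this
    rw [h1, classInner_sum_left]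
    push_cast
    refine Finset.sum_congr rfl (fun η _ => ?_)
    rw [classInner_smul_left, hb]
  let Q := (conjAct T M hnM).range
  have hQ : IsPGroup p Q := isPGroup_range T M p hnM hpw
  letI : MulAction Q (IrrCharacter M) := Cfsg.Agent.S0896.irrAction Q.subtype
  have hw : ∀ (q : Q) (η : IrrCharacter M),
      ((a (q • η) : ℤ) * (b (q • η) : ℤ)) = (a η : ℤ) * (b η : ℤ) := by
    rintro ⟨q, t, rfl⟩ η
    have h1 : a ((⟨conjAct T M hnM t, ⟨t, rfl⟩⟩ : Q) • η) = a η := by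
      have e1 := ha1 ((⟨conjAct T M hnM t, ⟨t, rfl⟩⟩ : Q) • η)
      have e2 := ha1 η
      have e3 : classInner (χ ∘ (Subgroup.inclusion hMH))
          ((((⟨conjAct T M hnM t, ⟨t, rfl⟩⟩ : Q) • η : IrrCharacter M)) : M → ℂ)
          = classInner (χ ∘ (Subgroup.inclusion hMH)) (η : M → ℂ) := by
        apply Cfsg.Agent.S0896.classInner_irrAction (conjAct T M hnM)
          (χ ∘ (Subgroup.inclusion hMH)) t ?_ (η : M → ℂ)
        intro x
        exact (sinv_iff T H hnH χ).mp hχT t (Subgroup.inclusion hMH x)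
      exact_mod_cast e1.symm.trans (e3.trans e2)
    have h2 : b ((⟨conjAct T M hnM t, ⟨t, rfl⟩⟩ : Q) • η) = b η := by
      have e1 := hb ((⟨conjAct T M hnM t, ⟨t, rfl⟩⟩ : Q) • η)
      have e2 := hb η
      have e3 : res hM'M ((((⟨conjAct T M hnM t, ⟨t, rfl⟩⟩ : Q) • η : IrrCharacter M)) : M → ℂ)
          = res hM'M (η : M → ℂ) := by
        funext c
        show (η : M → ℂ) ((conjAct T M hnM t)⁻¹ ⟨c, hM'M c.2⟩) = (η : M → ℂ) ⟨c, hM'M c.2⟩
        have hfix : (conjAct T M hnM t)⁻¹ ⟨c, hM'M c.2⟩ = ⟨c, hM'M c.2⟩ := by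
          apply Subtype.ext
          rw [conjAct_inv_apply]
          have := (Subgroup.mem_centralizer_iff.mp (hM' c.2)) t t.2
          show (t : Γ)⁻¹ * c * t = c
          rw [mul_assoc, ← this]; group
        rw [hfix]
      rw [e3] at e1
      exact_mod_cast e1.symm.trans e2
    rw [h1, h2]
  have horb : ∀ η : IrrCharacter M, ∃ j : ℕ, Nat.card (MulAction.orbit Q η) = p ^ j :=
    fun η => hQ.card_orbit η
  let F : Finset (IrrCharacter M) := Finset.univ.filter (fun η => ∀ q : Q, q • η = η)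
  have key := sum_modEq_fixed (E := Q) p (fun η : IrrCharacter M => (a η : ℤ) * (b η : ℤ)) hw horb
    F (by intro η; simp [F])
  have hθF : (⟨θ, hθ⟩ : IrrCharacter M) ∈ F := by
    simp only [F, Finset.mem_filter, Finset.mem_univ, true_and]
    rintro ⟨q, t, rfl⟩
    apply Subtype.ext
    funext x
    exact (sinv_iff' T M hnM θ).mp hθT t x
  have hFinv : ∀ η ∈ F, SInv T M (η : M → ℂ) := by
    intro η hη
    simp only [F, Finset.mem_filter, Finset.mem_univ, true_and] at hη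
    rw [sinv_iff' T M hnM]
    intro t x
    have := hη ⟨conjAct T M hnM t, ⟨t, rfl⟩⟩
    exact congrFun (congrArg Subtype.val this) x
  refine ⟨∑ η, a η * b η, a ⟨θ, hθ⟩, b ⟨θ, hθ⟩, hdecomp, ha1 ⟨θ, hθ⟩, hb ⟨θ, hθ⟩, ?_⟩
  push_cast
  refine key.trans ?_
  rw [← Finset.add_sum_erase F _ hθF]
  have hd : (p : ℤ) ∣ ∑ x ∈ F.erase (⟨θ, hθ⟩ : IrrCharacter M), (a x : ℤ) * (b x : ℤ) := by
    apply Finset.dvd_sum
    intro x hx
    have hxF := Finset.mem_of_mem_erase hx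
    have hxne := Finset.ne_of_mem_erase hx
    obtain ⟨n, hn, hpn⟩ := hoth x x.2 (hFinv x hxF) (fun h => hxne (Subtype.ext h))
    have : b x = n := by exact_mod_cast (hb x).symm.trans hn
    exact Dvd.dvd.mul_left (Int.natCast_dvd_natCast.mpr (this ▸ hpn)) _
  rw [Int.modEq_iff_dvd]
  have : (a ⟨θ, hθ⟩ : ℤ) * (b ⟨θ, hθ⟩ : ℤ) - ((a ⟨θ, hθ⟩ : ℤ) * (b ⟨θ, hθ⟩ : ℤ)
      + ∑ x ∈ F.erase (⟨θ, hθ⟩ : IrrCharacter M), (a x : ℤ) * (b x : ℤ))
      = - ∑ x ∈ F.erase (⟨θ, hθ⟩ : IrrCharacter M), (a x : ℤ) * (b x : ℤ) := by ring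
  rw [this]
  exact (dvd_neg).mpr hd

end ambient

end Cfsg.Agent.Lib.Helper10.Glaub
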