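import Mathlib
import Cfsg.Agent.Lib.Helper10.Glaub16

set_option autoImplicit false
open Cfsg
open scoped ComplexConjugate

namespace Cfsg.Agent.Lib.Helper10.Glaub

open Cfsg.Agent.Lib.Helper1

universe u

section ambient

variable {Γ : Type u} [Group Γ]

set_option maxHeartbeats 1000000 in
theorem inv_above [Finite Γ] (S : Subgroup Γ) (hsolv : Group.IsSolvable S) :
    ∀ n : ℕ, ∀ (H M : Subgroup Γ) [Fintype H] [Fintype M] (hMH : M ≤ H), Nat.card H = n →
      (∀ s ∈ S, ∀ h ∈ H, s * h * s⁻¹ ∈ H) → (∀ s ∈ S, ∀ h ∈ M, s * h * s⁻¹ ∈ M) →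
      (∀ g ∈ H, ∀ m ∈ M, g * m * g⁻¹ ∈ M) → (Nat.card H).Coprime (Nat.card S) →
      ∀ θ : M → ℂ, IsIrrCharacter M θ → SInv S M θ →
      ∃ χ : H → ℂ, IsIrrCharacter H χ ∧ classInner (res hMH χ) θ ≠ 0 ∧ SInv S H χ := by
  intro n
  induction n using Nat.strong_induction_on with
  | _ n ih =>
    intro H M _ _ hMH hcard hnH hnM hHM hcop θ hθ hθS
    classical
    by_cases hcent : H ≤ Subgroup.centralizer (S : Set Γ)
    · obtain ⟨χ, hχ, hne⟩ := exists_above hMH hθ
      refine ⟨χ, hχ, hne, ?_⟩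
      intro s hs g g' hg
      have : g' = g := by
        apply Subtype.ext
        rw [hg]
        have := (Subgroup.mem_centralizer_iff.mp (hcent g.2)) s hs
        rw [this]; group
      rw [this]
    · obtain ⟨p, T, hp, hTS, hST, hpw, hTnc, hpS⟩ := exists_T S H hnH hsolv hcent
      obtain ⟨D, hDdef⟩ : ∃ D : Subgroup Γ, D = H ⊓ Subgroup.centralizer (T : Set Γ) := ⟨_, rfl⟩
      obtain ⟨M', hM'def⟩ : ∃ M' : Subgroup Γ, M' = M ⊓ Subgroup.centralizer (T : Set Γ) :=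
        ⟨_, rfl⟩
      have hDH : D ≤ H := by rw [hDdef]; exact inf_le_left
      have hM'M : M' ≤ M := by rw [hM'def]; exact inf_le_left
      have hM'D : M' ≤ D := by rw [hM'def, hDdef]; exact inf_le_inf_right _ hMH
      have hM'c : M' ≤ Subgroup.centralizer (T : Set Γ) := by rw [hM'def]; exact inf_le_right
      haveI : Fintype D := Fintype.ofFinite _
      haveI : Fintype M' := Fintype.ofFinite _
      have hpH : ¬ p ∣ Nat.card H := by
        intro hd
        have := Nat.dvd_gcd hd hpS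
        rw [Nat.Coprime] at hcop
        rw [hcop] at this
        exact hp.one_lt.ne' (Nat.dvd_one.mp this)
      have hpM : ¬ p ∣ Nat.card M := fun h => hpH (dvd_trans h (Subgroup.card_dvd_of_le hMH))
      have hpD : ¬ p ∣ Nat.card D := fun h => hpH (dvd_trans h (Subgroup.card_dvd_of_le hDH))
      have hnTH : ∀ s ∈ T, ∀ h ∈ H, s * h * s⁻¹ ∈ H := fun s hs => hnH s (hTS hs)
      have hnTM : ∀ s ∈ T, ∀ h ∈ M, s * h * s⁻¹ ∈ M := fun s hs => hnM s (hTS hs)
      have hpwM : ∀ t ∈ T, ∃ k : ℕ, ∀ h ∈ M, t ^ p ^ k * h * (t ^ p ^ k)⁻¹ = h := by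
        intro t ht
        obtain ⟨k, hk⟩ := hpw t ht
        exact ⟨k, fun h hh => hk h (hMH hh)⟩
      have hGH : GProp T p H D hDH :=
        gl_main' T p hp (Nat.card H) H D hDH rfl hnTH (fun _ => hpH) hpw hDdef
      have hGM : GProp T p M M' hM'M :=
        gl_main' T p hp (Nat.card M) M M' hM'M rfl hnTM (fun _ => hpM) hpwM hM'def
      have hnD : ∀ s ∈ S, ∀ h ∈ D, s * h * s⁻¹ ∈ D := by
        rw [hDdef]; exact normalizes_cent S T H hnH hST
      have hnM' : ∀ s ∈ S, ∀ h ∈ M', s * h * s⁻¹ ∈ M' := by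
        rw [hM'def]; exact normalizes_cent S T M hnM hST
      obtain ⟨hGMA, hGMB, hGMC⟩ := hGM
      obtain ⟨θs, hθs, ⟨mθ, hmθ, hmθc⟩, hθoth⟩ := hGMA θ hθ (sinv_mono hTS hθS)
      have hpmθ := not_dvd_of_modEq hp hmθc
      have hθsS : SInv S M' θs :=
        sinv_of_unique S p M M' hM'M hnM hnM' hθS hθs mθ hmθ hpmθ hθoth
      have hlt : Nat.card D < n := by
        rw [← hcard]
        apply card_lt_of_lt'
        refine lt_of_le_of_ne hDH ?_
        intro heq
        apply hTnc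
        have h3 : D ≤ Subgroup.centralizer (T : Set Γ) := by rw [hDdef]; exact inf_le_right
        rwa [heq] at h3
      have hcopD : (Nat.card D).Coprime (Nat.card S) :=
        Nat.Coprime.coprime_dvd_left (Subgroup.card_dvd_of_le hDH) hcop
      have hDM' : ∀ g ∈ D, ∀ m ∈ M', g * m * g⁻¹ ∈ M' := by
        intro g hg m hm
        rw [hM'def] at hm ⊢
        rw [hDdef] at hg
        exact ⟨hHM g hg.1 m hm.1,
          Subgroup.mul_mem _ (Subgroup.mul_mem _ hg.2 hm.2) (Subgroup.inv_mem _ hg.2)⟩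
      obtain ⟨β, hβ, hβne, hβS⟩ :=
        ih (Nat.card D) hlt D M' hM'D rfl hnD hnM' hDM' hcopD θs hθs hθsS
      obtain ⟨e, he, hpe⟩ := clifford_not_dvd hM'D hDM' p hp hpD hβ hθs hβne
      obtain ⟨hGHA, hGHB, hGHC⟩ := hGH
      obtain ⟨χ, hχ, hχT, m₁, hm₁, hpm₁⟩ := hGHC β hβ
      have hχS : SInv S H χ :=
        sinv_of_inj S T p H D hDH hnH hnD hST hGHB hχ hχT hβ hβS m₁ hm₁ hpm₁
      refine ⟨χ, hχ, ?_, hχS⟩
      obtain ⟨β₀, hβ₀, -, hoth₀⟩ := hGHA χ hχ hχT
      have e0 : β = β₀ := by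
        by_contra hne
        obtain ⟨n', hn', hpn'⟩ := hoth₀ β hβ hne
        have : m₁ = n' := by exact_mod_cast hm₁.symm.trans hn'
        exact hpm₁ (this ▸ hpn')
      subst e0
      obtain ⟨n₁, k₁, hn₁, hk₁, hcong1⟩ :=
        decomp_congr hM'D hDH p (IsIrrCharacter.isCharacter hχ) hβ m₁ hm₁ hoth₀ hθs
      have hk₁e : k₁ = e := by exact_mod_cast hk₁.symm.trans he
      have hoth2 : ∀ η : M → ℂ, IsIrrCharacter M η → SInv T M η → η ≠ θ →
          ∃ n : ℕ, classInner (res hM'M η) θs = n ∧ p ∣ n := by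
        intro η hη hηT hne
        obtain ⟨ηs, hηs, ⟨mη, hmη, hmηc⟩, hηoth⟩ := hGMA η hη hηT
        by_cases hs : θs = ηs
        · exfalso
          subst hs
          exact hne (hGMB η θ hη hθ hηT (sinv_mono hTS hθS) θs hθs mη mθ hmη
            (not_dvd_of_modEq hp hmηc) hmθ hpmθ)
        · exact hηoth θs hθs hs
      obtain ⟨n₂, a₂, k₂, hn₂, ha₂, hk₂, hcong2⟩ :=
        decomp_congr_inv T p hp hM'M hMH hnTH hnTM hpwM hM'c (IsIrrCharacter.isCharacter hχ) hχT
          hθ (sinv_mono hTS hθS) hθs hoth2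
      have hn12 : n₁ = n₂ := by exact_mod_cast hn₁.symm.trans hn₂
      rw [ha₂]
      intro h0
      have ha0 : a₂ = 0 := by exact_mod_cast h0
      rw [ha0] at hcong2
      have h1 : (p : ℤ) ∣ (n₂ : ℤ) := by
        have : (n₂ : ℤ) ≡ 0 [ZMOD p] := by simpa using hcong2
        exact (Int.modEq_zero_iff_dvd).mp this
      rw [← hn12] at h1
      have h2 : (p : ℤ) ∣ (m₁ : ℤ) * (k₁ : ℤ) := by
        have : (n₁ : ℤ) ≡ 0 [ZMOD p] := (Int.modEq_zero_iff_dvd).mpr h1
        exact (Int.modEq_zero_iff_dvd).mp (hcong1.symm.trans this)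
      have h3 : p ∣ m₁ * k₁ := by exact_mod_cast h2
      rcases (Nat.Prime.dvd_mul hp).mp h3 with h4 | h4
      · exact hpm₁ h4
      · exact hpe (hk₁e ▸ h4)

end ambient

end Cfsg.Agent.Lib.Helper10.Glaub
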