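import Mathlib
import Cfsg.Agent.Lib.Helper10.Glaub17
import Cfsg.Agent.Lib.Helper10.GalConj
import Cfsg.Agent.Lib.Helper1.CharDet

set_option autoImplicit false
open Cfsg
open scoped ComplexConjugate

namespace Cfsg.Agent.Lib.Helper10.Glaub

open Cfsg.Agent.Lib.Helper1 Cfsg.Agent.Lib.Helper10.GalConj

universe u

/-- A ring endomorphism of `ℂ` realising the power map `g ↦ g ^ m` on all characters. -/
theorem exists_ringHom_pow_char {G : Type*} [Group G] [Finite G] (m : ℕ)
    (hm : m.Coprime (Nat.card G)) :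
    ∃ φ : ℂ →+* ℂ, (∀ z : ℂ, z ^ Nat.card G = 1 → φ z = z ^ m) ∧
      ∀ χ : G → ℂ, IsCharacter G χ → (fun g => φ (χ g)) = fun g => χ (g ^ m) := by
  obtain ⟨φ, hφ⟩ := exists_ringHom_pow (Nat.card G) m Nat.card_pos hm
  refine ⟨φ, hφ, ?_⟩
  rintro χ ⟨n, ρ, rfl⟩
  funext g
  obtain ⟨s, d, h1, -, h3, -, -⟩ := char_spectral ρ g
  have e1 := h3 1
  have e2 := h3 m
  rw [pow_one] at e1
  rw [e1, e2, map_sum]
  refine Finset.sum_congr rfl (fun μ hμ => ?_)
  have hμN : μ ^ Nat.card G = 1 := by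
    obtain ⟨k, hk⟩ := orderOf_dvd_natCard g
    rw [hk, pow_mul, h1 μ hμ, one_pow]
  rw [map_mul, map_natCast, pow_one, hφ μ hμN]

/-- The determinantal character of the image of a character under a ring endomorphism. -/
theorem detChar_map {G : Type*} [Group G] [Finite G] (φ : ℂ →+* ℂ) {χ : G → ℂ}
    (hχ : IsCharacter G χ) :
    Cfsg.detChar (fun g => φ (χ g)) = fun g => φ (Cfsg.detChar χ g) := by
  classical
  obtain ⟨n, ρ, rfl⟩ := hχ
  let ρφ : Representation ℂ G (Fin n → ℂ) :=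
    { toFun := fun g => Matrix.toLin' ((LinearMap.toMatrix' (ρ g)).map φ)
      map_one' := by
        rw [map_one, LinearMap.toMatrix'_one, Matrix.map_one _ (map_zero φ) (map_one φ),
          Matrix.toLin'_one]
        rfl
      map_mul' := by
        intro g h
        rw [map_mul, LinearMap.toMatrix'_mul, Matrix.map_mul, Matrix.toLin'_mul]
        rfl }
  have hchar : ρφ.character = fun g => φ (ρ.character g) := by
    funext g
    show LinearMap.trace ℂ _ (Matrix.toLin' ((LinearMap.toMatrix' (ρ g)).map φ)) =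
      φ (LinearMap.trace ℂ _ (ρ g))
    rw [Matrix.trace_toLin'_eq, ← AddMonoidHom.map_trace φ,
      LinearMap.trace_eq_matrix_trace ℂ (Pi.basisFun ℂ (Fin n)) (ρ g)]
    rfl
  rw [← hchar, detChar_character, detChar_character]
  funext g
  show LinearMap.det (Matrix.toLin' ((LinearMap.toMatrix' (ρ g)).map φ)) = φ (LinearMap.det (ρ g))
  rw [LinearMap.det_toLin', ← LinearMap.det_toMatrix' (ρ g), RingHom.map_det]
  rfl

theorem detOrder_dvd_card {G : Type*} [Group G] [Finite G] {χ : G → ℂ} (hχ : IsCharacter G χ) :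
    Cfsg.detOrder χ ∣ Nat.card G := by
  obtain ⟨δ, hδ⟩ := detChar_hom hχ
  unfold Cfsg.detOrder
  apply orderOf_dvd_of_pow_eq_one
  funext g
  rw [Pi.pow_apply, hδ, ← Units.val_pow_eq_pow_val, ← map_pow, pow_card_eq_one', map_one]
  rfl

/-- The determinantal order does not grow under the power-map conjugation. -/
theorem detOrder_pow_dvd {G : Type*} [Group G] [Finite G] (m : ℕ) (hm : m.Coprime (Nat.card G))
    {χ : G → ℂ} (hχ : IsCharacter G χ) :
    Cfsg.detOrder (fun g => χ (g ^ m)) ∣ Cfsg.detOrder χ := by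
  obtain ⟨φ, hφ1, hφ2⟩ := exists_ringHom_pow_char (G := G) m hm
  rw [← hφ2 χ hχ]
  unfold Cfsg.detOrder
  rw [detChar_map φ hχ]
  have h1 : (fun g => φ (Cfsg.detChar χ g)) = (Cfsg.detChar χ) ^ m := by
    funext g
    rw [Pi.pow_apply]
    apply hφ1
    obtain ⟨δ, hδ⟩ := detChar_hom hχ
    rw [hδ, ← Units.val_pow_eq_pow_val, ← map_pow, pow_card_eq_one', map_one]
    rfl
  rw [h1]
  exact orderOf_pow_dvd m

end Cfsg.Agent.Lib.Helper10.Glaub
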