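import Mathlib
import Cfsg.Agent.Lib.Helper10.Glaub18

set_option autoImplicit false
open Cfsg
open scoped ComplexConjugate

namespace Cfsg.Agent.Lib.Helper10.Glaub

open Cfsg.Agent.Lib.Helper1

universe u

section gen

variable {Γ : Type u} [Group Γ] [Fintype Γ]

/-- Fibre counting on the coset of a generator of a cyclic coprime group of operators. -/
theorem gen_fibre (G S C : Subgroup Γ) [Fintype G] [Fintype C]
    (hnorm : ∀ s ∈ S, ∀ g ∈ G, s * g * s⁻¹ ∈ G) (hcop : (Nat.card G).Coprime (Nat.card S))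
    (hC : C = G ⊓ Subgroup.centralizer (S : Set Γ)) (hCG : C ≤ G)
    (s : Γ) (hs : Subgroup.zpowers s = S)
    (Θ : Γ → ℂ) (hΘ : ∀ x y, Θ (x * y * x⁻¹) = Θ y) :
    (Nat.card C : ℂ) * ∑ g : G, Θ ((g : Γ) * s) = (Nat.card G : ℂ) * ∑ c : C, Θ ((c : Γ) * s) := by
  have hsS : s ∈ S := by rw [← hs]; exact Subgroup.mem_zpowers s
  have hcent : ∀ c : C, (c : Γ) * s = s * c := by
    intro c
    have hc : (c : Γ) ∈ G ⊓ Subgroup.centralizer (S : Set Γ) := hC ▸ c.2
    exact ((Subgroup.mem_centralizer_iff.mp hc.2) s hsS).symm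
  let σ : G → G := fun g => ⟨s * g * s⁻¹, hnorm s hsS g g.2⟩
  have hσmul : ∀ x y : G, σ (x * y) = σ x * σ y := by
    intro x y
    apply Subtype.ext
    show s * ((x : Γ) * y) * s⁻¹ = (s * x * s⁻¹) * (s * y * s⁻¹)
    group
  have h := fibre_count (Subgroup.inclusion hCG) (Subgroup.inclusion_injective hCG) σ ?_ hσmul
    (fun g : G => Θ ((g : Γ) * s)) ?_
  · exact h
  · intro y c c' hy
    have hy' : (y : Γ) * c * (s * y * s⁻¹)⁻¹ = c' := congrArg Subtype.val hy
    have h1 : (y : Γ) * (c * s) * (y : Γ)⁻¹ = c' * s := by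
      rw [← hy']; group
    have hpowc : ∀ d : C, ((d : Γ) * s) ^ Nat.card G = s ^ Nat.card G := by
      intro d
      have hcomm : Commute (d : Γ) s := hcent d
      rw [hcomm.mul_pow]
      have : (d : Γ) ^ Nat.card G = 1 := by
        have h2 : ((⟨d, hCG d.2⟩ : G)) ^ Nat.card G = 1 := pow_card_eq_one'
        exact congrArg Subtype.val h2
      rw [this, one_mul]
    have h2 : (y : Γ) * s ^ Nat.card G * (y : Γ)⁻¹ = s ^ Nat.card G := by
      calc (y : Γ) * s ^ Nat.card G * (y : Γ)⁻¹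
          = (y : Γ) * ((c : Γ) * s) ^ Nat.card G * (y : Γ)⁻¹ := by rw [hpowc c]
        _ = ((y : Γ) * ((c : Γ) * s) * (y : Γ)⁻¹) ^ Nat.card G := by rw [conj_pow]
        _ = ((c' : Γ) * s) ^ Nat.card G := by rw [h1]
        _ = s ^ Nat.card G := hpowc c'
    have hord : orderOf s ∣ Nat.card S := by
      have := orderOf_dvd_natCard (⟨s, hsS⟩ : S)
      rwa [Subgroup.orderOf_mk] at this
    have hcop' : (Nat.card G).Coprime (orderOf s) := Nat.Coprime.coprime_dvd_right hord hcop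
    obtain ⟨k, hk⟩ := exists_pow_eq_self_of_coprime hcop'
    have h3 : (y : Γ) * s * (y : Γ)⁻¹ = s := by
      calc (y : Γ) * s * (y : Γ)⁻¹ = (y : Γ) * (s ^ Nat.card G) ^ k * (y : Γ)⁻¹ := by rw [hk]
        _ = ((y : Γ) * s ^ Nat.card G * (y : Γ)⁻¹) ^ k := by rw [conj_pow]
        _ = s := by rw [h2, hk]
    have hys : Commute s (y : Γ) := by
      show s * (y : Γ) = y * s
      calc s * (y : Γ) = ((y : Γ) * s * (y : Γ)⁻¹) * y := by rw [h3]
        _ = y * s := by group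
    have hyC : (y : Γ) ∈ C := by
      rw [hC]
      refine ⟨y.2, ?_⟩
      show (y : Γ) ∈ Subgroup.centralizer (S : Set Γ)
      rw [Subgroup.mem_centralizer_iff]
      intro h hh
      have hh' : h ∈ Subgroup.zpowers s := by rw [hs]; exact hh
      obtain ⟨j, rfl⟩ := Subgroup.mem_zpowers_iff.mp hh'
      exact (hys.zpow_left j)
    exact ⟨⟨y, hyC⟩, rfl⟩
  · intro x g
    have : ((x * g * (σ x)⁻¹ : G) : Γ) * s = x * ((g : Γ) * s) * (x : Γ)⁻¹ := by
      show (x : Γ) * g * (s * x * s⁻¹)⁻¹ * s = x * ((g : Γ) * s) * (x : Γ)⁻¹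
      group
    rw [this]
    exact hΘ _ _

theorem gen_norm (G S C : Subgroup Γ) [hG : G.Normal] [Fintype G] [Fintype C]
    (hnorm : ∀ s ∈ S, ∀ g ∈ G, s * g * s⁻¹ ∈ G) (hcop : (Nat.card G).Coprime (Nat.card S))
    (hC : C = G ⊓ Subgroup.centralizer (S : Set Γ)) (hCG : C ≤ G)
    (s : Γ) (hs : Subgroup.zpowers s = S) {χh : Γ → ℂ} (hχh : IsIrrCharacter Γ χh)
    (hres : IsIrrCharacter G (fun g : G => χh g)) :
    ∑ c : C, χh ((c : Γ) * s) * conj (χh ((c : Γ) * s)) = (Nat.card C : ℂ) := by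
  have h1 := coset_sum_norm G hχh hres s
  have h2 := gen_fibre G S C hnorm hcop hC hCG s hs (fun x => χh x * conj (χh x))
    (fun x y => by rw [IsIrrCharacter.isClassFunction hχh])
  rw [h1] at h2
  have hcardG : (Nat.card G : ℂ) ≠ 0 := by
    have : Nat.card G ≠ 0 := Nat.card_pos.ne'
    exact_mod_cast this
  have h3 : (Nat.card G : ℂ) * (Nat.card C : ℂ)
      = (Nat.card G : ℂ) * ∑ c : C, χh ((c : Γ) * s) * conj (χh ((c : Γ) * s)) := by
    rw [← h2]; ring
  exact (mul_left_cancel₀ hcardG h3).symm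

theorem gen_orth (G S C : Subgroup Γ) [hG : G.Normal] [Fintype G] [Fintype C]
    (hnorm : ∀ s ∈ S, ∀ g ∈ G, s * g * s⁻¹ ∈ G) (hcop : (Nat.card G).Coprime (Nat.card S))
    (hC : C = G ⊓ Subgroup.centralizer (S : Set Γ)) (hCG : C ≤ G)
    (s : Γ) (hs : Subgroup.zpowers s = S) {χh χh' : Γ → ℂ} (hχh : IsIrrCharacter Γ χh)
    (hres : IsIrrCharacter G (fun g : G => χh g)) (hχh' : IsIrrCharacter Γ χh')
    (hne : classInner (fun g : G => χh' g) (fun g : G => χh g) = 0) :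
    ∑ c : C, χh' ((c : Γ) * s) * conj (χh ((c : Γ) * s)) = 0 := by
  have h1 := (gallagher_eta G hχh hres hχh').2 hne
  have h2 := congrFun h1 s
  simp only [cosetAvg, Pi.zero_apply] at h2
  have hcardG : (Nat.card G : ℂ) ≠ 0 := by
    have : Nat.card G ≠ 0 := Nat.card_pos.ne'
    exact_mod_cast this
  have h3 : ∑ n : G, χh' ((n : Γ) * s) * conj (χh ((n : Γ) * s)) = 0 := by
    rcases mul_eq_zero.mp h2 with h | h
    · exact absurd (inv_eq_zero.mp h) hcardG
    · exact h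
  have h4 := gen_fibre G S C hnorm hcop hC hCG s hs (fun x => χh' x * conj (χh x))
    (fun x y => by
      rw [IsIrrCharacter.isClassFunction hχh, IsIrrCharacter.isClassFunction hχh'])
  rw [h3, mul_zero] at h4
  rcases mul_eq_zero.mp h4.symm with h | h
  · exact absurd h hcardG
  · exact h

end gen

end Cfsg.Agent.Lib.Helper10.Glaub
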