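import Mathlib
import Cfsg.Agent.Lib.Helper10.Glaub19
import Cfsg.Agent.Lib.Helper10.CycGal
import Cfsg.Agent.S0867

set_option autoImplicit false
open Cfsg
open scoped ComplexConjugate

namespace Cfsg.Agent.Lib.Helper10.Glaub

open Cfsg.Agent.Lib.Helper1

universe u

section gen

variable {Γ : Type u} [Group Γ] [Fintype Γ]

/-- The canonical extension is invariant under the power maps fixing `G` elementwise. -/
theorem canon_pow_invariant (G S : Subgroup Γ) [hG : G.Normal] [Fintype G]
    (hidx : G.index ∣ Nat.card S)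
    (hcop : (Nat.card G).Coprime (Nat.card S)) {χh : Γ → ℂ} (hχh : IsIrrCharacter Γ χh)
    (hres : IsIrrCharacter G (fun g : G => χh g)) (hdet : (Cfsg.detOrder χh).Coprime (Nat.card S))
    (m : ℕ) (hm : m.Coprime (Nat.card Γ)) (hm1 : m ≡ 1 [MOD Nat.card G]) (x : Γ) :
    χh (x ^ m) = χh x := by
  obtain ⟨d, hd, hdG, -⟩ := IsIrrCharacter.degree_dvd_card hres
  have hcopidx : ∀ k : ℕ, k.Coprime (Nat.card S) → Nat.Coprime G.index k :=
    fun k hk => Nat.Coprime.coprime_dvd_left hidx hk.symm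
  have hcop' : Nat.Coprime G.index (Cfsg.detOrder (fun g : G => χh g) * d) := by
    apply Nat.Coprime.mul_right
    · exact hcopidx _ (Nat.Coprime.coprime_dvd_left
        (detOrder_dvd_card (IsIrrCharacter.isCharacter hres)) hcop)
    · exact hcopidx _ (Nat.Coprime.coprime_dvd_left hdG hcop)
  obtain ⟨χ₀, -, huniq⟩ := Cfsg.Agent.S0867.result G (fun g : G => χh g) hres
    (fun g n => IsIrrCharacter.isClassFunction hχh _ _) d hd hcop'
  have e1 : χh = χ₀ := huniq χh hχh (fun n => rfl) (hcopidx _ hdet)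
  have hirr' := Cfsg.Agent.Lib.Helper10.GalConj.isIrrCharacter_pow m hm hχh
  have hext' : ∀ n : G, (fun y => χh (y ^ m)) n = (fun g : G => χh g) n := by
    intro n
    show χh ((n : Γ) ^ m) = χh n
    have : (n : Γ) ^ m = n := by
      have h1 : (n : Γ) ^ m = (n : Γ) ^ 1 := by
        rw [pow_eq_pow_iff_modEq]
        exact hm1.of_dvd (by rw [Subgroup.orderOf_coe]; exact orderOf_dvd_natCard n)
      rw [h1, pow_one]
    rw [this]
  have hdet' : Nat.Coprime G.index (Cfsg.detOrder (fun y => χh (y ^ m))) := by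
    apply hcopidx
    exact Nat.Coprime.coprime_dvd_left
      (detOrder_pow_dvd m hm (IsIrrCharacter.isCharacter hχh)) hdet
  have e2 : (fun y => χh (y ^ m)) = χ₀ := huniq _ hirr' hext' hdet'
  exact congrFun (e2.trans e1.symm) x

set_option maxHeartbeats 1000000 in
/-- Values of a power-invariant extension on the generators of `S`. -/
theorem gen_values (G S C : Subgroup Γ) [hG : G.Normal] [Fintype G] [Fintype C]
    (hnorm : ∀ s ∈ S, ∀ g ∈ G, s * g * s⁻¹ ∈ G) (hcop : (Nat.card G).Coprime (Nat.card S))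
    (hcyc : IsCyclic S)
    (hC : C = G ⊓ Subgroup.centralizer (S : Set Γ)) (hCG : C ≤ G)
    (hcard : Nat.card Γ ∣ Nat.card G * Nat.card S)
    {χh : Γ → ℂ} (hχh : IsIrrCharacter Γ χh) (hres : IsIrrCharacter G (fun g : G => χh g))
    (hpow : ∀ m : ℕ, m.Coprime (Nat.card Γ) → m ≡ 1 [MOD Nat.card G] →
      ∀ x : Γ, χh (x ^ m) = χh x)
    (s : Γ) (hs : Subgroup.zpowers s = S) :
    ∃ (β : C → ℂ) (ε : ℤ), IsIrrCharacter C β ∧ (ε = 1 ∨ ε = -1) ∧
      (∀ c : C, ∀ s' : Γ, Subgroup.zpowers s' = S → χh ((c : Γ) * s') = (ε : ℂ) * β c) ∧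
      classInner (fun c : C => χh c) β ≠ 0 := by
  classical
  haveI := hcyc
  haveI : Fintype S := Fintype.ofFinite _
  have hsS : s ∈ S := by rw [← hs]; exact Subgroup.mem_zpowers s
  have hcent : ∀ (c : C) (x : S), (c : Γ) * x = x * c := by
    intro c x
    have hc : (c : Γ) ∈ G ⊓ Subgroup.centralizer (S : Set Γ) := hC ▸ c.2
    exact ((Subgroup.mem_centralizer_iff.mp hc.2) x x.2).symm
  let j : C × S →* Γ := MonoidHom.noncommCoprod C.subtype S.subtype (fun c x => hcent c x)
  set Φ : C × S → ℂ := χh ∘ j with hΦ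
  have hΦchar : IsCharacter (C × S) Φ := IsCharacter.comp (IsIrrCharacter.isCharacter hχh) j
  have hΦv : ∀ (c : C) (x : S), Φ (c, x) = χh ((c : Γ) * x) := fun c x => rfl
  haveI : Fintype (IrrCharacter C) := irrFintype
  haveI : Fintype (IrrCharacter S) := irrFintype
  have hex : ∀ (γ : IrrCharacter C) (l : IrrCharacter S), ∃ n : ℕ,
      classInner Φ (fun x : C × S => (γ : C → ℂ) x.1 * (l : S → ℂ) x.2) = n :=
    fun γ l => IsCharacter.classInner_irr_nat hΦchar (isIrrCharacter_prod γ.2 l.2)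
  choose a ha using hex
  set t : IrrCharacter C → S → ℂ := fun γ x => classInner (fun c => Φ (c, x)) (γ : C → ℂ) with ht
  have hcardC : (Nat.card C : ℂ) ≠ 0 := by
    have : Nat.card C ≠ 0 := Nat.card_pos.ne'
    exact_mod_cast this
  have hA : ∀ (γ : IrrCharacter C) (l : IrrCharacter S),
      classInner (t γ) (l : S → ℂ) = a γ l := by
    intro γ l
    rw [← ha γ l]
    simp only [ht, classInner, Nat.card_prod, Fintype.sum_prod_type, Nat.cast_mul]
    have h1 : ∀ z : S, ((Nat.card C : ℂ)⁻¹ * ∑ c, Φ (c, z) * conj ((γ : C → ℂ) c))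
          * conj ((l : S → ℂ) z)
        = (Nat.card C : ℂ)⁻¹ * ∑ c, Φ (c, z) * conj ((γ : C → ℂ) c * (l : S → ℂ) z) := by
      intro z
      rw [mul_assoc, Finset.sum_mul]
      congr 1
      refine Finset.sum_congr rfl (fun c _ => ?_)
      rw [map_mul]
      ring
    rw [Finset.sum_congr rfl (fun z _ => h1 z), ← Finset.mul_sum,
      Finset.sum_comm (s := (Finset.univ : Finset S)) (t := (Finset.univ : Finset C)), mul_inv]
    ring
  have hcommS : ∀ a b : S, a * b = b * a :=
    fun a b => (IsCyclic.isMulCommutative (α := S)).is_comm.comm a b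
  have htcf : ∀ γ, IsClassFunction S (t γ) := by
    intro γ g h
    rw [hcommS h g, mul_assoc, mul_inv_cancel, mul_one]
  have hlin : ∀ l : IrrCharacter S, (l : S → ℂ) 1 = 1 :=
    fun l => irr_degree_one_of_comm hcommS l.2
  have htexp : ∀ γ, t γ = ∑ l : IrrCharacter S, (a γ l : ℂ) • (l : S → ℂ) := by
    intro γ
    calc t γ = ∑ l : IrrCharacter S, classInner (t γ) (l : S → ℂ) • (l : S → ℂ) :=
          classFunction_expansion (htcf γ)
      _ = _ := Finset.sum_congr rfl (fun l _ => by rw [hA])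
  have htchar : ∀ γ, IsCharacter S (t γ) := by
    intro γ
    rw [htexp γ]
    apply Finset.sum_induction _ (fun f => IsCharacter S f)
      (fun f g hf hg => IsCharacter.add hf hg) isCharacter_zero
    intro l _
    exact IsCharacter.natCast_smul (IsIrrCharacter.isCharacter l.2) _
  have hΦpow : ∀ (c : C) (x : S) (m : ℕ), m.Coprime (Nat.card S) → Φ (c, x ^ m) = Φ (c, x) := by
    intro c x m hm
    obtain ⟨m', hm'1, hm'2⟩ := Nat.chineseRemainder hcop.symm m 1
    have hm'cop : m'.Coprime (Nat.card Γ) := by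
      apply Nat.Coprime.coprime_dvd_right hcard
      apply Nat.Coprime.mul_right
      · rw [Nat.Coprime, Nat.ModEq.gcd_eq hm'2]; exact Nat.gcd_one_left _
      · rw [Nat.Coprime, Nat.ModEq.gcd_eq hm'1]; exact hm
    have e1 : ((c : Γ) * x) ^ m' = (c : Γ) * (x : Γ) ^ m := by
      have hcomm : Commute (c : Γ) (x : Γ) := hcent c x
      rw [hcomm.mul_pow]
      have h1 : (c : Γ) ^ m' = (c : Γ) ^ 1 := by
        rw [pow_eq_pow_iff_modEq]
        apply hm'2.of_dvd
        have h2 := orderOf_dvd_natCard (⟨c, hCG c.2⟩ : G)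
        rwa [Subgroup.orderOf_mk] at h2
      have h2 : (x : Γ) ^ m' = (x : Γ) ^ m := by
        rw [pow_eq_pow_iff_modEq]
        apply hm'1.of_dvd
        rw [Subgroup.orderOf_coe]
        exact orderOf_dvd_natCard x
      rw [h1, h2, pow_one]
    have h3 := hpow m' hm'cop hm'2 ((c : Γ) * x)
    rw [e1] at h3
    rw [hΦv, hΦv, Subgroup.coe_pow]
    exact h3
  let s₀ : S := ⟨s, hsS⟩
  have hint : ∀ γ, ∃ z : ℤ, t γ s₀ = z := by
    intro γ
    apply Cfsg.Agent.Lib.Helper10.CycGal.char_int_of_pow_invariant (htchar γ) s₀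
    intro m hm
    simp only [ht]
    congr 1
    funext c
    exact hΦpow c s₀ m hm
  choose z hz using hint
  have hFcf : IsClassFunction C (fun c => Φ (c, s₀)) := by
    intro c c'
    simp only [hΦv]
    have h1 : ((c' * c * c'⁻¹ : C) : Γ) * (s₀ : Γ) = (c' : Γ) * ((c : Γ) * s₀) * (c' : Γ)⁻¹ := by
      have h2 := hcent c' s₀
      simp only [Subgroup.coe_mul, Subgroup.coe_inv]
      have h3 : (c' : Γ)⁻¹ * (s₀ : Γ) = (s₀ : Γ) * (c' : Γ)⁻¹ := by
        rw [inv_mul_eq_iff_eq_mul, ← mul_assoc, h2, mul_assoc, mul_inv_cancel, mul_one]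
      calc (c' : Γ) * c * (c' : Γ)⁻¹ * s₀ = (c' : Γ) * c * ((c' : Γ)⁻¹ * s₀) := by group
        _ = (c' : Γ) * c * ((s₀ : Γ) * (c' : Γ)⁻¹) := by rw [h3]
        _ = _ := by group
    rw [h1]
    exact IsIrrCharacter.isClassFunction hχh _ _
  have hnorm1 : classInner (fun c => Φ (c, s₀)) (fun c => Φ (c, s₀)) = 1 := by
    unfold classInner
    have h1 := gen_norm G S C hnorm hcop hC hCG s hs hχh hres
    simp only [hΦv]
    have h2 : ∑ c : C, χh ((c : Γ) * (s₀ : Γ)) * conj (χh ((c : Γ) * (s₀ : Γ)))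
        = (Nat.card C : ℂ) := h1
    rw [h2]
    exact inv_mul_cancel₀ hcardC
  have hPC : ∑ γ, t γ s₀ * conj (t γ s₀) = 1 := by
    have h1 := parseval hFcf
    rw [hnorm1] at h1
    exact h1.symm
  have hsumz : ∑ γ, (z γ) ^ 2 = 1 := by
    have : ((∑ γ, (z γ) ^ 2 : ℤ) : ℂ) = ((1 : ℤ) : ℂ) := by
      push_cast
      rw [← hPC]
      refine Finset.sum_congr rfl (fun γ _ => ?_)
      rw [hz γ, map_intCast]; ring
    exact_mod_cast this
  have hexβ : ∃ β, z β ≠ 0 := by
    by_contra hcon
    push Not at hcon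
    have : ∑ γ, (z γ) ^ 2 = 0 := Finset.sum_eq_zero (fun γ _ => by rw [hcon γ]; ring)
    rw [this] at hsumz
    exact zero_ne_one hsumz
  obtain ⟨β, hβ0⟩ := hexβ
  have hsplit := Finset.add_sum_erase Finset.univ (fun γ => (z γ) ^ 2) (Finset.mem_univ β)
  have hrest_nonneg : 0 ≤ ∑ γ ∈ Finset.univ.erase β, (z γ) ^ 2 :=
    Finset.sum_nonneg (fun γ _ => sq_nonneg _)
  have hβsq1 : 1 ≤ (z β) ^ 2 := by
    have : 0 < (z β) ^ 2 := by positivity
    omega
  have hβsq : (z β) ^ 2 = 1 := by linarith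
  have hothers : ∀ γ, γ ≠ β → z γ = 0 := by
    intro γ hγ
    have h0 : ∑ γ ∈ Finset.univ.erase β, (z γ) ^ 2 = 0 := by linarith
    have := (Finset.sum_eq_zero_iff_of_nonneg (fun γ _ => sq_nonneg (z γ))).mp h0 γ
      (Finset.mem_erase.mpr ⟨hγ, Finset.mem_univ _⟩)
    exact pow_eq_zero_iff (two_ne_zero) |>.mp this
  have hε : z β = 1 ∨ z β = -1 := by
    have : (z β - 1) * (z β + 1) = 0 := by nlinarith
    rcases mul_eq_zero.mp this with h | h
    · left; omega
    · right; omega
  have hexp2 : (fun c => Φ (c, s₀)) = (z β : ℂ) • (β : C → ℂ) := by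
    calc (fun c => Φ (c, s₀))
        = ∑ γ : IrrCharacter C, classInner (fun c => Φ (c, s₀)) (γ : C → ℂ) • (γ : C → ℂ) :=
          classFunction_expansion hFcf
      _ = (z β : ℂ) • (β : C → ℂ) := by
          rw [Finset.sum_eq_single β]
          · have := hz β
            simp only [ht] at this
            rw [this]
          · intro γ _ hγ
            have := hz γ
            simp only [ht] at this
            rw [this, hothers γ hγ]
            simp
          · intro h; exact absurd (Finset.mem_univ _) h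
  refine ⟨β, z β, β.2, hε, ?_, ?_⟩
  · intro c s' hs'
    have hs'S : s' ∈ S := by rw [← hs']; exact Subgroup.mem_zpowers s'
    have hs'z : s' ∈ Subgroup.zpowers s := by rw [hs]; exact hs'S
    obtain ⟨k, hk⟩ : ∃ k : ℕ, s ^ k = s' := by
      have := (mem_powers_iff_mem_zpowers).mpr hs'z
      exact this
    have hord : orderOf s' = orderOf s := by
      rw [← Nat.card_zpowers, ← Nat.card_zpowers, hs, hs']
    have hkcop : k.Coprime (Nat.card S) := by
      have h1 : orderOf (s ^ k) = orderOf s / Nat.gcd (orderOf s) k := orderOf_pow s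
      rw [hk, hord] at h1
      have hpos : 0 < orderOf s := orderOf_pos s
      have h2 : Nat.gcd (orderOf s) k = 1 := by
        have hdvd := Nat.gcd_dvd_left (orderOf s) k
        have h3 := Nat.div_mul_cancel hdvd
        rw [← h1] at h3
        have h4 : orderOf s * Nat.gcd (orderOf s) k = orderOf s * 1 := by rw [h3, mul_one]
        exact Nat.eq_of_mul_eq_mul_left hpos h4
      rw [← hs, Nat.card_zpowers]
      exact Nat.coprime_comm.mp h2
    have h1 := hΦpow c s₀ k hkcop
    have h2 := congrFun hexp2 c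
    simp only [Pi.smul_apply, smul_eq_mul] at h2
    rw [← h2, ← h1, hΦv, Subgroup.coe_pow]
    show χh ((c : Γ) * s') = χh ((c : Γ) * s ^ k)
    rw [hk]
  · intro h0
    have h1 : (fun c : C => χh c) = fun c => Φ (c, 1) := by
      funext c
      rw [hΦv]
      simp
    have h2 : t β 1 = 0 := by
      simp only [ht]
      rw [← h1]; exact h0
    have h3 : t β 1 = ((∑ l, a β l : ℕ) : ℂ) := by
      rw [htexp β, Finset.sum_apply]
      push_cast
      refine Finset.sum_congr rfl (fun l _ => ?_)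
      rw [Pi.smul_apply, smul_eq_mul, hlin, mul_one]
    rw [h3] at h2
    have h4 : ∑ l, a β l = 0 := by exact_mod_cast h2
    have h5 : ∀ l, a β l = 0 := fun l =>
      (Finset.sum_eq_zero_iff.mp h4) l (Finset.mem_univ _)
    have h6 : t β = 0 := by
      rw [htexp β]
      apply Finset.sum_eq_zero
      intro l _
      rw [h5 l]; simp
    have h7 := hz β
    rw [h6] at h7
    apply hβ0
    have : ((0 : ℤ) : ℂ) = (z β : ℂ) := by simpa using h7
    exact_mod_cast this.symm

end gen

end Cfsg.Agent.Lib.Helper10.Glaub
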