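import Mathlib
import Cfsg.Agent.Lib.Helper10.Glaub20

set_option autoImplicit false
open Cfsg
open scoped ComplexConjugate

namespace Cfsg.Agent.Lib.Helper10.Glaub

open Cfsg.Agent.Lib.Helper1

universe u

section gen

variable {Γ : Type u} [Group Γ]

theorem card_irr_inv_fix [Finite Γ] (S : Subgroup Γ) (hsolv : Group.IsSolvable S) :
    ∀ n : ℕ, ∀ (H C : Subgroup Γ), Nat.card H = n → (∀ s ∈ S, ∀ h ∈ H, s * h * s⁻¹ ∈ H) →
      (Nat.card H).Coprime (Nat.card S) → C = H ⊓ Subgroup.centralizer (S : Set Γ) →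
      Nat.card {χ : IrrCharacter H // SInv S H (χ : H → ℂ)} = Nat.card (IrrCharacter C) := by
  intro n
  induction n using Nat.strong_induction_on with
  | _ n ih =>
    intro H C hcard hn hcop hC
    classical
    by_cases hcent : H ≤ Subgroup.centralizer (S : Set Γ)
    · have hCH : C = H := by rw [hC]; exact inf_eq_left.mpr hcent
      subst hCH
      have h0 : ∀ s ∈ S, ∀ g g' : C, (g' : Γ) = s * g * s⁻¹ → g' = g := by
        intro s hs g g' hg
        apply Subtype.ext
        rw [hg]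
        have := (Subgroup.mem_centralizer_iff.mp (hcent g.2)) s hs
        rw [this]; group
      have h1 : ∀ χ : IrrCharacter C, SInv S C (χ : C → ℂ) := by
        intro χ s hs g g' hg
        rw [h0 s hs g g' hg]
      exact Nat.card_congr (Equiv.subtypeUnivEquiv h1)
    · obtain ⟨p, T, hp, hTS, hST, hpw, hTnc, hpS⟩ := exists_T S H hn hsolv hcent
      obtain ⟨D, hDdef⟩ : ∃ D : Subgroup Γ, D = H ⊓ Subgroup.centralizer (T : Set Γ) := ⟨_, rfl⟩
      have hDH : D ≤ H := by rw [hDdef]; exact inf_le_left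
      haveI : Fintype H := Fintype.ofFinite _
      haveI : Fintype D := Fintype.ofFinite _
      have hpH : ¬ p ∣ Nat.card H := by
        intro hd
        have := Nat.dvd_gcd hd hpS
        rw [Nat.Coprime] at hcop
        rw [hcop] at this
        exact hp.one_lt.ne' (Nat.dvd_one.mp this)
      have hnT : ∀ s ∈ T, ∀ h ∈ H, s * h * s⁻¹ ∈ H := fun s hs => hn s (hTS hs)
      have hG : GProp T p H D hDH :=
        gl_main' T p hp (Nat.card H) H D hDH rfl hnT (fun _ => hpH) hpw hDdef
      have hnD : ∀ s ∈ S, ∀ h ∈ D, s * h * s⁻¹ ∈ D := by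
        rw [hDdef]
        exact normalizes_cent S T H hn hST
      have hlt : Nat.card D < n := by
        rw [← hcard]
        apply card_lt_of_lt'
        refine lt_of_le_of_ne hDH ?_
        intro heq
        apply hTnc
        have h3 : D ≤ Subgroup.centralizer (T : Set Γ) := by rw [hDdef]; exact inf_le_right
        rwa [heq] at h3
      have hcopD : (Nat.card D).Coprime (Nat.card S) :=
        Nat.Coprime.coprime_dvd_left (Subgroup.card_dvd_of_le hDH) hcop
      have hC2 : C = D ⊓ Subgroup.centralizer (S : Set Γ) := by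
        rw [hC, hDdef]
        apply le_antisymm
        · exact le_inf (le_inf inf_le_left (inf_le_right.trans (Subgroup.centralizer_le hTS)))
            inf_le_right
        · exact inf_le_inf_right _ inf_le_left
      have IH := ih (Nat.card D) hlt D C rfl hnD hcopD hC2
      rw [card_irr_inv_eq S T p hp H D hDH hTS hn hnD hST hG, IH]

theorem setup_normal (G S : Subgroup Γ) (hnorm : ∀ s ∈ S, ∀ g ∈ G, s * g * s⁻¹ ∈ G)
    (htop : G ⊔ S = ⊤) : G.Normal := by
  have h1 : S ≤ Subgroup.normalizer (G : Set Γ) := by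
    intro s hs
    rw [Subgroup.mem_normalizer_iff]
    intro h
    constructor
    · exact hnorm s hs h
    · intro hh
      have := hnorm s⁻¹ (S.inv_mem hs) _ hh
      have e : s⁻¹ * (s * h * s⁻¹) * s⁻¹⁻¹ = h := by group
      rwa [e] at this
  have h2 : (⊤ : Subgroup Γ) ≤ Subgroup.normalizer (G : Set Γ) := by
    rw [← htop]
    exact sup_le Subgroup.le_normalizer h1
  constructor
  intro n hn g
  exact ((Subgroup.mem_normalizer_iff.mp (h2 (Subgroup.mem_top g))) n).mp hn

theorem setup_index [Finite Γ] (G S : Subgroup Γ) [hG : G.Normal] (htop : G ⊔ S = ⊤) :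
    G.index ∣ Nat.card S := by
  have h1 : G.relIndex (S ⊔ G) = G.relIndex S := Subgroup.relIndex_sup_right S G
  rw [sup_comm, htop, Subgroup.relIndex_top_right] at h1
  rw [h1]
  exact Subgroup.relIndex_dvd_card G S

theorem setup_card [Finite Γ] (G S : Subgroup Γ) [hG : G.Normal] (htop : G ⊔ S = ⊤) :
    Nat.card Γ ∣ Nat.card G * Nat.card S := by
  rw [← Subgroup.card_mul_index G]
  exact Nat.mul_dvd_mul_left _ (setup_index G S htop)

theorem setup_inv (G S : Subgroup Γ) [hG : G.Normal] (htop : G ⊔ S = ⊤) {χ : G → ℂ}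
    (hχ : IsClassFunction G χ) (hinv : SInv S G χ) :
    ∀ (x : Γ) (n : G), χ ⟨x * n * x⁻¹, hG.conj_mem (n : Γ) n.2 x⟩ = χ n := by
  intro x n
  have hx : x ∈ G ⊔ S := by rw [htop]; exact Subgroup.mem_top x
  obtain ⟨g, hg, s, hs, rfl⟩ := Subgroup.mem_sup_of_normal_left.mp hx
  have h1 : s * (n : Γ) * s⁻¹ ∈ G := hG.conj_mem (n : Γ) n.2 s
  have h2 : χ ⟨s * n * s⁻¹, h1⟩ = χ n := hinv s hs n ⟨s * n * s⁻¹, h1⟩ rfl
  have h3 : (⟨g * s * n * (g * s)⁻¹, hG.conj_mem (n : Γ) n.2 (g * s)⟩ : G)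
      = ⟨g, hg⟩ * ⟨s * n * s⁻¹, h1⟩ * ⟨g, hg⟩⁻¹ := by
    apply Subtype.ext
    show g * s * (n : Γ) * (g * s)⁻¹ = g * (s * n * s⁻¹) * g⁻¹
    group
  rw [h3, hχ, h2]

end gen

end Cfsg.Agent.Lib.Helper10.Glaub
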