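import Mathlib
import Cfsg.Agent.Lib.Helper10.Glaub22
import Cfsg.Agent.Lib.Helper1.TransTate
import Cfsg.Agent.S0086

set_option autoImplicit false
open Cfsg
open scoped ComplexConjugate Pointwise

namespace Cfsg.Agent.Lib.Helper10.PKer

open Cfsg.Agent.Lib.Helper1 Cfsg.Agent.Lib.Helper10.Glaub

universe u

/-- A character of degree prime to `p` has an irreducible constituent of degree prime to `p`. -/
theorem exists_pprime_constituent {X : Type u} [Group X] [Fintype X] {p : ℕ} {Φ : X → ℂ}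
    (hΦ : IsCharacter X Φ) (d : ℕ) (hd : Φ 1 = d) (hpd : ¬ p ∣ d) :
    ∃ χ : X → ℂ, IsIrrCharacter X χ ∧ classInner Φ χ ≠ 0 ∧ ∃ e : ℕ, χ 1 = e ∧ ¬ p ∣ e := by
  classical
  have : Fintype (IrrCharacter X) := irrFintype
  obtain ⟨m, hm1, hm2⟩ := IsCharacter.eq_sum_irr hΦ
  have hdegs : ∀ φ : IrrCharacter X, ∃ n : ℕ, 0 < n ∧ (φ : X → ℂ) 1 = (n : ℂ) :=
    fun φ => IsIrrCharacter.degree_pos φ.2
  choose n hnpos hn using hdegs
  have h2 : ((∑ ψ : IrrCharacter X, m ψ * n ψ : ℕ) : ℂ) = (d : ℂ) := by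
    rw [← hd]
    have h3 := congrFun hm2 1
    rw [h3, Finset.sum_apply]
    push_cast
    refine Finset.sum_congr rfl (fun ψ _ => ?_)
    rw [Pi.smul_apply, hn ψ]
    simp
  have h3 : ∑ ψ : IrrCharacter X, m ψ * n ψ = d := by exact_mod_cast h2
  by_contra hcon
  push_neg at hcon
  apply hpd
  rw [← h3]
  apply Finset.dvd_sum
  intro ψ _
  by_cases hmz : m ψ = 0
  · rw [hmz, zero_mul]
    exact dvd_zero p
  · have h4 : classInner Φ (ψ : X → ℂ) ≠ 0 := by
      rw [hm1 ψ]
      exact_mod_cast hmz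
    have := hcon ψ.1 ψ.2 h4 (n ψ) (hn ψ)
    exact Dvd.dvd.mul_left this _

/-- A `p`-subgroup is conjugate into any subgroup of index prime to `p`. -/
theorem pgroup_conj_into {G : Type u} [Group G] [Finite G] {p : ℕ} [Fact p.Prime]
    (P : Subgroup G) (hP : IsPGroup p P) (T : Subgroup G) (hT : ¬ p ∣ T.index) :
    ∃ x : G, ∀ u ∈ P, x⁻¹ * u * x ∈ T := by
  have hfix := hP.nonempty_fixed_point_of_prime_not_dvd_card (G ⧸ T) hT
  obtain ⟨q, hq⟩ := hfix
  obtain ⟨x, rfl⟩ := QuotientGroup.mk_surjective q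
  refine ⟨x, fun u hu => ?_⟩
  have h1 := hq ⟨u, hu⟩
  have h2 : ((u * x : G) : G ⧸ T) = (x : G ⧸ T) := h1
  have h3 := QuotientGroup.eq.mp h2.symm
  rw [mul_assoc]
  exact h3

/-- In a finite `p`-group the derived subgroup lies in the Frattini subgroup. -/
theorem commutator_le_frattini {P : Type u} [Group P] [Finite P] {p : ℕ} [Fact p.Prime]
    (hP : IsPGroup p P) : commutator P ≤ frattini P := by
  unfold frattini Order.radical
  refine le_iInf₂ (fun M hM => ?_)
  haveI hnil : Group.IsNilpotent P := hP.isNilpotent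
  haveI hMn : M.Normal :=
    Subgroup.NormalizerCondition.normal_of_coatom M Group.normalizerCondition_of_isNilpotent hM
  obtain ⟨g, hg⟩ : ∃ g, g ∉ M := by
    by_contra hcon
    apply hM.1
    rw [eq_top_iff]
    intro g _
    by_contra hg
    exact hcon ⟨g, hg⟩
  have hsup : M ⊔ Subgroup.zpowers g = ⊤ := by
    apply hM.2
    refine lt_of_le_of_ne le_sup_left ?_
    intro he
    apply hg
    rw [he]
    exact Subgroup.mem_sup_right (Subgroup.mem_zpowers g)
  exact Subgroup.Normal.commutator_le_of_self_sup_commutative_eq_top hsup inferInstance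

/-- A normal subgroup meeting the centralizer of a Sylow `p`-subgroup trivially is a
`p'`-group. -/
theorem coprime_of_inf_centralizer {G : Type u} [Group G] [Finite G] {p : ℕ} [Fact p.Prime]
    (P : Sylow p G) (N : Subgroup G) [hN : N.Normal]
    (h : N ⊓ Subgroup.centralizer ((P : Subgroup G) : Set G) = ⊥) :
    (Nat.card N).Coprime p := by
  have hp : p.Prime := Fact.out
  -- N ⊓ P = ⊥
  have hNP : N ⊓ (P : Subgroup G) = ⊥ := by
    by_contra hne
    have hn : ∀ s ∈ (P : Subgroup G), ∀ x ∈ N ⊓ (P : Subgroup G), s * x * s⁻¹ ∈ N ⊓ (P : Subgroup G) :=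
      fun s hs x hx => ⟨hN.conj_mem x hx.1 s,
        (P : Subgroup G).mul_mem ((P : Subgroup G).mul_mem hs hx.2) ((P : Subgroup G).inv_mem hs)⟩
    have hpw : ∀ t ∈ (P : Subgroup G), ∃ k : ℕ, ∀ x ∈ N ⊓ (P : Subgroup G),
        t ^ p ^ k * x * (t ^ p ^ k)⁻¹ = x := by
      intro t ht
      obtain ⟨k, hk⟩ := (IsPGroup.iff_orderOf.mp P.isPGroup') ⟨t, ht⟩
      refine ⟨k, fun x _ => ?_⟩
      have h1 : t ^ p ^ k = 1 := by
        have h2 : (⟨t, ht⟩ : (P : Subgroup G)) ^ p ^ k = 1 := by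
          rw [← hk]
          exact pow_orderOf_eq_one _
        have h3 := congrArg Subtype.val h2
        simpa using h3
      rw [h1]
      group
    have hA : IsPGroup p ↥(N ⊓ (P : Subgroup G)) := P.isPGroup'.to_inf_right
    haveI : Nontrivial ↥(N ⊓ (P : Subgroup G)) := by
      rw [Subgroup.nontrivial_iff_ne_bot]
      exact hne
    obtain ⟨k, hkpos, hk⟩ := (IsPGroup.nontrivial_iff_card hA).mp inferInstance
    have hcard : ¬ p ∣ Nat.card ({x : ↥(N ⊓ (P : Subgroup G)) | x ≠ 1} :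
        Set ↥(N ⊓ (P : Subgroup G))) := by
      have h1 : Nat.card ({x : ↥(N ⊓ (P : Subgroup G)) | x ≠ 1} :
          Set ↥(N ⊓ (P : Subgroup G))) + 1 = Nat.card ↥(N ⊓ (P : Subgroup G)) := by
        classical
        have hfin := Fintype.ofFinite ↥(N ⊓ (P : Subgroup G))
        rw [Nat.card_eq_fintype_card, Nat.card_eq_fintype_card]
        have h2 : Fintype.card ({x : ↥(N ⊓ (P : Subgroup G)) | x ≠ 1} :
            Set ↥(N ⊓ (P : Subgroup G))) =
            (Finset.univ.filter (fun x : ↥(N ⊓ (P : Subgroup G)) => x ≠ 1)).card := by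
          rw [← Fintype.card_subtype]
          exact Fintype.card_congr (Equiv.refl _)
        rw [h2, Finset.filter_ne' Finset.univ (1 : ↥(N ⊓ (P : Subgroup G))),
          Finset.card_erase_of_mem (Finset.mem_univ _), Finset.card_univ]
        have := Fintype.card_pos (α := ↥(N ⊓ (P : Subgroup G)))
        omega
      intro hdvd
      rw [hk] at h1
      have h2 : p ∣ p ^ k := dvd_pow_self p (Nat.pos_iff_ne_zero.mp hkpos)
      rw [← h1] at h2
      have h3 : p ∣ 1 := (Nat.dvd_add_right hdvd).mp h2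
      exact hp.one_lt.ne' (Nat.dvd_one.mp h3)
    obtain ⟨x, hx1, hxc⟩ := exists_fixed_of_invariant (P : Subgroup G) (N ⊓ (P : Subgroup G)) p hp
      hn hpw {x | x ≠ 1} (by
        intro t x hx
        show conjAct (P : Subgroup G) (N ⊓ (P : Subgroup G)) hn t x ≠ 1
        intro h0
        apply hx
        have := (conjAct (P : Subgroup G) (N ⊓ (P : Subgroup G)) hn t).injective
          (h0.trans (map_one _).symm)
        exact this) hcard
    have hxN : (x : G) ∈ N ⊓ Subgroup.centralizer ((P : Subgroup G) : Set G) := ⟨x.2.1, hxc⟩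
    rw [h, Subgroup.mem_bot] at hxN
    exact hx1 (Subtype.ext hxN)
  -- Cauchy
  rw [Nat.coprime_comm, Nat.Prime.coprime_iff_not_dvd hp]
  intro hdvd
  obtain ⟨z, hz⟩ := exists_prime_orderOf_dvd_card' (G := N) p hdvd
  have hzp : IsPGroup p (Subgroup.zpowers (z : G)) := by
    apply IsPGroup.of_card (n := 1)
    rw [Nat.card_zpowers, pow_one, Subgroup.orderOf_coe, hz]
  obtain ⟨Q, hQ⟩ := hzp.exists_le_sylow
  obtain ⟨g, hg⟩ := MulAction.exists_smul_eq G Q P
  have hzQ : (z : G) ∈ (Q : Subgroup G) := hQ (Subgroup.mem_zpowers _)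
  have hzP : g * (z : G) * g⁻¹ ∈ (P : Subgroup G) := by
    have h0 : ((g • Q : Sylow p G) : Subgroup G) = MulAut.conj g • (Q : Subgroup G) := by
      rw [Sylow.smul_def, Sylow.pointwise_smul_def]
    rw [← hg, h0]
    have := Subgroup.smul_mem_pointwise_smul (z : G) (MulAut.conj g) (Q : Subgroup G) hzQ
    simpa [MulAut.smul_def] using this
  have hzN : g * (z : G) * g⁻¹ ∈ N := hN.conj_mem _ z.2 g
  have h1 : g * (z : G) * g⁻¹ ∈ N ⊓ (P : Subgroup G) := ⟨hzN, hzP⟩
  rw [hNP, Subgroup.mem_bot] at h1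
  have h2 : (z : G) = 1 := by
    have : (z : G) = g⁻¹ * (g * (z : G) * g⁻¹) * g := by group
    rw [this, h1]
    group
  have h3 : orderOf z = 1 := by
    rw [orderOf_eq_one_iff]
    exact Subtype.ext h2
  rw [hz] at h3
  exact hp.one_lt.ne' h3

end Cfsg.Agent.Lib.Helper10.PKer
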