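import Mathlib
import Cfsg.Agent.Lib.Helper10.PKer2

set_option autoImplicit false
open Cfsg
open scoped ComplexConjugate Pointwise

namespace Cfsg.Agent.Lib.Helper10.PKer

open Cfsg.Agent.Lib.Helper1 Cfsg.Agent.Lib.Helper10.Glaub

universe u

/-- Step C: if `N` acts trivially, and `χ_P` has a linear constituent, then every normal
subgroup inside `N P'` lies in the kernel of the irreducible character `χ`. -/
theorem le_ker_of_fixed {G : Type u} [Group G] [Finite G] (P N L : Subgroup G) [hLn : L.Normal]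
    (hL : L ≤ N ⊔ ⁅P, P⁆) {χ : G → ℂ} (hχ : IsIrrCharacter G χ) (hN : ∀ n ∈ N, χ n = χ 1)
    (lam : P →* ℂˣ) [Fintype P]
    (hlam : classInner (fun u : P => χ u) (fun u => ((lam u : ℂˣ) : ℂ)) ≠ 0) :
    ∀ l ∈ L, χ l = χ 1 := by
  classical
  obtain ⟨n, ρ, hρ, rfl⟩ := hχ
  have hρN : ∀ x ∈ N, ρ x = LinearMap.id := by
    intro x hx
    apply (char_eq_finrank_iff ρ x).mp
    rw [hN x hx, Representation.char_one]
  -- the projection onto the `lam`-isotypic part
  let e : (Fin n → ℂ) →ₗ[ℂ] (Fin n → ℂ) := ∑ u : P, conj ((lam u : ℂˣ) : ℂ) • ρ (u : G)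
  have htr : LinearMap.trace ℂ (Fin n → ℂ) e ≠ 0 := by
    have h1 : LinearMap.trace ℂ (Fin n → ℂ) e =
        ∑ u : P, ρ.character (u : G) * conj ((lam u : ℂˣ) : ℂ) := by
      show LinearMap.trace ℂ (Fin n → ℂ) (∑ u : P, conj ((lam u : ℂˣ) : ℂ) • ρ (u : G)) = _
      rw [map_sum]
      refine Finset.sum_congr rfl (fun u _ => ?_)
      rw [map_smul, smul_eq_mul, mul_comm]
      rfl
    rw [h1]
    intro h0
    apply hlam
    unfold Cfsg.classInner
    rw [h0, mul_zero]
  obtain ⟨w, hw⟩ : ∃ w, e w ≠ 0 := by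
    by_contra hcon
    push_neg at hcon
    apply htr
    have : e = 0 := LinearMap.ext (fun w => by rw [hcon w]; rfl)
    rw [this, map_zero]
  have hunit : ∀ u : P, conj ((lam u : ℂˣ) : ℂ) * ((lam u : ℂˣ) : ℂ) = 1 :=
    fun u => monoidHom_conj_mul_self lam u
  have hv : ∀ u₀ : P, ρ (u₀ : G) (e w) = ((lam u₀ : ℂˣ) : ℂ) • e w := by
    intro u₀
    show ρ (u₀ : G) ((∑ u : P, conj ((lam u : ℂˣ) : ℂ) • ρ (u : G)) w) =
      ((lam u₀ : ℂˣ) : ℂ) • (∑ u : P, conj ((lam u : ℂˣ) : ℂ) • ρ (u : G)) w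
    rw [LinearMap.sum_apply, map_sum, Finset.smul_sum]
    have h1 := Equiv.sum_comp (Equiv.mulLeft u₀)
      (fun u : P => ((lam u₀ : ℂˣ) : ℂ) • (conj ((lam u : ℂˣ) : ℂ) • ρ (u : G)) w)
    rw [← h1]
    refine Finset.sum_congr rfl (fun u _ => ?_)
    show ρ (u₀ : G) ((conj ((lam u : ℂˣ) : ℂ) • ρ (u : G)) w) =
      ((lam u₀ : ℂˣ) : ℂ) • (conj ((lam (u₀ * u) : ℂˣ) : ℂ) • ρ ((u₀ * u : P) : G)) w
    rw [LinearMap.smul_apply, LinearMap.smul_apply, map_smul, smul_smul, map_mul, Units.val_mul,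
      map_mul, Subgroup.coe_mul, map_mul]
    have h2 : ((lam u₀ : ℂˣ) : ℂ) * (conj ((lam u₀ : ℂˣ) : ℂ) * conj ((lam u : ℂˣ) : ℂ)) =
        conj ((lam u : ℂˣ) : ℂ) := by
      have := hunit u₀
      linear_combination conj ((lam u : ℂˣ) : ℂ) * this
    rw [h2]
    rfl
  -- the stabilizer of the vector
  let S : Subgroup G :=
    { carrier := {x | ρ x (e w) = e w}
      mul_mem' := fun {a b} ha hb => by
        show ρ (a * b) (e w) = e w
        have ha' : ρ a (e w) = e w := ha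
        have hb' : ρ b (e w) = e w := hb
        rw [map_mul, Module.End.mul_apply, hb', ha']
      one_mem' := by
        show ρ 1 (e w) = e w
        rw [map_one]
        rfl
      inv_mem' := fun {a} ha => by
        show ρ a⁻¹ (e w) = e w
        have ha' : ρ a (e w) = e w := ha
        have h1 : ρ a⁻¹ (ρ a (e w)) = e w := by
          rw [← Module.End.mul_apply, ← map_mul, inv_mul_cancel, map_one]
          rfl
        rw [ha'] at h1
        exact h1 }
  have hNS : N ≤ S := by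
    intro x hx
    show ρ x (e w) = e w
    rw [hρN x hx]
    rfl
  have hPS : ⁅P, P⁆ ≤ S := by
    rw [Subgroup.commutator_le]
    intro g₁ hg₁ g₂ hg₂
    rw [commutatorElement_def]
    have h1 : g₁ * g₂ * g₁⁻¹ * g₂⁻¹ = (((⟨g₁, hg₁⟩ : P) * ⟨g₂, hg₂⟩ * (⟨g₁, hg₁⟩ : P)⁻¹ *
        (⟨g₂, hg₂⟩ : P)⁻¹ : P) : G) := by
      simp
    show ρ (g₁ * g₂ * g₁⁻¹ * g₂⁻¹) (e w) = e w
    rw [h1, hv]
    have h2 : lam ((⟨g₁, hg₁⟩ : P) * ⟨g₂, hg₂⟩ * (⟨g₁, hg₁⟩ : P)⁻¹ * (⟨g₂, hg₂⟩ : P)⁻¹) = 1 := by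
      rw [map_mul, map_mul, map_mul, map_inv, map_inv,
        mul_right_comm (lam ⟨g₁, hg₁⟩) (lam ⟨g₂, hg₂⟩) (lam ⟨g₁, hg₁⟩)⁻¹, mul_inv_cancel,
        one_mul, mul_inv_cancel]
    rw [h2, Units.val_one, one_smul]
  have hLS : L ≤ S := hL.trans (sup_le hNS hPS)
  -- the fixed space of `L`
  let W : Subrepresentation ρ :=
    { toSubmodule :=
        { carrier := {v | ∀ l ∈ L, ρ l v = v}
          add_mem' := fun {a b} ha hb l hl => by
            rw [map_add, ha l hl, hb l hl]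
          zero_mem' := fun l _ => map_zero _
          smul_mem' := fun c v hv l hl => by
            rw [map_smul, hv l hl] }
      apply_mem_toSubmodule := fun g v hv l hl => by
        have h1 : ρ l (ρ g v) = ρ g (ρ (g⁻¹ * l * g) v) := by
          rw [← Module.End.mul_apply, ← Module.End.mul_apply, ← map_mul, ← map_mul]
          congr 2
          group
        have h2 : g⁻¹ * l * g ∈ L := by
          have := hLn.conj_mem l hl g⁻¹
          rwa [inv_inv] at this
        rw [h1, hv _ h2] }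
  have hWmem : e w ∈ W.toSubmodule := fun l hl => hLS hl
  rcases hρ.eq_bot_or_eq_top W with h1 | h1
  · exfalso
    have h2 : W.toSubmodule = (⊥ : Submodule ℂ (Fin n → ℂ)) :=
      congrArg Subrepresentation.toSubmodule h1
    rw [h2, Submodule.mem_bot] at hWmem
    exact hw hWmem
  · have h2 : W.toSubmodule = (⊤ : Submodule ℂ (Fin n → ℂ)) :=
      congrArg Subrepresentation.toSubmodule h1
    intro l hl
    have h3 : ρ l = LinearMap.id := by
      apply LinearMap.ext
      intro v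
      have hvW : v ∈ W.toSubmodule := by rw [h2]; exact Submodule.mem_top
      exact hvW l hl
    rw [character_apply, character_apply, h3, map_one]
    rfl

end Cfsg.Agent.Lib.Helper10.PKer
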