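import Mathlib
import Cfsg.Agent.Lib.Helper10.PKer3

set_option autoImplicit false
open Cfsg
open scoped ComplexConjugate Pointwise

namespace Cfsg.Agent.Lib.Helper10.PKer

open Cfsg.Agent.Lib.Helper1 Cfsg.Agent.Lib.Helper10.Glaub

universe u

/-- The intersection of the kernels of the irreducible characters of degree prime to `p`. -/
def pKer (p : ℕ) (G : Type u) [Group G] [Finite G] : Subgroup G where
  carrier := {g | ∀ χ : IrrCharacter G, ¬ p ∣ charDegree (χ : G → ℂ) →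
    (χ : G → ℂ) g = (χ : G → ℂ) 1}
  mul_mem' := by
    intro a b ha hb χ hχ
    have hfin := Fintype.ofFinite G
    rw [IsCharacter.mul_left_of_eq_degree (IsIrrCharacter.isCharacter χ.2) (ha χ hχ) b]
    exact hb χ hχ
  one_mem' := fun χ _ => rfl
  inv_mem' := by
    intro a ha χ hχ
    have hfin := Fintype.ofFinite G
    have h1 := IsCharacter.mul_left_of_eq_degree (IsIrrCharacter.isCharacter χ.2) (ha χ hχ) a⁻¹
    rw [mul_inv_cancel] at h1
    exact h1.symm

theorem mem_pKer {p : ℕ} {G : Type u} [Group G] [Finite G] (g : G) :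
    g ∈ pKer p G ↔ ∀ χ : IrrCharacter G, ¬ p ∣ charDegree (χ : G → ℂ) →
      (χ : G → ℂ) g = (χ : G → ℂ) 1 := Iff.rfl

instance pKer_normal (p : ℕ) (G : Type u) [Group G] [Finite G] : (pKer p G).Normal := by
  constructor
  intro n hn g χ hχ
  rw [IsIrrCharacter.isClassFunction χ.2 n g]
  exact hn χ hχ

/-- The `p`-part of the kernel lies in the derived subgroup of the Sylow subgroup. -/
theorem pKer_inf_le {G : Type u} [Group G] [Finite G] {p : ℕ} [Fact p.Prime] (P : Sylow p G) :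
    pKer p G ⊓ (P : Subgroup G) ≤
      (commutator (P : Subgroup G)).map (P : Subgroup G).subtype := by
  classical
  have hfin := Fintype.ofFinite G
  rintro g ⟨hgK, hgP⟩
  by_contra hcon
  have hg' : (⟨g, hgP⟩ : (P : Subgroup G)) ∉ commutator (P : Subgroup G) :=
    fun h => hcon ⟨⟨g, hgP⟩, h, rfl⟩
  have hne : (Abelianization.of (⟨g, hgP⟩ : (P : Subgroup G))) ≠ 1 := by
    intro h
    apply hg'
    exact (QuotientGroup.eq_one_iff _).mp h
  haveI : Finite (Abelianization (P : Subgroup G)) := by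
    unfold Abelianization
    infer_instance
  haveI : NeZero (Monoid.exponent (Abelianization (P : Subgroup G))) :=
    ⟨Monoid.exponent_ne_zero_of_finite⟩
  obtain ⟨φ, hφ⟩ := CommGroup.exists_apply_ne_one_of_hasEnoughRootsOfUnity
    (Abelianization (P : Subgroup G)) ℂ hne
  let lam : (P : Subgroup G) →* ℂˣ := φ.comp Abelianization.of
  have hlam : lam ⟨g, hgP⟩ ≠ 1 := hφ
  have hν : IsIrrCharacter (P : Subgroup G) (fun u => ((lam u : ℂˣ) : ℂ)) :=
    isIrrCharacter_of_monoidHom lam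
  have hInd := indFun_isCharacter (P : Subgroup G) (IsIrrCharacter.isCharacter hν) (G := G)
  have hInd1 : indFun (P : Subgroup G) (fun u => ((lam u : ℂˣ) : ℂ)) 1 =
      (((P : Subgroup G).index : ℕ) : ℂ) := by
    rw [indFun_one, map_one, Units.val_one, mul_one]
  obtain ⟨χ, hχ, hc, e, he, hpe⟩ := exists_pprime_constituent hInd _ hInd1 P.not_dvd_index
  rw [frobenius_reciprocity (P : Subgroup G) _ (IsIrrCharacter.isClassFunction hχ),
    ← classInner_conj_symm] at hc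
  have hc' : classInner (fun u : (P : Subgroup G) => χ u) (fun u => ((lam u : ℂˣ) : ℂ)) ≠ 0 := by
    intro h0
    apply hc
    rw [h0, map_zero]
  have hχg : χ g = χ 1 := hgK ⟨χ, hχ⟩ (by
    show ¬ p ∣ charDegree χ
    rw [Glaub.charDegree_eq he]
    exact hpe)
  have hfacts := (Cfsg.Agent.Lib.Helper23.BG.constituent_facts
    (IsCharacter.restrict (IsIrrCharacter.isCharacter hχ) (P : Subgroup G)) hν hc').2 ⟨g, hgP⟩ (by
      show χ g = χ ((1 : (P : Subgroup G)) : G)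
      rw [Subgroup.coe_one]
      exact hχg)
  apply hlam
  apply Units.ext
  have h1 : ((lam ⟨g, hgP⟩ : ℂˣ) : ℂ) = ((lam 1 : ℂˣ) : ℂ) := hfacts
  rw [h1, map_one]

/-- A normal `p'`-subgroup on which `P` has nontrivial fixed points is not in the kernel of some
irreducible character of degree prime to `p`. -/
theorem exists_pprime_over {G : Type u} [Group G] [Finite G] {p : ℕ} [Fact p.Prime]
    (P : Sylow p G) (M : Subgroup G) [hM : M.Normal] (hcop : (Nat.card M).Coprime p)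
    (hne : M ⊓ Subgroup.centralizer ((P : Subgroup G) : Set G) ≠ ⊥) :
    ∃ χ : G → ℂ, IsIrrCharacter G χ ∧ (∃ e : ℕ, χ 1 = e ∧ ¬ p ∣ e) ∧ ∃ m ∈ M, χ m ≠ χ 1 := by
  classical
  have hp : p.Prime := Fact.out
  have hfin := Fintype.ofFinite G
  haveI hnil : Group.IsNilpotent ↥(P : Subgroup G) := P.isPGroup'.isNilpotent
  have hsolv : Group.IsSolvable ↥(P : Subgroup G) := inferInstance
  have hn : ∀ s ∈ (P : Subgroup G), ∀ x ∈ M, s * x * s⁻¹ ∈ M := fun s _ x hx => hM.conj_mem x hx s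
  obtain ⟨k, hk⟩ := (IsPGroup.iff_card.mp P.isPGroup')
  have hcop' : (Nat.card M).Coprime (Nat.card (P : Subgroup G)) := by
    rw [hk]
    exact Nat.Coprime.pow_right k hcop
  have hcard := card_irr_inv_fix (P : Subgroup G) hsolv (Nat.card M) M
    (M ⊓ Subgroup.centralizer ((P : Subgroup G) : Set G)) rfl hn hcop' rfl
  -- at least two invariant characters
  haveI hnt : Nontrivial ↥(M ⊓ Subgroup.centralizer ((P : Subgroup G) : Set G)) :=
    (Subgroup.nontrivial_iff_ne_bot _).mpr hne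
  have h2 : 1 < Nat.card (IrrCharacter ↥(M ⊓ Subgroup.centralizer ((P : Subgroup G) : Set G))) := by
    rw [card_irr]
    rw [Finite.one_lt_card_iff_nontrivial]
    obtain ⟨c, hc⟩ := exists_ne (1 : ↥(M ⊓ Subgroup.centralizer ((P : Subgroup G) : Set G)))
    refine ⟨ConjClasses.mk 1, ConjClasses.mk c, ?_⟩
    intro h
    rw [ConjClasses.mk_eq_mk_iff_isConj, isConj_one_right] at h
    exact hc h
  rw [← hcard] at h2
  haveI : Finite {χ : IrrCharacter M // SInv (P : Subgroup G) M (χ : M → ℂ)} :=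
    Nat.finite_of_card_ne_zero (by omega)
  haveI hnt2 : Nontrivial {χ : IrrCharacter M // SInv (P : Subgroup G) M (χ : M → ℂ)} :=
    Finite.one_lt_card_iff_nontrivial.mp h2
  have h1 : SInv (P : Subgroup G) M (fun _ : M => (1 : ℂ)) := fun s _ g g' _ => rfl
  obtain ⟨μ, hμne⟩ := exists_ne (⟨⟨fun _ => 1, isIrrCharacter_one⟩, h1⟩ :
    {χ : IrrCharacter M // SInv (P : Subgroup G) M (χ : M → ℂ)})
  have hμirr : IsIrrCharacter M (μ.1 : M → ℂ) := μ.1.2
  have hμinv : SInv (P : Subgroup G) M (μ.1 : M → ℂ) := μ.2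
  have hμne' : (μ.1 : M → ℂ) ≠ fun _ => 1 := by
    intro h
    apply hμne
    apply Subtype.ext
    apply Subtype.ext
    exact h
  obtain ⟨d, hd, hdM, hdpos⟩ := IsIrrCharacter.degree_dvd_card hμirr
  -- the group X = M P
  have hMX : M ≤ M ⊔ (P : Subgroup G) := le_sup_left
  let eM : M.subgroupOf (M ⊔ (P : Subgroup G)) ≃* M := Subgroup.subgroupOfEquivOfLe hMX
  have hθ : IsIrrCharacter (M.subgroupOf (M ⊔ (P : Subgroup G))) ((μ.1 : M → ℂ) ∘ eM) :=
    IsIrrCharacter.comp_mulEquiv hμirr eM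
  have hinv : ∀ (x : ↥(M ⊔ (P : Subgroup G))) (n : M.subgroupOf (M ⊔ (P : Subgroup G))),
      ((μ.1 : M → ℂ) ∘ eM) ⟨x * n * x⁻¹, (inferInstance :
        (M.subgroupOf (M ⊔ (P : Subgroup G))).Normal).conj_mem (n : ↥(M ⊔ (P : Subgroup G))) n.2 x⟩ =
        ((μ.1 : M → ℂ) ∘ eM) n := by
    intro x n
    obtain ⟨m, hm, u, hu, hmu⟩ := Subgroup.mem_sup_of_normal_left.1 x.2
    have hn1 : ((n : ↥(M ⊔ (P : Subgroup G))) : G) ∈ M := n.2
    have hun : u * ((n : ↥(M ⊔ (P : Subgroup G))) : G) * u⁻¹ ∈ M := hn u hu _ hn1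
    have e1 := hμinv u hu ⟨_, hn1⟩ ⟨_, hun⟩ rfl
    have e2 := IsIrrCharacter.isClassFunction hμirr ⟨_, hun⟩ ⟨m, hm⟩
    show (μ.1 : M → ℂ) (eM _) = (μ.1 : M → ℂ) (eM n)
    have e3 : eM n = ⟨_, hn1⟩ := rfl
    rw [e3, ← e1, ← e2]
    apply congrArg
    apply Subtype.ext
    show (x : G) * ((n : ↥(M ⊔ (P : Subgroup G))) : G) * (x : G)⁻¹ =
      m * (u * ((n : ↥(M ⊔ (P : Subgroup G))) : G) * u⁻¹) * m⁻¹
    rw [← hmu]
    group
  have hd' : ((μ.1 : M → ℂ) ∘ eM) 1 = d := by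
    show (μ.1 : M → ℂ) (eM 1) = d
    rw [map_one, hd]
  have hidx : (M.subgroupOf (M ⊔ (P : Subgroup G))).index ∣ p ^ k := by
    have h3 : (M.subgroupOf (M ⊔ (P : Subgroup G))).index = M.relIndex (P : Subgroup G) := by
      show M.relIndex (M ⊔ (P : Subgroup G)) = M.relIndex (P : Subgroup G)
      exact Subgroup.relIndex_sup_left _ _
    rw [h3, ← hk]
    exact Subgroup.relIndex_dvd_card _ _
  have hcardM' : Nat.card (M.subgroupOf (M ⊔ (P : Subgroup G))) = Nat.card M :=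
    Nat.card_congr eM.toEquiv
  have hcopX : Nat.Coprime (M.subgroupOf (M ⊔ (P : Subgroup G))).index
      (Cfsg.detOrder ((μ.1 : M → ℂ) ∘ eM) * d) := by
    apply Nat.Coprime.coprime_dvd_left hidx
    apply Nat.Coprime.pow_left
    apply Nat.Coprime.mul_right
    · have h4 := detOrder_dvd_card (IsIrrCharacter.isCharacter hθ)
      rw [hcardM'] at h4
      exact (Nat.Coprime.coprime_dvd_left h4 hcop).symm
    · exact (Nat.Coprime.coprime_dvd_left hdM hcop).symm
  obtain ⟨χ₁, ⟨hχ₁, hχ₁M, -⟩, -⟩ :=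
    Cfsg.Agent.S0867.result (M.subgroupOf (M ⊔ (P : Subgroup G))) _ hθ hinv d hd' hcopX
  have hχ₁1 : χ₁ 1 = d := by
    have := hχ₁M 1
    rw [Subgroup.coe_one] at this
    rw [this, hd']
  -- induce to G
  have hInd := indFun_isCharacter (M ⊔ (P : Subgroup G)) (IsIrrCharacter.isCharacter hχ₁) (G := G)
  have hInd1 : indFun (M ⊔ (P : Subgroup G)) χ₁ 1 =
      (((M ⊔ (P : Subgroup G)).index * d : ℕ) : ℂ) := by
    rw [indFun_one, hχ₁1]
    push_cast
    rfl
  have hpd : ¬ p ∣ (M ⊔ (P : Subgroup G)).index * d := by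
    intro hdvd
    rcases (Nat.Prime.dvd_mul hp).mp hdvd with h5 | h5
    · exact P.not_dvd_index (dvd_trans h5 (Subgroup.index_dvd_of_le le_sup_right))
    · have h6 : p ∣ Nat.card M := dvd_trans h5 hdM
      have h7 := Nat.Coprime.eq_one_of_dvd hcop.symm h6
      exact hp.one_lt.ne' h7
  obtain ⟨χ, hχ, hc, e, he, hpe⟩ := exists_pprime_constituent hInd _ hInd1 hpd
  refine ⟨χ, hχ, ⟨e, he, hpe⟩, ?_⟩
  by_contra hcon
  push_neg at hcon
  rw [frobenius_reciprocity (M ⊔ (P : Subgroup G)) _ (IsIrrCharacter.isClassFunction hχ),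
    ← classInner_conj_symm] at hc
  have hc' : classInner (fun x : ↥(M ⊔ (P : Subgroup G)) => χ x) χ₁ ≠ 0 := by
    intro h0
    apply hc
    rw [h0, map_zero]
  have hfacts := (Cfsg.Agent.Lib.Helper23.BG.constituent_facts
    (IsCharacter.restrict (IsIrrCharacter.isCharacter hχ) (M ⊔ (P : Subgroup G))) hχ₁ hc').2
  -- μ is constant
  have hconst : ∀ m : M, (μ.1 : M → ℂ) m = d := by
    intro m
    have h5 := hfacts ⟨m, hMX m.2⟩ (by
      show χ m = χ ((1 : ↥(M ⊔ (P : Subgroup G))) : G)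
      rw [Subgroup.coe_one]
      exact hcon m m.2)
    have h6 := hχ₁M ⟨⟨m, hMX m.2⟩, m.2⟩
    have h7 : ((μ.1 : M → ℂ) ∘ eM) ⟨⟨m, hMX m.2⟩, m.2⟩ = (μ.1 : M → ℂ) m := rfl
    rw [h7] at h6
    rw [← h6]
    show χ₁ (⟨m, hMX m.2⟩ : ↥(M ⊔ (P : Subgroup G))) = d
    rw [h5, hχ₁1]
  have hfinM := Fintype.ofFinite M
  have hinner : classInner (μ.1 : M → ℂ) (fun _ : M => (1 : ℂ)) = d := by
    unfold Cfsg.classInner
    have h5 : ∀ m : M, (μ.1 : M → ℂ) m * conj ((fun _ : M => (1 : ℂ)) m) = d := by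
      intro m
      rw [hconst m]
      simp
    rw [Finset.sum_congr rfl (fun m _ => h5 m), Finset.sum_const, Finset.card_univ,
      ← Nat.card_eq_fintype_card, nsmul_eq_mul, ← mul_assoc, inv_mul_cancel₀, one_mul]
    have := Nat.card_pos (α := M)
    exact_mod_cast this.ne'
  have hzero := classInner_irr_ne hμirr isIrrCharacter_one hμne'
  rw [hinner] at hzero
  have : d = 0 := by exact_mod_cast hzero
  omega

end Cfsg.Agent.Lib.Helper10.PKer
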