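import Mathlib
import Cfsg.Agent.Lib.Helper10.PKer4

set_option autoImplicit false
open Cfsg
open scoped ComplexConjugate Pointwise

namespace Cfsg.Agent.Lib.Helper10.PKer

open Cfsg.Agent.Lib.Helper1 Cfsg.Agent.Lib.Helper10.Glaub

universe u

/-- The kernel of the characters of degree prime to `p` lies in `N P'`. -/
theorem pKer_le {G : Type u} [Group G] [Finite G] {p : ℕ} [Fact p.Prime] (P : Sylow p G)
    (N : Subgroup G)
    (hmax : ∀ L : Subgroup G, L.Normal →
      L ⊓ Subgroup.centralizer ((P : Subgroup G) : Set G) = ⊥ → L ≤ N) :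
    pKer p G ≤ N ⊔ ⁅(P : Subgroup G), (P : Subgroup G)⁆ := by
  classical
  have hp : p.Prime := Fact.out
  have hKn : (pKer p G).Normal := inferInstance
  have hfr : pKer p G ⊓ (P : Subgroup G) ≤
      (frattini (P : Subgroup G)).map (P : Subgroup G).subtype :=
    (pKer_inf_le P).trans (Subgroup.map_mono (commutator_le_frattini P.isPGroup'))
  obtain ⟨Q, M, hMn, hMc⟩ := Cfsg.Agent.Lib.Helper1.Tr.tate_frattini P (pKer p G) hfr
  haveI := hMn
  have hmem : ∀ x : pKer p G, x ∈ M ↔ Nat.Coprime (orderOf x) p :=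
    fun x => Cfsg.Agent.S0086.result Q M hMc x
  have hM₀mem : ∀ g : G, g ∈ M.map (pKer p G).subtype ↔
      g ∈ pKer p G ∧ Nat.Coprime (orderOf g) p := by
    intro g
    constructor
    · rintro ⟨y, hy, rfl⟩
      refine ⟨y.2, ?_⟩
      have := (hmem y).mp hy
      rw [← Subgroup.orderOf_coe] at this
      exact this
    · rintro ⟨hgK, hco⟩
      refine ⟨⟨g, hgK⟩, (hmem ⟨g, hgK⟩).mpr ?_, rfl⟩
      rw [← Subgroup.orderOf_coe]
      exact hco
  have hM₀n : (M.map (pKer p G).subtype).Normal := by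
    constructor
    intro n hn g
    rw [hM₀mem] at hn ⊢
    refine ⟨hKn.conj_mem n hn.1 g, ?_⟩
    have h1 : orderOf (g * n * g⁻¹) = orderOf n := (MulAut.conj g).orderOf_eq n
    rw [h1]
    exact hn.2
  have hM₀cop : (Nat.card (M.map (pKer p G).subtype)).Coprime p := by
    rw [Nat.coprime_comm, Nat.Prime.coprime_iff_not_dvd hp]
    intro hdvd
    obtain ⟨z, hz⟩ := exists_prime_orderOf_dvd_card' (G := (M.map (pKer p G).subtype)) p hdvd
    have hzM := (hM₀mem (z : G)).mp z.2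
    rw [Subgroup.orderOf_coe, hz] at hzM
    exact hp.one_lt.ne' ((Nat.coprime_self p).mp hzM.2)
  have hM₀C : M.map (pKer p G).subtype ⊓ Subgroup.centralizer ((P : Subgroup G) : Set G) = ⊥ := by
    by_contra hne
    haveI := hM₀n
    obtain ⟨χ, hχ, ⟨e, he, hpe⟩, m, hm, hχm⟩ :=
      exists_pprime_over P (M.map (pKer p G).subtype) hM₀cop hne
    apply hχm
    have hmK : m ∈ pKer p G := ((hM₀mem m).mp hm).1
    exact hmK ⟨χ, hχ⟩ (by
      show ¬ p ∣ charDegree χ
      rw [Glaub.charDegree_eq he]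
      exact hpe)
  have hM₀N : M.map (pKer p G).subtype ≤ N := hmax _ hM₀n hM₀C
  have hsup : M ⊔ (Q : Subgroup (pKer p G)) = ⊤ := hMc.sup_eq_top
  have hQ₀ : IsPGroup p ((Q : Subgroup (pKer p G)).map (pKer p G).subtype) := Q.isPGroup'.map _
  obtain ⟨x, hx⟩ := pgroup_conj_into ((Q : Subgroup (pKer p G)).map (pKer p G).subtype) hQ₀
    (P : Subgroup G) P.not_dvd_index
  have h4 : (commutator (P : Subgroup G)).map (P : Subgroup G).subtype ≤
      ⁅(P : Subgroup G), (P : Subgroup G)⁆ := by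
    rw [commutator_def, Subgroup.map_commutator, ← MonoidHom.range_eq_map, Subgroup.range_subtype]
  intro g hg
  have hg' : x * g * x⁻¹ ∈ pKer p G := hKn.conj_mem g hg x
  have hmemsup : (⟨x * g * x⁻¹, hg'⟩ : pKer p G) ∈ M ⊔ (Q : Subgroup (pKer p G)) := by
    rw [hsup]
    exact Subgroup.mem_top _
  obtain ⟨m, hm, q, hq, hmq⟩ := Subgroup.mem_sup_of_normal_left.1 hmemsup
  have h2 : (m : G) * (q : G) = x * g * x⁻¹ := congrArg Subtype.val hmq
  have h1 : g = (x⁻¹ * (m : G) * x) * (x⁻¹ * (q : G) * x) := by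
    calc g = x⁻¹ * (x * g * x⁻¹) * x := by group
      _ = x⁻¹ * ((m : G) * (q : G)) * x := by rw [h2]
      _ = _ := by group
  rw [h1]
  apply Subgroup.mul_mem_sup
  · apply hM₀N
    have hmM₀ : (m : G) ∈ M.map (pKer p G).subtype := ⟨m, hm, rfl⟩
    have := hM₀n.conj_mem (m : G) hmM₀ x⁻¹
    rwa [inv_inv] at this
  · have hqP : x⁻¹ * (q : G) * x ∈ (P : Subgroup G) := hx (q : G) ⟨q, hq, rfl⟩
    have hqK : x⁻¹ * (q : G) * x ∈ pKer p G := by
      have := hKn.conj_mem (q : G) q.2 x⁻¹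
      rwa [inv_inv] at this
    exact h4 (pKer_inf_le P ⟨hqK, hqP⟩)

end Cfsg.Agent.Lib.Helper10.PKer
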