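import Mathlib
import Cfsg.Agent.Lib.Helper10.TISolv3
import Cfsg.Agent.Lib.Helper10.Glaub21
import Cfsg.Agent.Lib.Helper1.CharInd

set_option autoImplicit false

/-! Degree bounds from a minimal non-centralised subgroup: the non-abelian and abelian cases. -/

namespace Cfsg.Agent.Lib.Helper10.TISolv

open Cfsg
open Cfsg.Agent.Lib.Helper1
open Cfsg.Agent.Lib.Helper10.Glaub
open scoped Pointwise
open scoped commutatorElement
open scoped ComplexConjugate

universe u

/-- decomposition of a character with natural multiplicities and degrees -/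
theorem degree_decomp {X : Type u} [Group X] [Fintype X] [Fintype (IrrCharacter X)] {ψ : X → ℂ}
    (hψ : IsCharacter X ψ) (n : ℕ) (hn : ψ 1 = n) :
    ∃ (m dg : IrrCharacter X → ℕ), (∀ θ : IrrCharacter X, classInner ψ (θ : X → ℂ) = m θ) ∧
      (∀ θ : IrrCharacter X, (θ : X → ℂ) 1 = dg θ) ∧ (∀ θ, 0 < dg θ) ∧
      (ψ = ∑ θ : IrrCharacter X, (m θ : ℂ) • (θ : X → ℂ)) ∧ n = ∑ θ : IrrCharacter X, m θ * dg θ := by
  classical
  obtain ⟨m, hm1, hm2⟩ := IsCharacter.eq_sum_irr hψ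
  have hdeg : ∀ θ : IrrCharacter X, ∃ d : ℕ, 0 < d ∧ (θ : X → ℂ) 1 = d :=
    fun θ => IsIrrCharacter.degree_pos θ.2
  choose dg hdgpos hdg using hdeg
  refine ⟨m, dg, hm1, hdg, hdgpos, hm2, ?_⟩
  have e := congrFun hm2 1
  simp only [Finset.sum_apply, Pi.smul_apply, smul_eq_mul] at e
  rw [hn] at e
  have e2 : (n : ℂ) = ((∑ θ : IrrCharacter X, m θ * dg θ : ℕ) : ℂ) := by
    rw [e]; push_cast
    exact Finset.sum_congr rfl (fun θ _ => by rw [hdg θ])
  exact_mod_cast e2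

variable {G : Type u} [Group G] [Finite G] {p : ℕ} [Fact p.Prime]

/-- dichotomy: an irreducible character of `A` fixed by a nontrivial element of `P` is fixed by
`P`, when all nontrivial elements of `P` have the same fixed points on `A` -/
theorem dichotomy (P A : Subgroup G) (hP : IsPGroup p P) (hPA : P ≤ Subgroup.normalizer (A : Set G))
    (hcop : (Nat.card A).Coprime p)
    (huni : ∀ x ∈ P, x ≠ 1 → ∀ c ∈ A, c * x = x * c → ∀ y ∈ P, c * y = y * c)
    (x : G) (hx : x ∈ P) (hx1 : x ≠ 1) (θ : IrrCharacter A)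
    (h : SInv (Subgroup.zpowers x) A (θ : A → ℂ)) : SInv P A (θ : A → ℂ) := by
  classical
  haveI : Fintype A := Fintype.ofFinite A
  haveI : Fintype (IrrCharacter A) := irrFintype
  have hnormA : ∀ y ∈ P, ∀ a ∈ A, y * a * y⁻¹ ∈ A := fun y hy a ha =>
    (Subgroup.mem_normalizer_iff.mp (hPA hy) a).mp ha
  have hzP : Subgroup.zpowers x ≤ P := Subgroup.zpowers_le.mpr hx
  obtain ⟨k, hk⟩ := IsPGroup.iff_card.mp hP
  have hcopP : (Nat.card A).Coprime (Nat.card P) := by rw [hk]; exact Nat.Coprime.pow_right k hcop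
  have hcopZ : (Nat.card A).Coprime (Nat.card (Subgroup.zpowers x)) :=
    Nat.Coprime.coprime_dvd_right (Subgroup.card_dvd_of_le hzP) hcopP
  haveI : Group.IsNilpotent P := hP.isNilpotent
  have hsolvP : Group.IsSolvable P := inferInstance
  have hsolvZ : Group.IsSolvable (Subgroup.zpowers x) := inferInstance
  have hC : A ⊓ Subgroup.centralizer (P : Set G) =
      A ⊓ Subgroup.centralizer ((Subgroup.zpowers x : Subgroup G) : Set G) := by
    ext c
    simp only [Subgroup.mem_inf, Subgroup.mem_centralizer_iff]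
    constructor
    · rintro ⟨hcA, hc⟩
      exact ⟨hcA, fun s hs => hc s (hzP hs)⟩
    · rintro ⟨hcA, hc⟩
      refine ⟨hcA, fun y hy => ?_⟩
      have h1 := hc x (Subgroup.mem_zpowers x)
      exact (huni x hx hx1 c hcA h1.symm y hy).symm
  have c1 := card_irr_inv_fix P hsolvP (Nat.card A) A (A ⊓ Subgroup.centralizer (P : Set G)) rfl
    hnormA hcopP rfl
  have c2 := card_irr_inv_fix (Subgroup.zpowers x) hsolvZ (Nat.card A) A
    (A ⊓ Subgroup.centralizer (P : Set G)) rfl (fun s hs a ha => hnormA s (hzP hs) a ha) hcopZ hC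
  have hsub : {χ : IrrCharacter A | SInv P A (χ : A → ℂ)} ⊆
      {χ : IrrCharacter A | SInv (Subgroup.zpowers x) A (χ : A → ℂ)} := by
    intro χ hχ s hs g g' hg
    exact hχ s (hzP hs) g g' hg
  have hcard : ({χ : IrrCharacter A | SInv (Subgroup.zpowers x) A (χ : A → ℂ)}).ncard ≤
      ({χ : IrrCharacter A | SInv P A (χ : A → ℂ)}).ncard := by
    have e1 : ({χ : IrrCharacter A | SInv P A (χ : A → ℂ)}).ncard =
        Nat.card {χ : IrrCharacter A // SInv P A (χ : A → ℂ)} := rfl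
    have e2 : ({χ : IrrCharacter A | SInv (Subgroup.zpowers x) A (χ : A → ℂ)}).ncard =
        Nat.card {χ : IrrCharacter A // SInv (Subgroup.zpowers x) A (χ : A → ℂ)} := rfl
    rw [e1, e2, c1, c2]
  have heq := Set.eq_of_subset_of_ncard_le hsub hcard (Set.toFinite _)
  have : θ ∈ {χ : IrrCharacter A | SInv P A (χ : A → ℂ)} := by rw [heq]; exact h
  exact this

section minimal

variable (P A : Subgroup G) (hP : IsPGroup p P) (hPA : P ≤ Subgroup.normalizer (A : Set G))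
  (hcop : (Nat.card A).Coprime p)
  (hnc : ¬ (P ≤ Subgroup.centralizer (A : Set G)))
  (hmin : ∀ B : Subgroup G, B ≤ A → B ≠ A → P ≤ Subgroup.normalizer (B : Set G) →
    P ≤ Subgroup.centralizer (B : Set G))
  (huni : ∀ x ∈ P, x ≠ 1 → ∀ c ∈ A, c * x = x * c → ∀ y ∈ P, c * y = y * c)
  (χ : G → ℂ) (hχ : IsCharacter G χ) (hfaith : ∀ g : G, χ g = χ 1 → g = 1)
  (n : ℕ) (hn : χ 1 = n)

include hP hPA hcop hnc hmin huni hχ hfaith hn

theorem bound_nonabelian (hnab : ∃ g ∈ A, ∃ h ∈ A, g * h ≠ h * g) : Nat.card P + 1 ≤ n ^ 2 := by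
  classical
  haveI : Fintype A := Fintype.ofFinite A
  haveI : Fintype (IrrCharacter A) := irrFintype
  obtain ⟨g, hg, h, hh, hgh⟩ := hnab
  have hψ : IsCharacter A (fun a : A => χ a) := IsCharacter.restrict hχ A
  obtain ⟨m, dg, hm, hdg, hdgpos, hdec, hnsum⟩ := degree_decomp hψ n (by simpa using hn)
  let z : A := ⁅(⟨g, hg⟩ : A), (⟨h, hh⟩ : A)⁆
  have hz1 : (z : G) ≠ 1 := by
    intro h1
    have h2 : z = 1 := Subtype.ext h1
    have h3 := commutatorElement_eq_one_iff_mul_comm.mp h2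
    exact hgh (congrArg Subtype.val h3)
  have hψz : χ (z : G) ≠ χ 1 := fun h => hz1 (hfaith _ h)
  obtain ⟨η, hη0, hηz⟩ : ∃ θ : IrrCharacter A, m θ ≠ 0 ∧ (θ : A → ℂ) z ≠ (θ : A → ℂ) 1 := by
    by_contra hcon
    push_neg at hcon
    apply hψz
    have e1 := congrFun hdec z
    have e2 := congrFun hdec 1
    simp only [Finset.sum_apply, Pi.smul_apply, smul_eq_mul, Subgroup.coe_one] at e1 e2
    rw [e1, e2]
    refine Finset.sum_congr rfl (fun θ _ => ?_)
    by_cases hθ : m θ = 0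
    · simp [hθ]
    · rw [hcon θ hθ]
  have hb := irr_bound P A hP hPA hcop hnc hmin huni (η : A → ℂ) η.2 ⟨g, hg⟩ ⟨h, hh⟩ hηz (dg η) (hdg η)
  have hle : dg η ≤ n := by
    rw [hnsum]
    have h1 : m η * dg η ≤ ∑ θ : IrrCharacter A, m θ * dg θ :=
      Finset.single_le_sum (f := fun θ => m θ * dg θ) (fun θ _ => Nat.zero_le _) (Finset.mem_univ η)
    have h2 : dg η ≤ m η * dg η := Nat.le_mul_of_pos_left _ (Nat.pos_of_ne_zero hη0)
    exact h2.trans h1
  exact hb.trans (Nat.pow_le_pow_left hle 2)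

theorem bound_abelian (hab : ∀ g ∈ A, ∀ h ∈ A, g * h = h * g) : Nat.card P ≤ n := by
  classical
  haveI : Fintype A := Fintype.ofFinite A
  haveI : Fintype (IrrCharacter A) := irrFintype
  haveI : Fintype P := Fintype.ofFinite P
  have hnormA : ∀ y ∈ P, ∀ a ∈ A, y * a * y⁻¹ ∈ A := fun y hy a ha =>
    (Subgroup.mem_normalizer_iff.mp (hPA hy) a).mp ha
  have hψ : IsCharacter A (fun a : A => χ a) := IsCharacter.restrict hχ A
  obtain ⟨m, dg, hm, hdg, hdgpos, hdec, hnsum⟩ := degree_decomp hψ n (by simpa using hn)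
  have hex : ∃ y₀ ∈ P, ∃ a₀ ∈ A, a₀ * y₀ ≠ y₀ * a₀ := by
    by_contra hcon
    push_neg at hcon
    apply hnc
    intro y hy
    rw [Subgroup.mem_centralizer_iff]
    intro a ha
    exact hcon y hy a ha
  obtain ⟨y₀, hy₀, a₀, ha₀, hne₀⟩ := hex
  let z : A := ⟨a₀⁻¹ * (y₀ * a₀ * y₀⁻¹), A.mul_mem (A.inv_mem ha₀) (hnormA y₀ hy₀ a₀ ha₀)⟩
  have hz1 : (z : G) ≠ 1 := by
    intro h
    apply hne₀
    have h2 : a₀ = y₀ * a₀ * y₀⁻¹ := by
      have : a₀⁻¹ * (y₀ * a₀ * y₀⁻¹) = 1 := h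
      exact inv_mul_eq_one.mp this
    have h3 : a₀ * y₀ = (y₀ * a₀ * y₀⁻¹) * y₀ := by rw [← h2]
    rw [h3]; group
  have hψz : χ (z : G) ≠ χ 1 := fun h => hz1 (hfaith _ h)
  obtain ⟨lam, hlam0, hlamz⟩ : ∃ θ : IrrCharacter A, m θ ≠ 0 ∧ (θ : A → ℂ) z ≠ (θ : A → ℂ) 1 := by
    by_contra hcon
    push_neg at hcon
    apply hψz
    have e1 := congrFun hdec z
    have e2 := congrFun hdec 1
    simp only [Finset.sum_apply, Pi.smul_apply, smul_eq_mul, Subgroup.coe_one] at e1 e2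
    rw [e1, e2]
    refine Finset.sum_congr rfl (fun θ _ => ?_)
    by_cases hθ : m θ = 0
    · simp [hθ]
    · rw [hcon θ hθ]
  have hirr : IsIrrCharacter A (lam : A → ℂ) := lam.2
  have hcenA : ∀ a : A, a ∈ Subgroup.center A := by
    intro a
    rw [Subgroup.mem_center_iff]
    intro g
    apply Subtype.ext
    exact hab _ g.2 _ a.2
  have hlam1 : (lam : A → ℂ) 1 ≠ 0 := by
    rw [hdg lam]; exact_mod_cast (hdgpos lam).ne'
  have hnz : ∀ a : A, (lam : A → ℂ) a ≠ 0 := by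
    intro a
    obtain ⟨c, hcc, hc⟩ := IsIrrCharacter.central_mul hirr (hcenA a)
    have h1 := hc 1
    rw [one_mul] at h1
    rw [h1]
    have hc0 : c ≠ 0 := by
      rintro rfl
      simp at hcc
    exact mul_ne_zero hc0 hlam1
  have hnotinv : ¬ SInv P A (lam : A → ℂ) := by
    intro hinv
    apply hlamz
    have e := hinv y₀ hy₀ ⟨a₀, ha₀⟩ ⟨y₀ * a₀ * y₀⁻¹, hnormA y₀ hy₀ a₀ ha₀⟩ rfl
    have e' : (⟨y₀ * a₀ * y₀⁻¹, hnormA y₀ hy₀ a₀ ha₀⟩ : A) = ⟨a₀, ha₀⟩ * z := by
      apply Subtype.ext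
      show y₀ * a₀ * y₀⁻¹ = a₀ * (a₀⁻¹ * (y₀ * a₀ * y₀⁻¹))
      group
    obtain ⟨c, -, hc⟩ := IsIrrCharacter.central_mul hirr (hcenA z)
    rw [e', hc] at e
    have hc1 : c = 1 := by
      have : (c - 1) * (lam : A → ℂ) ⟨a₀, ha₀⟩ = 0 := by rw [sub_mul, one_mul, e, sub_self]
      rcases mul_eq_zero.mp this with h | h
      · exact sub_eq_zero.mp h
      · exact absurd h (hnz _)
    have h1 := hc 1
    rw [one_mul, hc1, one_mul] at h1
    exact h1
  have hdich : ∀ x ∈ P, x ≠ 1 → ¬ SInv (Subgroup.zpowers x) A (lam : A → ℂ) :=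
    fun x hx hx1 h => hnotinv (dichotomy P A hP hPA hcop huni x hx hx1 lam h)
  let F : P → IrrCharacter A := fun y =>
    ⟨(lam : A → ℂ) ∘ (conjAct P A hnormA y), IsIrrCharacter.comp_mulEquiv lam.2 (conjAct P A hnormA y)⟩
  have hFinj : Function.Injective F := by
    intro y₁ y₂ h
    have h' : ∀ a : A, (lam : A → ℂ) (conjAct P A hnormA y₁ a) = (lam : A → ℂ) (conjAct P A hnormA y₂ a) :=
      fun a => congrFun (congrArg Subtype.val h) a
    by_contra hne
    have hxP : (y₁ : G) * (y₂ : G)⁻¹ ∈ P := P.mul_mem y₁.2 (P.inv_mem y₂.2)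
    have hx1 : (y₁ : G) * (y₂ : G)⁻¹ ≠ 1 := by
      intro h1
      apply hne
      apply Subtype.ext
      exact mul_inv_eq_one.mp h1
    have hfix : ∀ a a' : A, (a' : G) = ((y₁ : G) * (y₂ : G)⁻¹) * a * ((y₁ : G) * (y₂ : G)⁻¹)⁻¹ →
        (lam : A → ℂ) a' = (lam : A → ℂ) a := by
      intro a a' ha'
      have hb : (y₂ : G)⁻¹ * a * y₂ ∈ A := by
        have := hnormA (y₂ : G)⁻¹ (P.inv_mem y₂.2) a a.2
        simpa using this
      have h1 := h' ⟨(y₂ : G)⁻¹ * a * y₂, hb⟩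
      have e1 : conjAct P A hnormA y₁ ⟨(y₂ : G)⁻¹ * a * y₂, hb⟩ = a' := by
        apply Subtype.ext
        rw [ha']
        show (y₁ : G) * ((y₂ : G)⁻¹ * a * y₂) * (y₁ : G)⁻¹ = _
        group
      have e2 : conjAct P A hnormA y₂ ⟨(y₂ : G)⁻¹ * a * y₂, hb⟩ = a := by
        apply Subtype.ext
        show (y₂ : G) * ((y₂ : G)⁻¹ * a * y₂) * (y₂ : G)⁻¹ = _
        group
      rw [e1, e2] at h1
      exact h1
    generalize (y₁ : G) * (y₂ : G)⁻¹ = x at hxP hx1 hfix
    apply hdich x hxP hx1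
    intro s hs g g' hg
    have hs' := (isOfFinOrder_of_finite x).mem_powers_iff_mem_zpowers.mpr hs
    obtain ⟨k, rfl⟩ := (Submonoid.mem_powers_iff _ _).mp hs'
    clear hs hs'
    induction k generalizing g g' with
    | zero =>
      have : g' = g := by
        apply Subtype.ext
        rw [hg]; simp
      rw [this]
    | succ k ih =>
      have hmem : x ^ k * g * (x ^ k)⁻¹ ∈ A :=
        hnormA _ (P.pow_mem hxP k) g g.2
      have h1 := ih g ⟨_, hmem⟩ rfl
      have h2 := hfix ⟨_, hmem⟩ g' (by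
        rw [hg, pow_succ']
        show _ = x * (x ^ k * g * (x ^ k)⁻¹) * x⁻¹
        group)
      rw [h2, h1]
  have hcls : IsClassFunction G χ := IsCharacter.isClassFunction hχ
  have hmult : ∀ y : P, m (F y) = m lam := by
    intro y
    have e1 : classInner (fun a : A => χ a) (F y : A → ℂ) = classInner (fun a : A => χ a) (lam : A → ℂ) := by
      unfold classInner
      congr 1
      have e2 : ∀ a : A, (fun a : A => χ a) a * conj ((F y : A → ℂ) a) =
          (fun b : A => χ b * conj ((lam : A → ℂ) b)) ((conjAct P A hnormA y).toEquiv a) := by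
        intro a
        show χ a * conj ((lam : A → ℂ) (conjAct P A hnormA y a)) =
          χ ((conjAct P A hnormA y a : A) : G) * conj ((lam : A → ℂ) (conjAct P A hnormA y a))
        rw [conjAct_apply, hcls]
      rw [Finset.sum_congr rfl (fun a _ => e2 a)]
      exact Equiv.sum_comp (conjAct P A hnormA y).toEquiv (fun b : A => χ b * conj ((lam : A → ℂ) b))
    rw [hm, hm] at e1
    exact_mod_cast e1
  have hS : (Finset.univ.image F).card = Nat.card P := by
    rw [Finset.card_image_of_injective _ hFinj, Finset.card_univ, Nat.card_eq_fintype_card]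
  rw [← hS, hnsum]
  have h1 : ∑ θ ∈ Finset.univ.image F, m θ * dg θ ≤ ∑ θ : IrrCharacter A, m θ * dg θ :=
    Finset.sum_le_sum_of_subset (Finset.subset_univ _)
  refine le_trans ?_ h1
  rw [Finset.card_eq_sum_ones]
  apply Finset.sum_le_sum
  intro θ hθ
  obtain ⟨y, -, rfl⟩ := Finset.mem_image.mp hθ
  have h2 : 0 < m (F y) := by rw [hmult y]; exact Nat.pos_of_ne_zero hlam0
  exact Nat.mul_pos h2 (hdgpos _)

end minimal

end Cfsg.Agent.Lib.Helper10.TISolv
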