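import Mathlib
import Cfsg.Agent.Lib.Helper10.TISolv4

set_option autoImplicit false

/-! A `p`-group `P` acting with uniform centralisers and nontrivially on a `p'`-subgroup `K`:
every faithful character of the ambient group has degree `n` with `|P| < n^2`. -/

namespace Cfsg.Agent.Lib.Helper10.TISolv

open Cfsg
open Cfsg.Agent.Lib.Helper1

universe u

variable {G : Type u} [Group G] [Finite G] {p : ℕ} [Fact p.Prime]

theorem main_bound (P : Subgroup G) (hP : IsPGroup p P) (K : Subgroup G)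
    (hPK : P ≤ Subgroup.normalizer (K : Set G)) (hKp : (Nat.card K).Coprime p)
    (huni : ∀ x ∈ P, x ≠ 1 → ∀ c ∈ K, c * x = x * c → ∀ y ∈ P, c * y = y * c)
    (hnc : ¬ (P ≤ Subgroup.centralizer (K : Set G)))
    (χ : G → ℂ) (hχ : IsCharacter G χ) (hfaith : ∀ g : G, χ g = χ 1 → g = 1)
    (n : ℕ) (hn : χ 1 = n) : Nat.card P < n ^ 2 := by
  classical
  have hex : ∃ m : ℕ, ∃ A : Subgroup G, (A ≤ K ∧ P ≤ Subgroup.normalizer (A : Set G) ∧
      ¬ (P ≤ Subgroup.centralizer (A : Set G))) ∧ Nat.card A = m :=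
    ⟨_, K, ⟨le_rfl, hPK, hnc⟩, rfl⟩
  obtain ⟨A, ⟨hAK, hPA, hncA⟩, hAm⟩ := Nat.find_spec hex
  have hmin : ∀ B : Subgroup G, B ≤ A → B ≠ A → P ≤ Subgroup.normalizer (B : Set G) →
      P ≤ Subgroup.centralizer (B : Set G) := by
    intro B hBA hBne hPB
    by_contra hncB
    have hlt : Nat.card B < Nat.find hex := by
      rw [← hAm]
      by_contra hge
      push_neg at hge
      exact hBne (Subgroup.eq_of_le_of_card_ge hBA hge)
    exact Nat.find_min hex hlt ⟨B, ⟨hBA.trans hAK, hPB, hncB⟩, rfl⟩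
  have hcopA : (Nat.card A).Coprime p :=
    Nat.Coprime.coprime_dvd_left (Subgroup.card_dvd_of_le hAK) hKp
  have huniA : ∀ x ∈ P, x ≠ 1 → ∀ c ∈ A, c * x = x * c → ∀ y ∈ P, c * y = y * c :=
    fun x hx hx1 c hc => huni x hx hx1 c (hAK hc)
  by_cases hab : ∀ g ∈ A, ∀ h ∈ A, g * h = h * g
  · have h1 := bound_abelian P A hP hPA hcopA hncA hmin huniA χ hχ hfaith n hn hab
    have h2 : 1 < Nat.card P := by
      rw [Subgroup.one_lt_card_iff_ne_bot]
      rintro rfl
      apply hncA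
      intro y hy
      rw [Subgroup.mem_bot] at hy
      rw [hy]; exact Subgroup.one_mem _
    have h3 : 2 ≤ n := by omega
    have h4 : n < n ^ 2 := by nlinarith
    omega
  · push_neg at hab
    have h1 := bound_nonabelian P A hP hPA hcopA hncA hmin huniA χ hχ hfaith n hn hab
    omega

end Cfsg.Agent.Lib.Helper10.TISolv
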