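import Mathlib
import Cfsg.Agent.S1302
import Cfsg.Agent.S0026
import Cfsg.Agent.S0027
import Cfsg.Agent.S0028
import Cfsg.Agent.S0055
import Cfsg.Agent.Lib.Helper10.Coprime2
import Cfsg.Agent.Lib.Helper9.Signalizer

set_option autoImplicit false
open Cfsg
open scoped commutatorElement

namespace Cfsg.Agent.Lib.Helper10.Trans

universe u

/-- A `p`-group acting on a nontrivial `p`-group has a nontrivial fixed point. -/
theorem exists_fixed_ne_one {X : Type u} [Group X] [Finite X] (p : ℕ) [Fact p.Prime]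
    (A V : Subgroup X) (hA : IsPGroup p A) (hV : IsPGroup p V)
    (hAV : A ≤ Subgroup.normalizer (V : Set X)) (hne : V ≠ ⊥) :
    ∃ v ∈ V, v ≠ 1 ∧ v ∈ Subgroup.centralizer (A : Set X) := by
  classical
  letI act : MulAction ↥A ↥V :=
    { smul := fun q x => ⟨(q : X) * x * (q : X)⁻¹,
        (Subgroup.mem_normalizer_iff.1 (hAV q.2) x).1 x.2⟩
      one_smul := fun x => Subtype.ext (by
        show ((1 : ↥A) : X) * x * ((1 : ↥A) : X)⁻¹ = x
        simp)
      mul_smul := fun a b x => Subtype.ext (by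
        show ((a * b : ↥A) : X) * x * ((a * b : ↥A) : X)⁻¹ =
          (a : X) * ((b : X) * x * (b : X)⁻¹) * (a : X)⁻¹
        simp [mul_assoc]) }
  have hdvd : p ∣ Nat.card ↥V := by
    obtain ⟨n, hn⟩ := IsPGroup.iff_card.mp hV
    rw [hn]
    have hn0 : n ≠ 0 := by
      rintro rfl
      rw [pow_zero] at hn
      exact hne (Subgroup.card_eq_one.mp hn)
    exact dvd_pow_self p hn0
  have h1 : (1 : ↥V) ∈ MulAction.fixedPoints ↥A ↥V := by
    rw [MulAction.mem_fixedPoints]
    intro q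
    apply Subtype.ext
    show (q : X) * ((1 : ↥V) : X) * (q : X)⁻¹ = ((1 : ↥V) : X)
    simp
  obtain ⟨b, hb, hb1⟩ := hA.exists_fixed_point_of_prime_dvd_card_of_fixed_point ↥V hdvd h1
  refine ⟨b.1, b.2, ?_, ?_⟩
  · intro h
    exact hb1 (Subtype.ext h.symm)
  · rw [Subgroup.mem_centralizer_iff]
    intro a ha
    have h2 : a * b.1 * a⁻¹ = b.1 := congrArg Subtype.val (MulAction.mem_fixedPoints.mp hb ⟨a, ha⟩)
    calc a * b.1 = (a * b.1 * a⁻¹) * a := by group
      _ = b.1 * a := by rw [h2]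

/-- Core case of the `p'`-core lemma under a class-two type hypothesis. -/
theorem core_case2 {X : Type u} [Group X] [Finite X] (p : ℕ) [Fact p.Prime]
    (P : Subgroup X) [hPn : P.Normal] (hP : IsPGroup p ↥P)
    (hCP : Subgroup.centralizer (P : Set X) ≤ P)
    (A : Subgroup X) (hAp : IsPGroup p ↥A)
    (hcl : ∀ a ∈ A, ∀ u ∈ P, (∀ v ∈ P, ⁅a, u⁆ * v = v * ⁅a, u⁆) ∧
      (∀ b ∈ A, ⁅a, u⁆ * b = b * ⁅a, u⁆))
    (hΩ : ∀ x ∈ Subgroup.centralizer (A : Set X), IsPGroup p (Subgroup.zpowers x) → x ∈ A)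
    (K : Subgroup X) (hK : ¬ p ∣ Nat.card ↥K) (hAK : A ≤ Subgroup.normalizer (K : Set X)) :
    K = ⊥ := by
  have hp : p.Prime := Fact.out
  obtain ⟨k, hk⟩ := IsPGroup.iff_card.mp hP
  obtain ⟨ka, hka⟩ := IsPGroup.iff_card.mp hAp
  have hPK : P ⊓ K = ⊥ := by
    apply (Subgroup.disjoint_of_coprime_natCard _).eq_bot
    rw [hk]
    exact Nat.Coprime.pow_left k ((Nat.Prime.coprime_iff_not_dvd hp).mpr hK)
  have hNP : ∀ S : Subgroup X, S ≤ Subgroup.normalizer (P : Set X) := by
    intro S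
    rw [Subgroup.normalizer_eq_top P]
    exact le_top
  have h2 : ∀ u ∈ A, u ∈ P → ∀ q ∈ K, u * q = q * u := by
    intro u huA huP q hq
    have h1 : u * q * u⁻¹ * q⁻¹ ∈ P ⊓ K := by
      constructor
      · have h2 : q * u⁻¹ * q⁻¹ ∈ P := hPn.conj_mem _ (P.inv_mem huP) q
        have e : u * q * u⁻¹ * q⁻¹ = u * (q * u⁻¹ * q⁻¹) := by group
        rw [e]; exact mul_mem huP h2
      · have h2 : u * q * u⁻¹ ∈ K := (Subgroup.mem_normalizer_iff.mp (hAK huA) q).mp hq
        exact K.mul_mem h2 (K.inv_mem hq)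
    rw [hPK, Subgroup.mem_bot] at h1
    have e : u * q = (u * q * u⁻¹ * q⁻¹) * (q * u) := by group
    rw [e, h1, one_mul]
  have h3 : ∀ x ∈ P, x ∈ Subgroup.centralizer (A : Set X) → x ∈ A := by
    intro x hxP hxC
    exact hΩ x hxC (hP.to_le (Subgroup.zpowers_le.mpr hxP))
  have hcopK : ∀ K' : Subgroup X, K' ≤ K → (Nat.card K').Coprime p := by
    intro K' h
    rw [Nat.coprime_comm, Nat.Prime.coprime_iff_not_dvd hp]
    exact fun hd => hK (hd.trans (Subgroup.card_dvd_of_le h))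
  have h4 : K ⊓ Subgroup.centralizer (A : Set X) = ⊥ := by
    have hle := Cfsg.Agent.S0028.result p A (K ⊓ Subgroup.centralizer (A : Set X)) P hAp
      (hcopK _ inf_le_left) hP ?_ (hNP A) (hNP _) ?_
    · rw [eq_bot_iff, ← hPK]
      exact le_inf (hle.trans hCP) inf_le_left
    · intro a ha
      rw [Subgroup.mem_centralizer_iff]
      intro q hq
      exact ((Subgroup.mem_centralizer_iff.mp hq.2) a ha).symm
    · intro x hx
      rw [Subgroup.mem_centralizer_iff]
      intro q hq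
      exact (h2 x (h3 x hx.1 hx.2) hx.1 q hq.1).symm
  have hsolvA : Group.IsSolvable ↥A := by
    haveI : Group.IsNilpotent ↥A := hAp.isNilpotent
    infer_instance
  have hsolvP : Group.IsSolvable ↥P := by
    haveI : Group.IsNilpotent ↥P := hP.isNilpotent
    infer_instance
  have hcopAK : (Nat.card A).Coprime (Nat.card K) := by
    rw [hka]; exact Nat.Coprime.pow_left ka ((Nat.Prime.coprime_iff_not_dvd hp).mpr hK)
  have hcopKP : (Nat.card K).Coprime (Nat.card P) := by
    rw [hk]; exact Nat.Coprime.pow_right k (hcopK K le_rfl)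
  have h5 : ⁅K, A⁆ = K := by
    have := Cfsg.Agent.S0026.result A K hAK hcopAK (Or.inl hsolvA)
    rwa [h4, sup_bot_eq] at this
  obtain ⟨Z, hZ⟩ : ∃ Z : Subgroup X, Z = P ⊓ Subgroup.centralizer (P : Set X) := ⟨_, rfl⟩
  haveI hZn : Z.Normal := by
    rw [hZ]; infer_instance
  haveI hPmn : (P.map (QuotientGroup.mk' Z)).Normal :=
    Subgroup.Normal.map hPn _ (QuotientGroup.mk'_surjective Z)
  obtain ⟨T, hT⟩ : ∃ T : Subgroup X, T = (Subgroup.centralizer
      ((P.map (QuotientGroup.mk' Z) : Subgroup (X ⧸ Z)) : Set (X ⧸ Z))).comap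
        (QuotientGroup.mk' Z) := ⟨_, rfl⟩
  haveI hTn : T.Normal := by
    rw [hT]; infer_instance
  have key : ∀ x u : X, ⁅x, u⁆ ∈ Z ↔ QuotientGroup.mk' Z u * QuotientGroup.mk' Z x
      = QuotientGroup.mk' Z x * QuotientGroup.mk' Z u := by
    intro x u
    have e1 : (QuotientGroup.mk' Z ⁅x, u⁆ = 1) ↔ ⁅x, u⁆ ∈ Z := QuotientGroup.eq_one_iff _
    rw [← e1, map_commutatorElement, commutatorElement_eq_one_iff_commute]
    exact ⟨fun h => h.eq.symm, fun h => h.symm⟩
  have hmemT : ∀ x : X, x ∈ T ↔ ∀ u ∈ P, ⁅x, u⁆ ∈ Z := by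
    intro x
    rw [hT, Subgroup.mem_comap, Subgroup.mem_centralizer_iff]
    constructor
    · intro h u hu
      rw [key]
      exact h _ (Subgroup.mem_map_of_mem _ hu)
    · rintro h _ ⟨u, hu, rfl⟩
      exact (key x u).mp (h u hu)
  have hAT : A ≤ T := by
    intro a ha
    rw [hmemT]
    intro u hu
    rw [hZ]
    refine Subgroup.mem_inf.mpr ⟨?_, ?_⟩
    · rw [commutatorElement_def]
      exact P.mul_mem (hPn.conj_mem u hu a) (P.inv_mem hu)
    · rw [Subgroup.mem_centralizer_iff]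
      intro v hv
      exact ((hcl a ha u hu).1 v hv).symm
  have hKT : K ≤ T := by
    rw [← h5]
    exact (Subgroup.commutator_mono le_top hAT).trans (Subgroup.commutator_le_right ⊤ T)
  have hV : ⁅P, K⁆ ≤ Z := by
    rw [Subgroup.commutator_le]
    intro u hu q hq
    have h := Z.inv_mem ((hmemT q).mp (hKT hq) u hu)
    rwa [commutatorElement_inv] at h
  obtain ⟨V, hVdef⟩ : ∃ V : Subgroup X, V = ⁅P, K⁆ := ⟨_, rfl⟩
  rw [← hVdef] at hV
  have hVP : V ≤ P := by
    intro v hv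
    have := hV hv
    rw [hZ] at this
    exact this.1
  haveI hVc : IsMulCommutative ↥V := ⟨⟨fun a b => Subtype.ext (by
      have h := hV a.2
      rw [hZ] at h
      have := (Subgroup.mem_centralizer_iff.mp h.2) b.1 (hVP b.2)
      exact this.symm)⟩⟩
  have h7 : ⁅V, K⁆ = V := by
    rw [hVdef]
    exact Cfsg.Agent.S0027.result K P (hNP K) hcopKP (Or.inr hsolvP)
  have hKV : K ≤ Subgroup.normalizer (V : Set X) := by
    rw [hVdef]
    exact Cfsg.Agent.Lib.Helper10.Coprime.le_normalizer_commutator_right P K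
  have hcopKV : (Nat.card K).Coprime (Nat.card V) :=
    hcopKP.coprime_dvd_right (Subgroup.card_dvd_of_le hVP)
  have h8 := (Cfsg.Agent.S0055.result K V hKV hcopKV).1
  rw [h7, inf_eq_left.mpr inf_le_left] at h8
  have hAV : A ≤ Subgroup.normalizer (V : Set X) := by
    rw [hVdef]
    exact Cfsg.Agent.Lib.Helper10.Coprime.le_normalizer_commutator_of_le A P K (hNP A) hAK
  have hVbot : V = ⊥ := by
    by_contra hne
    obtain ⟨v, hvV, hv1, hvC⟩ := exists_fixed_ne_one p A V hAp (hP.to_le hVP) hAV hne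
    have hvA : v ∈ A := h3 v (hVP hvV) hvC
    have : v ∈ V ⊓ Subgroup.centralizer (K : Set X) := by
      refine Subgroup.mem_inf.mpr ⟨hvV, ?_⟩
      rw [Subgroup.mem_centralizer_iff]
      intro q hq
      exact (h2 v hvA (hVP hvV) q hq).symm
    rw [h8, Subgroup.mem_bot] at this
    exact hv1 this
  have hKC : K ≤ Subgroup.centralizer (P : Set X) := by
    rw [hVdef] at hVbot
    have := Subgroup.commutator_eq_bot_iff_le_centralizer.mp hVbot
    intro q hq
    rw [Subgroup.mem_centralizer_iff]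
    intro u hu
    exact ((Subgroup.mem_centralizer_iff.mp (this hu)) q hq).symm
  rw [eq_bot_iff, ← hPK]
  exact le_inf (hKC.trans hCP) le_rfl

/-- The `p'`-core lemma for `p`-constrained groups whose Sylow `p`-subgroups have class at most two. -/
theorem kl2 {X : Type u} [Group X] [Finite X] (p : ℕ) [Fact p.Prime]
    (hX : Cfsg.IsPConstrained p X)
    (hcl : ∀ S : Sylow p X, ∀ x ∈ S, ∀ y ∈ S, ∀ z ∈ S, ⁅x, y⁆ * z = z * ⁅x, y⁆)
    (A : Subgroup X) (hAp : IsPGroup p ↥A)
    (hΩ : ∀ x ∈ Subgroup.centralizer (A : Set X), IsPGroup p (Subgroup.zpowers x) → x ∈ A)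
    (Q : Subgroup X) (hQ : ¬ p ∣ Nat.card ↥Q) (hAQ : A ≤ Subgroup.normalizer (Q : Set X)) :
    Q ≤ Cfsg.pPrimeCore p X := by
  classical
  have hpp : p.Prime := Fact.out
  have hOcop := Cfsg.Agent.Lib.Helper9.pPrimeCore_coprime p X
  have hbot := Cfsg.Agent.Lib.Helper9.pPrimeCore_quotient_eq_bot p X
  have hPP := Cfsg.Agent.S0630.pPrimePCore_eq_pCore p hbot
  have hXbar := Cfsg.Agent.S0630.result.mp hX
  have hQp : IsPGroup p ↥(pPrimePCore p (X ⧸ pPrimeCore p X)) := by
    rw [hPP]; exact Cfsg.Agent.Lib.Helper9.pCore_isPGroup p _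
  have h3 : (⊤ : Subgroup ↥(pPrimePCore p (X ⧸ pPrimeCore p X))).map
      (pPrimePCore p (X ⧸ pPrimeCore p X)).subtype = pPrimePCore p (X ⧸ pPrimeCore p X) := by
    rw [← MonoidHom.range_eq_map, Subgroup.range_subtype]
  obtain ⟨Pb⟩ : Nonempty (Sylow p ↥(pPrimePCore p (X ⧸ pPrimeCore p X))) := Sylow.nonempty
  have hCP := hXbar Pb
  rw [Cfsg.Agent.S0630.sylow_eq_top_of_isPGroup hQp Pb, h3, hPP] at hCP
  have hQbar : Q.map (QuotientGroup.mk' (pPrimeCore p X)) = ⊥ := by
    apply core_case2 p (pCore p (X ⧸ pPrimeCore p X)) (Cfsg.Agent.Lib.Helper9.pCore_isPGroup p _) hCP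
      (A.map (QuotientGroup.mk' (pPrimeCore p X))) (hAp.map _) ?_ ?_
      (Q.map (QuotientGroup.mk' (pPrimeCore p X))) ?_ ?_
    · intro ab hab ub hub
      have hS : IsPGroup p ↥(pCore p (X ⧸ pPrimeCore p X) ⊔
          A.map (QuotientGroup.mk' (pPrimeCore p X))) :=
        IsPGroup.to_sup_of_normal_left (Cfsg.Agent.Lib.Helper9.pCore_isPGroup p _) (hAp.map _)
      obtain ⟨Sb, hSb⟩ := hS.exists_le_sylow
      obtain ⟨S, rfl⟩ := Sylow.mapSurjective_surjective
        (QuotientGroup.mk'_surjective (pPrimeCore p X)) p Sb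
      have hlift : ∀ zb ∈ (pCore p (X ⧸ pPrimeCore p X) ⊔
          A.map (QuotientGroup.mk' (pPrimeCore p X))),
          ∃ z ∈ S, QuotientGroup.mk' (pPrimeCore p X) z = zb := by
        intro zb hzb
        have := hSb hzb
        rw [Sylow.coe_mapSurjective] at this
        exact Subgroup.mem_map.mp this
      obtain ⟨a, ha, rfl⟩ := hlift ab (Subgroup.mem_sup_right hab)
      obtain ⟨u, hu, rfl⟩ := hlift ub (Subgroup.mem_sup_left hub)
      constructor
      · intro vb hvb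
        obtain ⟨v, hv, rfl⟩ := hlift vb (Subgroup.mem_sup_left hvb)
        rw [← map_commutatorElement, ← map_mul, ← map_mul, hcl S a ha u hu v hv]
      · intro bb hbb
        obtain ⟨b, hb, rfl⟩ := hlift bb (Subgroup.mem_sup_right hbb)
        rw [← map_commutatorElement, ← map_mul, ← map_mul, hcl S a ha u hu b hb]
    · intro xb hxb hxp
      obtain ⟨g, rfl⟩ := QuotientGroup.mk'_surjective _ xb
      obtain ⟨u, hu, hc⟩ := Cfsg.Agent.Lib.Helper4.PPrimeQuot.cent_lift hOcop hAp g hxb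
      have hu1 : QuotientGroup.mk' (pPrimeCore p X) u = 1 := (QuotientGroup.eq_one_iff u).mpr hu
      have hπc : QuotientGroup.mk' (pPrimeCore p X) (u * g) = QuotientGroup.mk' (pPrimeCore p X) g := by
        rw [map_mul, hu1, one_mul]
      obtain ⟨j, hj⟩ := IsPGroup.iff_card.mp hxp
      rw [Nat.card_zpowers] at hj
      set c := u * g with hcdef
      set xb := QuotientGroup.mk' (pPrimeCore p X) g with hxbdef
      by_cases hj0 : j = 0
      · rw [hj0, pow_zero, orderOf_eq_one_iff] at hj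
        rw [hj]
        exact Subgroup.one_mem _
      have hcpO : c ^ (p ^ j) ∈ pPrimeCore p X := by
        have h0 : xb ^ (p ^ j) = 1 := by
          have h00 := pow_orderOf_eq_one xb
          rwa [hj] at h00
        rw [← QuotientGroup.eq_one_iff, ← QuotientGroup.mk'_apply, map_pow, hπc]
        exact h0
      have hcpN : (c ^ (p ^ j)) ^ Nat.card ↥(pPrimeCore p X) = 1 := by
        have h1 := pow_card_eq_one' (G := ↥(pPrimeCore p X)) (x := ⟨c ^ (p ^ j), hcpO⟩)
        exact congrArg Subtype.val h1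
      obtain ⟨k, -, hk⟩ := Nat.exists_mul_mod_eq_one_of_coprime (Nat.Coprime.pow_right j hOcop)
        (Nat.one_lt_pow hj0 hpp.one_lt)
      have hc'p : (c ^ (Nat.card ↥(pPrimeCore p X) * k)) ^ (p ^ j) = 1 := by
        rw [← pow_mul, mul_comm, pow_mul, pow_mul, hcpN, one_pow]
      have hπc' : QuotientGroup.mk' (pPrimeCore p X) (c ^ (Nat.card ↥(pPrimeCore p X) * k)) = xb := by
        rw [map_pow, hπc, ← pow_mod_orderOf, hj, hk, pow_one]
      have hc'pg : IsPGroup p (Subgroup.zpowers (c ^ (Nat.card ↥(pPrimeCore p X) * k))) := by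
        obtain ⟨i, -, hi⟩ := (Nat.dvd_prime_pow hpp).mp (orderOf_dvd_of_pow_eq_one hc'p)
        apply IsPGroup.of_card (n := i)
        rw [Nat.card_zpowers, hi]
      have hc'A : c ^ (Nat.card ↥(pPrimeCore p X) * k) ∈ A := hΩ _ (pow_mem hc _) hc'pg
      rw [← hπc']
      exact Subgroup.mem_map_of_mem _ hc'A
    · intro h
      exact hQ (h.trans (Subgroup.card_map_dvd _ _))
    · exact (Subgroup.map_mono hAQ).trans (Subgroup.le_normalizer_map _)
  intro q hq
  have h1 : QuotientGroup.mk' (pPrimeCore p X) q ∈ Q.map (QuotientGroup.mk' (pPrimeCore p X)) :=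
    Subgroup.mem_map_of_mem _ hq
  rw [hQbar, Subgroup.mem_bot] at h1
  exact (QuotientGroup.eq_one_iff q).mp h1

/-- In a nilpotent subgroup of class at most two, commutators are central. -/
theorem class2_comm {G : Type u} [Group G] (S : Subgroup G) [hn : Group.IsNilpotent ↥S]
    (h : Group.nilpotencyClass ↥S ≤ 2) (x y z : G) (hx : x ∈ S) (hy : y ∈ S) (hz : z ∈ S) :
    ⁅x, y⁆ * z = z * ⁅x, y⁆ := by
  have h0 : Subgroup.lowerCentralSeries (⊤ : Subgroup ↥S) 2 = ⊥ :=
    Subgroup.lowerCentralSeries_eq_bot_iff_nilpotencyClass_le.mpr h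
  have h1 : ⁅⁅(⟨x, hx⟩ : ↥S), (⟨y, hy⟩ : ↥S)⁆, (⟨z, hz⟩ : ↥S)⁆ ∈
      Subgroup.lowerCentralSeries (⊤ : Subgroup ↥S) 2 := by
    rw [Subgroup.lowerCentralSeries_succ, Subgroup.lowerCentralSeries_succ,
      Subgroup.lowerCentralSeries_zero]
    exact Subgroup.commutator_mem_commutator
      (Subgroup.commutator_mem_commutator (Subgroup.mem_top _) (Subgroup.mem_top _))
      (Subgroup.mem_top _)
  rw [h0, Subgroup.mem_bot, commutatorElement_eq_one_iff_commute] at h1
  have h2 := congrArg Subtype.val h1.eq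
  exact h2

/-- The uniform `p'`-core lemma in the `p`-local subgroups `N(⟨a⟩)`. -/
theorem kl_local {G : Type u} [Group G] [Finite G] (p : ℕ) [Fact p.Prime]
    (hloc : ∀ T : Subgroup G, IsPGroup p T → T ≠ ⊥ →
      Cfsg.IsPConstrained p ↥(Subgroup.normalizer (T : Set G)))
    (h2 : p = 2 → ∀ S : Sylow p G, Group.IsNilpotent (S : Subgroup G) ∧
      Group.nilpotencyClass (S : Subgroup G) ≤ 2)
    (E : Subgroup G) (hEp : IsPGroup p E) (hEc : IsMulCommutative E)
    (hEfull : ∀ x ∈ Subgroup.centralizer (E : Set G), IsPGroup p (Subgroup.zpowers x) → x ∈ E)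
    (a : G) (ha : a ∈ E) (ha1 : a ≠ 1) (K : Subgroup G)
    (hKa : K ≤ Subgroup.centralizer ({a} : Set G)) (hK : ¬ p ∣ Nat.card K)
    (hEK : E ≤ Subgroup.normalizer (K : Set G)) :
    K ≤ (pPrimeCore p ↥(Subgroup.normalizer ((Subgroup.zpowers a : Subgroup G) : Set G))).map
      (Subgroup.normalizer ((Subgroup.zpowers a : Subgroup G) : Set G)).subtype := by
  classical
  have hpp : p.Prime := Fact.out
  obtain ⟨H, hH⟩ : ∃ H : Subgroup G, H = Subgroup.normalizer ((Subgroup.zpowers a : Subgroup G) : Set G) :=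
    ⟨_, rfl⟩
  rw [← hH]
  have hcH : Subgroup.centralizer ({a} : Set G) ≤ H := by
    rw [hH, ← Cfsg.Agent.Lib.Helper9.centralizer_zpowers_eq a]
    exact Subgroup.centralizer_le_normalizer _
  have hEH : E ≤ H := by
    intro e he
    apply hcH
    rw [Subgroup.mem_centralizer_singleton_iff]
    exact setLike_mul_comm he ha
  have hKH : K ≤ H := hKa.trans hcH
  have hX : Cfsg.IsPConstrained p ↥H := by
    rw [hH]
    exact hloc (Subgroup.zpowers a) (hEp.to_le (Subgroup.zpowers_le.mpr ha))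
      (Subgroup.zpowers_ne_bot.mpr ha1)
  have hA'p : IsPGroup p ↥(E.subgroupOf H) := hEp.comap_subtype
  have hΩ' : ∀ x ∈ Subgroup.centralizer ((E.subgroupOf H : Subgroup ↥H) : Set ↥H),
      IsPGroup p (Subgroup.zpowers x) → x ∈ E.subgroupOf H := by
    intro x hx hxp
    rw [Subgroup.mem_subgroupOf]
    apply hEfull
    · rw [Subgroup.mem_centralizer_iff]
      intro e he
      have h1 := (Subgroup.mem_centralizer_iff.mp hx) ⟨e, hEH he⟩ (Subgroup.mem_subgroupOf.mpr he)
      exact congrArg Subtype.val h1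
    · have h1 := hxp.map H.subtype
      rwa [MonoidHom.map_zpowers] at h1
  have hK' : ¬ p ∣ Nat.card ↥(K.subgroupOf H) := by
    rw [Cfsg.Agent.Lib.Helper10.Coprime.card_subgroupOf_of_le hKH]
    exact hK
  have hA'K' : E.subgroupOf H ≤ Subgroup.normalizer ((K.subgroupOf H : Subgroup ↥H) : Set ↥H) := by
    intro x hx
    rw [Subgroup.mem_normalizer_iff]
    intro h
    rw [Subgroup.mem_subgroupOf, Subgroup.mem_subgroupOf]
    exact (Subgroup.mem_normalizer_iff.mp (hEK (Subgroup.mem_subgroupOf.mp hx))) h.1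
  have hmain : K.subgroupOf H ≤ pPrimeCore p ↥H := by
    by_cases hp2 : p = 2
    · apply kl2 p hX ?_ (E.subgroupOf H) hA'p hΩ' (K.subgroupOf H) hK' hA'K'
      intro S x hx y hy z hz
      have hSp : IsPGroup p ↥((S : Subgroup ↥H).map H.subtype) := S.2.map _
      obtain ⟨S', hS'⟩ := hSp.exists_le_sylow
      obtain ⟨hn, hc⟩ := h2 hp2 S'
      have h1 := class2_comm (S' : Subgroup G) hc x.1 y.1 z.1
        (hS' (Subgroup.mem_map_of_mem _ hx)) (hS' (Subgroup.mem_map_of_mem _ hy))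
        (hS' (Subgroup.mem_map_of_mem _ hz))
      exact Subtype.ext h1
    · apply Cfsg.Agent.S1302.result p hp2 hX (E.subgroupOf H) inferInstance hA'p ?_
        (K.subgroupOf H) hK' hA'K'
      intro x hx hxo
      apply hΩ' x hx
      apply IsPGroup.of_card (n := 1)
      rw [Nat.card_zpowers, hxo, pow_one]
  intro k hk
  exact Subgroup.mem_map.mpr ⟨⟨k, hKH hk⟩, hmain (Subgroup.mem_subgroupOf.mpr hk), rfl⟩

end Cfsg.Agent.Lib.Helper10.Trans
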