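import Mathlib
import Cfsg.Agent.Lib.Helper10.Trans1
import Cfsg.Agent.Lib.Helper9.Transitivity2
import Cfsg.Agent.S0024
import Cfsg.Agent.S0025
import Cfsg.Prelude.Def_OddOrderLocal
import Cfsg.Prelude.Def_CaseTheorems

set_option autoImplicit false
open Cfsg
open scoped commutatorElement Pointwise

namespace Cfsg.Agent.Lib.Helper10.Trans

universe u

section

variable {G : Type u} [Group G] [Finite G]

theorem isPGroup_of_mem_inv {E Y : Subgroup G} {q : ℕ} [Fact q.Prime]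
    (h : Y ∈ Cfsg.invSubgroups ⊤ E {q}) : IsPGroup q Y := by
  have h1 := Nat.eq_prime_pow_of_unique_prime_dvd (n := Nat.card Y) (p := q) Nat.card_pos.ne'
    (fun {d} hd hdvd => h.2.1 d hd hdvd)
  exact IsPGroup.of_card h1

theorem mem_inv_of_isPGroup {E Y : Subgroup G} {q : ℕ} [Fact q.Prime] (hY : IsPGroup q Y)
    (hE : E ≤ Subgroup.normalizer (Y : Set G)) : Y ∈ Cfsg.invSubgroups ⊤ E {q} := by
  refine ⟨le_top, ?_, hE⟩
  intro r hr hrd
  obtain ⟨k, hk⟩ := IsPGroup.iff_card.mp hY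
  rw [hk] at hrd
  exact (Nat.prime_dvd_prime_iff_eq hr Fact.out).mp (hr.dvd_of_dvd_pow hrd)

theorem exists_max_ge {E Y : Subgroup G} {q : ℕ} (h : Y ∈ Cfsg.invSubgroups ⊤ E {q}) :
    ∃ Q ∈ Cfsg.maxInvSubgroups ⊤ E {q}, Y ≤ Q := by
  obtain ⟨Q, hYQ, hQ⟩ := Set.Finite.exists_le_maximal (Set.toFinite (Cfsg.invSubgroups ⊤ E {q})) h
  exact ⟨Q, ⟨hQ.1, fun R hR hQR => le_antisymm (hQ.2 hR hQR) hQR⟩, hYQ⟩

theorem map_conj_mem_inv {E Y : Subgroup G} {q : ℕ} {c : G}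
    (hc : c ∈ Subgroup.centralizer (E : Set G)) (h : Y ∈ Cfsg.invSubgroups ⊤ E {q}) :
    Y.map (MulAut.conj c).toMonoidHom ∈ Cfsg.invSubgroups ⊤ E {q} := by
  refine ⟨le_top, ?_, ?_⟩
  · intro r hr hrd
    have : Nat.card ↥(Y.map (MulAut.conj c).toMonoidHom) = Nat.card Y :=
      Subgroup.card_map_of_injective (MulAut.conj c).injective
    rw [this] at hrd
    exact h.2.1 r hr hrd
  · intro e he
    apply Cfsg.Agent.Lib.Helper10.Coprime.mem_normalizer_of_conj_mem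
    rintro _ ⟨y, hy, rfl⟩
    refine ⟨e * y * e⁻¹, (Subgroup.mem_normalizer_iff.mp (h.2.2 he) y).mp hy, ?_⟩
    have hce : e * c = c * e := (Subgroup.mem_centralizer_iff.mp hc) e he
    have h2 : e⁻¹ * c⁻¹ = c⁻¹ * e⁻¹ := by rw [← mul_inv_rev, ← mul_inv_rev, hce]
    simp only [MulEquiv.coe_toMonoidHom, MulAut.conj_apply]
    calc c * (e * y * e⁻¹) * c⁻¹ = (c * e) * y * (e⁻¹ * c⁻¹) := by group
      _ = (e * c) * y * (c⁻¹ * e⁻¹) := by rw [← hce, h2]
      _ = e * (c * y * c⁻¹) * e⁻¹ := by group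

theorem map_conj_mem_max {E Q : Subgroup G} {q : ℕ} {c : G}
    (hc : c ∈ Subgroup.centralizer (E : Set G)) (h : Q ∈ Cfsg.maxInvSubgroups ⊤ E {q}) :
    Q.map (MulAut.conj c).toMonoidHom ∈ Cfsg.maxInvSubgroups ⊤ E {q} := by
  refine ⟨map_conj_mem_inv hc h.1, ?_⟩
  intro R hR hQR
  have h0 : Q ≤ R.map (MulAut.conj c⁻¹).toMonoidHom := by
    have := Subgroup.map_mono (f := (MulAut.conj c⁻¹).toMonoidHom) hQR
    rwa [Cfsg.Agent.Lib.Helper9.map_conj_inv_map_conj] at this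
  have h1 := h.2 (R.map (MulAut.conj c⁻¹).toMonoidHom)
    (map_conj_mem_inv (Subgroup.inv_mem _ hc) hR) h0
  rw [← h1, Cfsg.Agent.Lib.Helper9.map_conj_map_conj_inv]

theorem le_normalizer_inf' {A H K : Subgroup G} (h1 : A ≤ Subgroup.normalizer (H : Set G))
    (h2 : A ≤ Subgroup.normalizer (K : Set G)) :
    A ≤ Subgroup.normalizer ((H ⊓ K : Subgroup G) : Set G) := by
  intro a ha
  rw [Subgroup.mem_normalizer_iff]
  intro x
  rw [Subgroup.mem_inf, Subgroup.mem_inf, ← Subgroup.mem_normalizer_iff.mp (h1 ha) x,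
    ← Subgroup.mem_normalizer_iff.mp (h2 ha) x]

theorem le_normalizer_sup' {A H K : Subgroup G} (h1 : A ≤ Subgroup.normalizer (H : Set G))
    (h2 : A ≤ Subgroup.normalizer (K : Set G)) :
    A ≤ Subgroup.normalizer ((H ⊔ K : Subgroup G) : Set G) := by
  intro a ha
  rw [Cfsg.Agent.Lib.Helper10.Coprime.mem_normalizer_iff_conj_smul, Subgroup.smul_sup,
    Cfsg.Agent.Lib.Helper10.Coprime.mem_normalizer_iff_conj_smul.mp (h1 ha),
    Cfsg.Agent.Lib.Helper10.Coprime.mem_normalizer_iff_conj_smul.mp (h2 ha)]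

/-- `p'`-elements of `C(E)` lie in `O_{p'}(C(E))` when `E` contains all `p`-elements of `C(E)`. -/
theorem mem_piCoreOf (p : ℕ) [Fact p.Prime] (E : Subgroup G) (hEp : IsPGroup p E)
    (hEc : IsMulCommutative E)
    (hEfull : ∀ x ∈ Subgroup.centralizer (E : Set G), IsPGroup p (Subgroup.zpowers x) → x ∈ E)
    (c : G) (hc : c ∈ Subgroup.centralizer (E : Set G)) (hco : (orderOf c).Coprime p) :
    c ∈ Cfsg.piCoreOf (Cfsg.primesNotDvd p) (Subgroup.centralizer (E : Set G)) := by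
  classical
  have hpp : p.Prime := Fact.out
  obtain ⟨C, hC⟩ : ∃ C : Subgroup G, C = Subgroup.centralizer (E : Set G) := ⟨_, rfl⟩
  rw [← hC] at hc ⊢
  have hcomm : ∀ (e : ↥C), e ∈ E.subgroupOf C → ∀ g : ↥C, g * e = e * g := by
    intro e he g
    apply Subtype.ext
    have hg : (g : G) ∈ Subgroup.centralizer (E : Set G) := hC ▸ g.2
    exact ((Subgroup.mem_centralizer_iff.mp hg) e.1 (Subgroup.mem_subgroupOf.mp he)).symm
  haveI hEn : (E.subgroupOf C).Normal := ⟨fun n hn g => by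
    have : g * n * g⁻¹ = n := by rw [hcomm n hn g, mul_inv_cancel_right]
    rw [this]; exact hn⟩
  have hE'p : IsPGroup p ↥(E.subgroupOf C) := hEp.comap_subtype
  obtain ⟨S, hS⟩ := hE'p.exists_le_sylow
  have hSE : (S : Subgroup ↥C) = E.subgroupOf C := by
    apply le_antisymm _ hS
    intro s hs
    rw [Subgroup.mem_subgroupOf]
    apply hEfull
    · exact hC ▸ s.2
    · have h1 : IsPGroup p ↥(Subgroup.zpowers s) := S.2.to_le (Subgroup.zpowers_le.mpr hs)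
      have h2 := h1.map C.subtype
      rwa [MonoidHom.map_zpowers] at h2
  have hcop : (Nat.card ↥(E.subgroupOf C)).Coprime (E.subgroupOf C).index := by
    rw [← hSE]; exact S.card_coprime_index
  obtain ⟨W, hW⟩ := Subgroup.exists_right_complement'_of_coprime hcop
  have hWcard : Nat.card W = (E.subgroupOf C).index := (hW.symm.index_eq_card).symm
  have hWp : ¬ p ∣ Nat.card W := by
    rw [hWcard, ← hSE]; exact S.not_dvd_index
  have hdec : ∀ g : ↥C, ∃ e ∈ E.subgroupOf C, ∃ w ∈ W, g = e * w := by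
    intro g
    obtain ⟨⟨e, w⟩, hew⟩ := hW.2 g
    exact ⟨e.1, e.2, w.1, w.2, hew.symm⟩
  haveI hWn : W.Normal := ⟨fun n hn g => by
    obtain ⟨e, he, w, hw, rfl⟩ := hdec g
    have : e * w * n * (e * w)⁻¹ = w * n * w⁻¹ := by
      have h1 := hcomm e he (w * n * w⁻¹)
      calc e * w * n * (e * w)⁻¹ = e * (w * n * w⁻¹) * e⁻¹ := by group
        _ = (w * n * w⁻¹) * e * e⁻¹ := by rw [h1]
        _ = w * n * w⁻¹ := by group
    rw [this]; exact W.mul_mem (W.mul_mem hw hn) (W.inv_mem hw)⟩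
  have hWle : W ≤ Cfsg.piCore (Cfsg.primesNotDvd p) ↥C := by
    apply le_sSup
    refine ⟨hWn, fun r hr hrd => ⟨hr, fun hrp => ?_⟩⟩
    have : r = p := (Nat.prime_dvd_prime_iff_eq hr hpp).mp hrp
    exact hWp (this ▸ hrd)
  obtain ⟨e, he, w, hw, hcew⟩ := hdec ⟨c, hc⟩
  have he1 : e = 1 := by
    have hcomm' : Commute e w := (hcomm e he w).symm
    have hw1 : w ^ Nat.card W = 1 := by
      have := pow_card_eq_one' (G := ↥W) (x := ⟨w, hw⟩)
      exact congrArg Subtype.val this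
    have h2 : (⟨c, hc⟩ : ↥C) ^ (Nat.card W * orderOf c) = 1 := by
      apply Subtype.ext
      rw [Subgroup.coe_pow, mul_comm, pow_mul, pow_orderOf_eq_one, one_pow]
      rfl
    have h3 : e ^ (Nat.card W * orderOf c) = 1 := by
      rw [hcew, hcomm'.mul_pow, pow_mul w, hw1, one_pow, mul_one] at h2
      exact h2
    have h4 : orderOf e ∣ Nat.card W * orderOf c := orderOf_dvd_of_pow_eq_one h3
    obtain ⟨n, hn⟩ := IsPGroup.iff_card.mp hE'p
    have h5 : orderOf e ∣ p ^ n := by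
      rw [← hn]
      have := orderOf_dvd_natCard (⟨e, he⟩ : ↥(E.subgroupOf C))
      rwa [Subgroup.orderOf_mk] at this
    have h6 : (Nat.card W * orderOf c).Coprime (p ^ n) :=
      Nat.Coprime.pow_right n
        (Nat.Coprime.mul_left ((Nat.Prime.coprime_iff_not_dvd hpp).mpr hWp).symm hco)
    exact orderOf_eq_one_iff.mp (Nat.eq_one_of_dvd_coprimes h6 h4 h5)
  rw [he1, one_mul] at hcew
  have hcW : (⟨c, hc⟩ : ↥C) ∈ W := hcew ▸ hw
  exact Subgroup.mem_map.mpr ⟨⟨c, hc⟩, hWle hcW, rfl⟩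

theorem exists_elem (p : ℕ) [Fact p.Prime] (E : Subgroup G) (hEp : IsPGroup p E)
    (hE3 : ¬ Cfsg.PRankLE p 2 E) :
    ∃ A : Subgroup G, A ≤ E ∧ IsElementaryAbelian p A ∧ p ^ 3 ≤ Nat.card A := by
  have hpp : p.Prime := Fact.out
  unfold Cfsg.PRankLE at hE3
  push Not at hE3
  obtain ⟨A₀, hc, hexp, hcard⟩ := hE3
  haveI := hc
  refine ⟨A₀.map E.subtype, Subgroup.map_subtype_le _, ⟨inferInstance, ?_⟩, ?_⟩
  · rintro _ ⟨a, ha, rfl⟩
    have := hexp a ha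
    have h2 := congrArg Subtype.val this
    simpa using h2
  · rw [Subgroup.card_map_of_injective E.subtype_injective]
    obtain ⟨k, hk⟩ := IsPGroup.iff_card.mp (hEp.to_subgroup A₀)
    rw [hk] at hcard ⊢
    have : 2 < k := (Nat.pow_lt_pow_iff_right hpp.one_lt).mp hcard
    exact Nat.pow_le_pow_right hpp.pos this

theorem trans_aux (p : ℕ) [Fact p.Prime]
    (E : Subgroup G) (hEp : IsPGroup p E) (hEc : IsMulCommutative E)
    (hEfull : ∀ x ∈ Subgroup.centralizer (E : Set G), IsPGroup p (Subgroup.zpowers x) → x ∈ E)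
    (A : Subgroup G) (hAE : A ≤ E) (hAel : IsElementaryAbelian p A) (hA3 : p ^ 3 ≤ Nat.card A)
    (q : ℕ) [Fact q.Prime] (hqp : q ≠ p)
    (hKL : ∀ a ∈ E, a ≠ 1 → ∀ K : Subgroup G, K ≤ Subgroup.centralizer ({a} : Set G) →
      ¬ p ∣ Nat.card K → E ≤ Subgroup.normalizer (K : Set G) →
      K ≤ (pPrimeCore p ↥(Subgroup.normalizer ((Subgroup.zpowers a : Subgroup G) : Set G))).map
        (Subgroup.normalizer ((Subgroup.zpowers a : Subgroup G) : Set G)).subtype)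
    (n : ℕ) : ∀ Q₁ ∈ Cfsg.maxInvSubgroups ⊤ E {q}, ∀ Q₂ ∈ Cfsg.maxInvSubgroups ⊤ E {q},
      Nat.card G - Nat.card ↥(Q₁ ⊓ Q₂) = n →
        ∃ k ∈ Cfsg.piCoreOf (Cfsg.primesNotDvd p) (Subgroup.centralizer (E : Set G)),
          Q₂ = Q₁.map (MulAut.conj k).toMonoidHom := by
  classical
  have hpp : p.Prime := Fact.out
  induction n using Nat.strong_induction_on with
  | _ n ih =>
  intro Q₁ hQ₁ Q₂ hQ₂ hn
  by_cases hne : Q₁ = Q₂
  · refine ⟨1, Subgroup.one_mem _, ?_⟩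
    rw [hne]
    ext x
    simp
  have hq1 : IsPGroup q Q₁ := isPGroup_of_mem_inv hQ₁.1
  have hq2 : IsPGroup q Q₂ := isPGroup_of_mem_inv hQ₂.1
  have hEQ1 : E ≤ Subgroup.normalizer (Q₁ : Set G) := hQ₁.1.2.2
  have hEQ2 : E ≤ Subgroup.normalizer (Q₂ : Set G) := hQ₂.1.2.2
  have hD₁ : ¬ Q₁ ≤ Q₂ := fun h => hne (hQ₁.2 Q₂ hQ₂.1 h).symm
  have hD₂ : ¬ Q₂ ≤ Q₁ := fun h => hne (hQ₂.2 Q₁ hQ₁.1 h)
  obtain ⟨a, haA, ha1, hX₁R, hX₂R⟩ :=
    Cfsg.Agent.Lib.Helper9.exists_centralizer_normalizer_not_le hAel hA3 hqp hq1 hq2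
      (hAE.trans hEQ1) (hAE.trans hEQ2) hD₁ hD₂
  obtain ⟨R, hR⟩ : ∃ R : Subgroup G, R = Q₁ ⊓ Q₂ := ⟨_, rfl⟩
  rw [← hR] at hX₁R hX₂R hn
  have hRQ1 : R ≤ Q₁ := by rw [hR]; exact inf_le_left
  have hRQ2 : R ≤ Q₂ := by rw [hR]; exact inf_le_right
  have haE : a ∈ E := hAE haA
  have hER : E ≤ Subgroup.normalizer (R : Set G) := by
    rw [hR]; exact le_normalizer_inf' hEQ1 hEQ2
  have hEca : E ≤ Subgroup.centralizer ({a} : Set G) := by
    intro e he
    rw [Subgroup.mem_centralizer_singleton_iff]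
    exact setLike_mul_comm he haE
  have hECa : E ≤ Subgroup.normalizer
      ((Subgroup.centralizer ({a} : Set G) : Subgroup G) : Set G) :=
    hEca.trans Subgroup.le_normalizer
  have hXfacts : ∀ Q : Subgroup G, E ≤ Subgroup.normalizer (Q : Set G) →
      E ≤ Subgroup.normalizer ((Subgroup.normalizer (R : Set G) ⊓ Q ⊓
        Subgroup.centralizer ({a} : Set G) : Subgroup G) : Set G) := by
    intro Q hEQ
    exact le_normalizer_inf'
      (Cfsg.Agent.Lib.Helper10.Coprime.le_normalizer_normalizer_inf E Q R hEQ hER) hECa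
  obtain ⟨H, hH⟩ : ∃ H : Subgroup G,
      H = Subgroup.normalizer ((Subgroup.zpowers a : Subgroup G) : Set G) := ⟨_, rfl⟩
  obtain ⟨O, hO⟩ : ∃ O : Subgroup G, O = (pPrimeCore p ↥H).map H.subtype := ⟨_, rfl⟩
  have hKL' : ∀ K : Subgroup G, K ≤ Subgroup.centralizer ({a} : Set G) →
      ¬ p ∣ Nat.card K → E ≤ Subgroup.normalizer (K : Set G) → K ≤ O := by
    intro K h1 h2 h3
    rw [hO, hH]
    exact hKL a haE ha1 K h1 h2 h3
  have hX₁O := hKL' _ inf_le_right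
    (Cfsg.Agent.Lib.Helper9.not_dvd_card_of_isPGroup_of_ne hqp
      (hq1.to_le (inf_le_left.trans inf_le_right))) (hXfacts Q₁ hEQ1)
  have hX₂O := hKL' _ inf_le_right
    (Cfsg.Agent.Lib.Helper9.not_dvd_card_of_isPGroup_of_ne hqp
      (hq2.to_le (inf_le_left.trans inf_le_right))) (hXfacts Q₂ hEQ2)
  have hEH : E ≤ H := by
    intro e he
    have h1 := hEca he
    rw [← Cfsg.Agent.Lib.Helper9.centralizer_zpowers_eq a] at h1
    rw [hH]
    exact Subgroup.centralizer_le_normalizer _ h1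
  have hpO : ¬ p ∣ Nat.card O := by
    rw [hO, Subgroup.card_map_of_injective H.subtype_injective]
    exact (Nat.Prime.coprime_iff_not_dvd hpp).mp
      (Cfsg.Agent.Lib.Helper9.pPrimeCore_coprime p ↥H).symm
  have hEO : E ≤ Subgroup.normalizer (O : Set G) := by
    intro e he
    apply Cfsg.Agent.Lib.Helper10.Coprime.mem_normalizer_of_conj_mem
    rw [hO]
    rintro _ ⟨s', hs', rfl⟩
    exact ⟨⟨e, hEH he⟩ * s' * (⟨e, hEH he⟩ : ↥H)⁻¹,
      (inferInstance : (pPrimeCore p ↥H).Normal).conj_mem s' hs' _, rfl⟩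
  obtain ⟨L, hL⟩ : ∃ L : Subgroup G, L = O ⊓ Subgroup.normalizer (R : Set G) := ⟨_, rfl⟩
  have hEL : E ≤ Subgroup.normalizer (L : Set G) := by
    rw [hL]; exact le_normalizer_inf' hEO (hER.trans Subgroup.le_normalizer)
  have hLR : L ≤ Subgroup.normalizer (R : Set G) := by rw [hL]; exact inf_le_right
  have hLO : L ≤ O := by rw [hL]; exact inf_le_left
  have hRq : IsPGroup q R := hq1.to_le hRQ1
  obtain ⟨M, hM⟩ : ∃ M : Subgroup G, M = R ⊔ L := ⟨_, rfl⟩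
  have hpM : ¬ p ∣ Nat.card M := by
    intro h
    have h1 := Cfsg.Agent.Lib.Helper9.card_sup_dvd_of_le_normalizer hLR
    rw [← hM] at h1
    rcases (Nat.Prime.dvd_mul hpp).mp (h.trans h1) with h2 | h2
    · exact Cfsg.Agent.Lib.Helper9.not_dvd_card_of_isPGroup_of_ne hqp hRq h2
    · exact hpO (h2.trans (Subgroup.card_dvd_of_le hLO))
  have hEM : E ≤ Subgroup.normalizer (M : Set G) := by
    rw [hM]; exact le_normalizer_sup' hER hEL
  obtain ⟨ke, hke⟩ := IsPGroup.iff_card.mp hEp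
  have hcopEM : (Nat.card E).Coprime (Nat.card M) := by
    rw [hke]; exact Nat.Coprime.pow_left ke ((Nat.Prime.coprime_iff_not_dvd hpp).mpr hpM)
  have hsolvE : Group.IsSolvable ↥E := by
    haveI : Group.IsNilpotent ↥E := hEp.isNilpotent
    infer_instance
  have hUfacts : ∀ Q : Subgroup G, IsPGroup q Q → E ≤ Subgroup.normalizer (Q : Set G) → R ≤ Q →
      (Subgroup.normalizer (R : Set G) ⊓ Q ⊓ Subgroup.centralizer ({a} : Set G)) ≤ O →
      ∃ P : Sylow q ↥M, (Subgroup.normalizer (R : Set G) ⊓ Q ⊓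
          Subgroup.centralizer ({a} : Set G)) ⊔ R ≤ (P : Subgroup ↥M).map M.subtype ∧
        E ≤ Subgroup.normalizer (((P : Subgroup ↥M).map M.subtype : Subgroup G) : Set G) := by
    intro Q hQ hEQ hRQ hXO
    apply Cfsg.Agent.S0025.result E M hEM hcopEM (Or.inl hsolvE) q _ ?_ ?_ ?_
    · rw [hM]
      apply sup_le _ le_sup_left
      refine le_trans ?_ le_sup_right
      rw [hL]
      exact le_inf hXO (inf_le_left.trans inf_le_left)
    · exact hQ.to_le (sup_le (inf_le_left.trans inf_le_right) hRQ)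
    · exact le_normalizer_sup' (hXfacts Q hEQ) hER
  obtain ⟨P₁, hUP₁, hEP₁⟩ := hUfacts Q₁ hq1 hEQ1 hRQ1 hX₁O
  obtain ⟨P₂, hUP₂, hEP₂⟩ := hUfacts Q₂ hq2 hEQ2 hRQ2 hX₂O
  obtain ⟨c, hcE, hc⟩ := Cfsg.Agent.S0024.result E M hEM hcopEM (Or.inl hsolvE) q P₁ P₂ hEP₁ hEP₂
  have hconj := Cfsg.Agent.Lib.Helper9.sylow_smul_map_subtype c P₁ P₂ hc
  have hcD : (c : G) ∈ Cfsg.piCoreOf (Cfsg.primesNotDvd p) (Subgroup.centralizer (E : Set G)) := by
    apply mem_piCoreOf p E hEp hEc hEfull (c : G) hcE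
    have h1 : orderOf (c : G) ∣ Nat.card M := by
      rw [Subgroup.orderOf_coe]; exact orderOf_dvd_natCard c
    exact Nat.Coprime.coprime_dvd_left h1 ((Nat.Prime.coprime_iff_not_dvd hpp).mpr hpM).symm
  have hP₁q : IsPGroup q ↥((P₁ : Subgroup ↥M).map M.subtype) := P₁.2.map _
  obtain ⟨Q₃, hQ₃, hPQ₃⟩ := exists_max_ge (mem_inv_of_isPGroup hP₁q hEP₁)
  have hQ₃c := map_conj_mem_max hcE hQ₃
  have hRU : ∀ Q : Subgroup G,
      ¬ (Subgroup.normalizer (R : Set G) ⊓ Q ⊓ Subgroup.centralizer ({a} : Set G) ≤ R) →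
      R < (Subgroup.normalizer (R : Set G) ⊓ Q ⊓ Subgroup.centralizer ({a} : Set G)) ⊔ R := by
    intro Q h
    refine lt_of_le_of_ne le_sup_right (fun h' => h ?_)
    exact le_sup_left.trans (le_of_eq h'.symm)
  have hlt1 : Nat.card R < Nat.card ↥(Q₁ ⊓ Q₃) := by
    refine lt_of_lt_of_le (Cfsg.Agent.Lib.Helper9.card_lt_of_lt (hRU Q₁ hX₁R))
      (Subgroup.card_le_of_le ?_)
    exact le_inf (sup_le (inf_le_left.trans inf_le_right) hRQ1) (hUP₁.trans hPQ₃)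
  have hlt2 : Nat.card R < Nat.card ↥(Q₃.map (MulAut.conj (c : G)).toMonoidHom ⊓ Q₂) := by
    refine lt_of_lt_of_le (Cfsg.Agent.Lib.Helper9.card_lt_of_lt (hRU Q₂ hX₂R))
      (Subgroup.card_le_of_le ?_)
    refine le_inf ?_ (sup_le (inf_le_left.trans inf_le_right) hRQ2)
    refine hUP₂.trans ?_
    rw [← hconj]
    exact Subgroup.map_mono hPQ₃
  have hle1 : Nat.card ↥(Q₁ ⊓ Q₃) ≤ Nat.card G := Subgroup.card_le_card_group _
  have hle2 : Nat.card ↥(Q₃.map (MulAut.conj (c : G)).toMonoidHom ⊓ Q₂) ≤ Nat.card G :=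
    Subgroup.card_le_card_group _
  obtain ⟨k₁, hk₁, e₁⟩ := ih (Nat.card G - Nat.card ↥(Q₁ ⊓ Q₃)) (by omega) Q₁ hQ₁ Q₃ hQ₃ rfl
  obtain ⟨k₂, hk₂, e₂⟩ := ih (Nat.card G - Nat.card ↥(Q₃.map (MulAut.conj (c : G)).toMonoidHom ⊓ Q₂))
    (by omega) (Q₃.map (MulAut.conj (c : G)).toMonoidHom) hQ₃c Q₂ hQ₂ rfl
  refine ⟨k₂ * c * k₁, Subgroup.mul_mem _ (Subgroup.mul_mem _ hk₂ hcD) hk₁, ?_⟩
  rw [e₂, e₁, Subgroup.map_map, Subgroup.map_map]
  congr 1
  ext x
  simp [mul_assoc]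

end

end Cfsg.Agent.Lib.Helper10.Trans
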